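import Cfsg.Agent.Lib.TransvCent.CompleteDef
import Cfsg.Agent.Lib.TransvCent.AmalgamData
import Cfsg.Agent.Lib.CosetEnum.Index
import Cfsg.Agent.Lib.HeInvCent.Q

/-
General lemmas for the completions of the amalgam presentations by coset table certificates.

* `presSetup` : a presented group on numbered generators as a setup for coset tables
* `SatE` : the checked ways in which a relator on extended generators holds
* `completes_of_bound` : a bound on the generated group gives `Completes`
-/

set_option autoImplicit false

namespace Cfsg.Agent.TransvCent.Ext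

open Cfsg.Agent.CosetEnum

/-- The inverse letter. -/
def flipL (a : Nat) : Nat := if a % 2 = 0 then a + 1 else a - 1

/-- The inverse word. -/
def winvW (w : List Nat) : List Nat := (w.map flipL).reverse

/-- The substitution of a letter. -/
def subL (img : List (List Nat)) (a : Nat) : List Nat :=
  if a % 2 = 0 then img.getD (a / 2) [] else winvW (img.getD (a / 2) [])

/-- The substitution in a word. -/
def subW (img : List (List Nat)) (w : List Nat) : List Nat := w.flatMap (subL img)

variable {G : Type*} [Group G] {n : ℕ}

/-- The value of a letter on numbered elements. -/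
def evV (v : Fin (n + 1) → G) (a : Nat) : G :=
  if a % 2 = 0 then v (Fin.ofNat (n + 1) (a / 2)) else (v (Fin.ofNat (n + 1) (a / 2)))⁻¹

/-- The value of a word on numbered elements, read as a product from left to right. -/
def evE (v : Fin (n + 1) → G) (w : List Nat) : G := (w.map (evV v)).prod

theorem evW_eq_evE (f : Fin 4 → G) (w : List Nat) : evW f w = evE (n := 3) f w := rfl

theorem evE_nil (v : Fin (n + 1) → G) : evE v [] = 1 := rfl

theorem evE_append (v : Fin (n + 1) → G) (a b : List Nat) : evE v (a ++ b) = evE v a * evE v b := by
  simp [evE]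

theorem evV_flip (v : Fin (n + 1) → G) (a : Nat) : evV v (flipL a) = (evV v a)⁻¹ := by
  unfold evV flipL
  split
  · rename_i h
    rw [if_neg (by omega), show (a + 1) / 2 = a / 2 by omega]
  · rename_i h
    rw [if_pos (by omega), show (a - 1) / 2 = a / 2 by omega, inv_inv]

theorem evE_winvW (v : Fin (n + 1) → G) : ∀ w : List Nat, evE v (winvW w) = (evE v w)⁻¹
  | [] => by simp [winvW, evE]
  | a :: w => by
    rw [show winvW (a :: w) = winvW w ++ [flipL a] by simp [winvW], evE_append, evE_winvW v w,
      show a :: w = [a] ++ w from rfl, evE_append, mul_inv_rev]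
    simp [evE, evV_flip]

theorem evE_rotate (v : Fin (n + 1) → G) {w : List Nat} (h : evE v w = 1) (r : Nat) :
    evE v (w.drop r ++ w.take r) = 1 := by
  rw [← List.take_append_drop r w, evE_append] at h
  rw [evE_append, mul_eq_one_comm]
  exact h

theorem ev_reverse (el : ℕ → G) : ∀ w : List ℕ, Data.ev el w.reverse = (w.map el).prod
  | [] => rfl
  | a :: w => by
    rw [List.reverse_cons, Data.ev_append, ev_reverse el w]
    simp [Data.ev]

/-- The images of the generators given by words. -/
def imgV {m : ℕ} (f : Fin (m + 1) → G) (img : List (List Nat)) (i : Fin (n + 1)) : G :=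
  evE f (img.getD i [])

theorem evE_subW {m : ℕ} (f : Fin (m + 1) → G) (img : List (List Nat)) :
    ∀ w : List Nat, (∀ a ∈ w, a < 2 * (n + 1)) → evE (imgV (n := n) f img) w = evE f (subW img w)
  | [], _ => by simp [subW, evE]
  | a :: w, h => by
    have ha := h a List.mem_cons_self
    have hw := evE_subW f img w fun b hb => h b (List.mem_cons_of_mem a hb)
    have e : a / 2 % (n + 1) = a / 2 := Nat.mod_eq_of_lt (by omega)
    rw [show a :: w = [a] ++ w from rfl, evE_append, hw, show subW img ([a] ++ w) = subL img a ++ subW img w by
      simp [subW], evE_append]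
    congr 1
    unfold subL
    split
    · simp [evE, evV, imgV, *]
    · rw [evE_winvW]
      simp [evE, evV, imgV, *]

/-! ### Presented groups on numbered generators -/

/-- The letter as a signed generator. -/
def letP (n a : Nat) : Fin (n + 1) × Bool := (Fin.ofNat (n + 1) (a / 2), Nat.beq (a % 2) 0)

/-- The presented group of some relators as a setup. -/
def presSetup (n : ℕ) (rels : List (List Nat)) : Setup (Fin (n + 1)) where
  edges := []
  extra := rels.map fun w => FreeGroup.mk (w.map (letP n))
  gens := List.finRange (n + 1)
  pos := (List.range (n + 1)).map (2 * ·)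
  lt := (List.range (2 * (n + 1))).map (letP n)

/-- The letters of such a setup. -/
def presLetters (n : ℕ) : Data := letterData (2 * (n + 1)) ((List.range (2 * (n + 1))).map flipL)

/-- The generators as words. -/
def genW (n : ℕ) (l : List Nat) : List (FreeGroup (Fin (n + 1))) :=
  l.map fun a => FreeGroup.mk [letP n a]

/-- A map commutes with the value of a word. -/
theorem map_ev' {M N : Type*} [Group M] [Group N] (f : M →* N) (el : ℕ → M) :
    ∀ w : List ℕ, f (Data.ev el w) = Data.ev (fun a => f (el a)) w
  | [] => map_one f
  | a :: v => by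
    show f (Data.ev el v * el a) = Data.ev (fun a => f (el a)) v * f (el a)
    rw [map_mul, map_ev' f el v]

theorem presSetup_gens (n : ℕ) (rels : List (List Nat)) : ∀ x, x ∈ (presSetup n rels).gens :=
  fun x => List.mem_finRange x

theorem lift_letP (v : Fin (n + 1) → G) :
    ∀ w : List Nat, FreeGroup.lift v (FreeGroup.mk (w.map (letP n))) = evE v w := by
  intro w
  rw [FreeGroup.lift_mk, evE, List.map_map]
  refine congrArg List.prod (List.map_congr_left fun a _ => ?_)
  show (bif Nat.beq (a % 2) 0 then _ else _) = _
  unfold evV
  rcases Nat.mod_two_eq_zero_or_one a with h | h <;> simp [h, letP] <;> rfl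

theorem mem_presRels {rels : List (List Nat)} {r : FreeGroup (Fin (n + 1))}
    (h : r ∈ (presSetup n rels).rels) : ∃ w ∈ rels, FreeGroup.mk (w.map (letP n)) = r := by
  rcases h with ⟨x, hx, _⟩ | h
  · simp [presSetup, Cfsg.Spor.coxNodes] at hx
  · exact List.mem_map.mp h

/-- The map of the presented group given by elements satisfying the relators. -/
def presHom (v : Fin (n + 1) → G) {rels : List (List Nat)} (hv : ∀ w ∈ rels, evE v w = 1) :
    (presSetup n rels).G →* G :=
  PresentedGroup.toGroup (f := v) fun r hr => by
    obtain ⟨w, hw, rfl⟩ := mem_presRels hr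
    rw [lift_letP, hv w hw]

theorem presEl_eq {rels : List (List Nat)} {a : ℕ} (ha : a < 2 * (n + 1)) :
    (presSetup n rels).el a = evV (fun i => (PresentedGroup.of i : (presSetup n rels).G)) a := by
  have h : (presSetup n rels).lt[a]? = some (letP n a) := by
    simp [presSetup, List.getElem?_range ha]
  unfold Setup.el evV
  rw [h]
  rcases Nat.mod_two_eq_zero_or_one a with e | e <;> simp [letP, e]

theorem presRel_ev {rels : List (List Nat)} {w : List Nat} (hw : w ∈ rels) (hlt : ∀ a ∈ w, a < 2 * (n + 1)) :
    Data.ev (presSetup n rels).el w.reverse = 1 := by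
  rw [ev_reverse, List.map_congr_left (fun a ha => presEl_eq (rels := rels) (hlt a ha))]
  show evE _ w = 1
  rw [← lift_letP]
  have e : (FreeGroup.lift fun i => (PresentedGroup.of i : (presSetup n rels).G)) =
      PresentedGroup.mk (presSetup n rels).rels :=
    FreeGroup.ext_hom _ _ fun i => by simp [PresentedGroup.of]
  rw [e]
  exact PresentedGroup.one_of_mem (Or.inr (List.mem_map.mpr ⟨w, hw, rfl⟩))

/-- All letters are in range. -/
def lettersLt (k : Nat) (rels : List (List Nat)) : Bool := rels.all fun w => w.all fun a => Nat.blt a k

theorem lt_of_lettersLt {k : Nat} {rels : List (List Nat)} (h : lettersLt k rels = true) {w : List Nat}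
    (hw : w ∈ rels) {a : Nat} (ha : a ∈ w) : a < k :=
  Nat.le_of_ble_eq_true (List.all_eq_true.mp (List.all_eq_true.mp h w hw) a ha)

/-- All loops of a certificate on all letters are relators, inverse pairs or subgroup generators. -/
theorem presTable {rels : List (List Nat)} (hlt : lettersLt (2 * (n + 1)) rels = true) :
    ∀ w ∈ rels.map List.reverse,
      Data.ev (fun a => (presSetup n rels).el ((List.range (2 * (n + 1))).getD a 0)) w = 1 := by
  intro w hw
  obtain ⟨v, hv, rfl⟩ := List.mem_map.mp hw
  refine Eq.trans (Setup.ev_congr _ fun a ha => ?_) (presRel_ev hv fun a ha => lt_of_lettersLt hlt hv ha)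
  rw [List.getD_eq_getElem?_getD, List.getElem?_range (lt_of_lettersLt hlt hv (List.mem_reverse.mp ha))]
  rfl

/-- Words with the same permutations in a faithful table have the same values. -/
theorem evE_of_trace {rels : List (List Nat)} {D : Data} (hp : D.PermFacts) (hk : D.k = 2 * (n + 1))
    (hl : (presSetup n rels).lettersOK D = true) (hr : (presSetup n rels).relsOK D = true)
    (hinj : Function.Injective (Setup.hom (presSetup_gens n rels) hl hp hr))
    (v : Fin (n + 1) → G) (hv : ∀ w ∈ rels, evE v w = 1) {w : List Nat} (hw : ∀ a ∈ w, a < 2 * (n + 1))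
    (ht : Nat.beq (D.trace w.reverse) D.idv = true) : evE v w = 1 := by
  have hwk : ∀ a ∈ w.reverse, a < D.k := fun a ha => hk ▸ hw a (List.mem_reverse.mp ha)
  have h1 : Data.ev (Setup.perm D hp) w.reverse = 1 :=
    Setup.closed_ev hp (by simp [Data.closed, ht, List.all_eq_true]; simpa using fun a ha => hk ▸ hw a ha)
  have h2 : Data.ev (presSetup n rels).el w.reverse = 1 := by
    apply hinj
    rw [map_one, map_ev', ← h1]
    exact Setup.ev_congr _ fun a ha => Setup.hom_el (presSetup_gens n rels) hl hp hr (hwk a ha)
  rw [ev_reverse, List.map_congr_left (fun a ha => presEl_eq (rels := rels) (hw a ha))] at h2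
  have h3 := congrArg (presHom v hv) h2
  rw [map_one, map_list_prod, List.map_map] at h3
  refine Eq.trans (congrArg List.prod (List.map_congr_left fun a _ => ?_)) h3
  show evV v a = presHom v hv (evV _ a)
  unfold evV
  split <;> simp [presHom]

end Cfsg.Agent.TransvCent.Ext
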