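import Cfsg.Agent.Lib.TransvCent.Ext.Cert

/-
Bounds for presented groups on extended generators, and the completion from the checked data.

* `bound_hom` : the order bound of a presented subgroup passes to the extended group
* `completes_of_data` : the completion from the certificates
-/

set_option autoImplicit false

namespace Cfsg.Agent.TransvCent.Ext

open Cfsg.Agent.CosetEnum

/-- A letter moved along a map of generators. -/
def letM (emap : List Nat) (a : Nat) : Nat := 2 * emap.getD (a / 2) 0 + a % 2

/-- The loops available on all letters: relators and inverse pairs. -/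
def allLoops (n : ℕ) (rels : List (List Nat)) : List (List Nat) :=
  rels.map List.reverse ++ (List.range (2 * (n + 1))).map fun a => [a, flipL a]

theorem allLoops_one {n : ℕ} {rels : List (List Nat)} (hlt : lettersLt (2 * (n + 1)) rels = true) :
    ∀ w ∈ allLoops n rels,
      Data.ev (fun a => (presSetup n rels).el ((List.range (2 * (n + 1))).getD a 0)) w = 1 := by
  intro w hw
  rcases List.mem_append.mp hw with h | h
  · exact presTable hlt w h
  · obtain ⟨a, ha, rfl⟩ := List.mem_map.mp h
    have ha := List.mem_range.mp ha
    have hb : flipL a < 2 * (n + 1) := by unfold flipL; split <;> omega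
    show (1 * (presSetup n rels).el _) * (presSetup n rels).el _ = 1
    rw [List.getD_eq_getElem?_getD, List.getD_eq_getElem?_getD, List.getElem?_range ha, List.getElem?_range hb,
      one_mul]
    simp only [Option.getD_some]
    rw [presEl_eq ha, presEl_eq hb, evV_flip, inv_mul_cancel]

theorem bound_hom {nx ne : ℕ} {xrels erels : List (List Nat)} {c : ℕ}
    (hx : Nat.card (presSetup nx xrels).G ≤ c ∧ Nat.card (presSetup nx xrels).G ≠ 0) (emap : List Nat)
    (hlt : lettersLt (2 * (nx + 1)) xrels = true) (helt : lettersLt (2 * (ne + 1)) erels = true)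
    (hlen : emap.length = nx + 1) (hm : (xrels.all fun w => erels.contains (w.map (letM emap))) = true) :
    Nat.card ((presSetup ne erels).closureOf (genW ne (emap.map (2 * ·)))) ≤ c ∧
      Nat.card ((presSetup ne erels).closureOf (genW ne (emap.map (2 * ·)))) ≠ 0 := by
  let v : Fin (nx + 1) → (presSetup ne erels).G := fun i => PresentedGroup.of (Fin.ofNat (ne + 1) (emap.getD i 0))
  let o : Fin (ne + 1) → (presSetup ne erels).G := PresentedGroup.of
  have hv : ∀ w ∈ xrels, evE v w = 1 := by
    intro w hw
    have hmem : w.map (letM emap) ∈ erels := by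
      simpa using List.all_eq_true.mp hm w hw
    have h := presRel_ev hmem fun a ha => lt_of_lettersLt helt hmem ha
    rw [ev_reverse, List.map_congr_left
      (fun a ha => presEl_eq (rels := erels) (lt_of_lettersLt helt hmem ha)), List.map_map] at h
    refine Eq.trans (congrArg List.prod (List.map_congr_left fun a ha => ?_)) h
    have ha' := lt_of_lettersLt hlt hw ha
    have e : ((Fin.ofNat (nx + 1) (a / 2) : Fin (nx + 1)) : ℕ) = a / 2 := Nat.mod_eq_of_lt (by omega)
    show evV v a = evV o (letM emap a)
    unfold evV letM
    have h1 : (2 * emap.getD (a / 2) 0 + a % 2) / 2 = emap.getD (a / 2) 0 := by omega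
    rcases Nat.mod_two_eq_zero_or_one a with h0 | h0
    · rw [if_pos h0, if_pos (by omega), h1]; simp only [v, o, e]
    · rw [if_neg (by omega), if_neg (by omega), h1]; simp only [v, o, e]
  set ψ := presHom v hv
  haveI : Finite (presSetup nx xrels).G := Nat.finite_of_card_ne_zero hx.2
  haveI : Finite ψ.range := Finite.of_surjective _ ψ.rangeRestrict_surjective
  have hle : (presSetup ne erels).closureOf (genW ne (emap.map (2 * ·))) ≤ ψ.range := by
    rw [Setup.closureOf, Subgroup.closure_le]
    rintro _ ⟨h, hh, rfl⟩
    obtain ⟨a, ha, rfl⟩ := List.mem_map.mp hh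
    obtain ⟨e, he, rfl⟩ := List.mem_map.mp ha
    obtain ⟨i, hi, rfl⟩ := List.getElem_of_mem he
    refine ⟨PresentedGroup.of ⟨i, hlen ▸ hi⟩, ?_⟩
    have hL : letP ne (2 * emap[i]) = (Fin.ofNat (ne + 1) emap[i], true) := by
      simp [letP]
    show PresentedGroup.toGroup _ (PresentedGroup.of _) = PresentedGroup.mk _ (FreeGroup.mk [letP ne (2 * emap[i])])
    rw [PresentedGroup.toGroup.of, hL]
    show PresentedGroup.of (Fin.ofNat (ne + 1) (emap.getD i 0)) = _
    rw [List.getD_eq_getElem?_getD, List.getElem?_eq_getElem hi]
    rfl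
  haveI : Finite ((presSetup ne erels).closureOf (genW ne (emap.map (2 * ·)))) :=
    Finite.of_injective _ (Subgroup.inclusion_injective hle)
  refine ⟨?_, Nat.card_pos.ne'⟩
  refine le_trans (Nat.card_le_card_of_injective _ (Subgroup.inclusion_injective hle)) ?_
  exact le_trans (Nat.card_le_card_of_surjective _ ψ.rangeRestrict_surjective) hx.1

/-- The checked certificates for one target. -/
structure CompData (rels : List (List Nat)) where
  hs : List (List Nat × Nat × List Nat)
  nx : Nat
  ne : Nat
  imgX : List (List Nat)
  img : List (List Nat)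
  DX : Data
  xc : List (List Nat)
  xp : List PCert
  ec : List (List Nat)
  ep : List PCert
  ex : List XCert

namespace CompData

variable {rels : List (List Nat)} (C : CompData rels)

/-- The relators of the subgroup. -/
def xrels : List (List Nat) := C.xc ++ C.xp.map PCert.w

/-- The relators on the extended generators. -/
def erels : List (List Nat) := C.ec ++ C.ep.map PCert.w ++ C.ex.map XCert.w

/-- The checks of the certificates. -/
noncomputable def ok : Bool :=
  (qWords.all fun w => rels.contains w) && ((C.hs.all fun t => rels.contains (t.1 ++ [t.2.1] ++ t.2.2)) &&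
  ((C.xc.all (cOK C.imgX)) && ((C.xp.all (pOK rels C.hs C.imgX)) && ((C.ec.all (cOK C.img)) &&
  ((C.ep.all (pOK rels C.hs C.img)) && (lettersLt (2 * (C.nx + 1)) C.xrels &&
  (C.ex.all (xOK C.DX C.hs C.img C.imgX (2 * (C.nx + 1))))))))))

/-- The extended relators hold whenever the amalgam relators hold. -/
theorem sat (hok : C.ok = true) (hX : XTable C.nx C.xrels C.DX) {G : Type*} [Group G] {f : Fin 4 → G}
    (hf : SatRels rels f) : ∀ w ∈ C.erels, evW f (subW C.img w) = 1 := by
  simp only [ok, Bool.and_eq_true, List.all_eq_true, List.contains_iff_mem] at hok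
  obtain ⟨h6, hhs, hxc, hxp, hec, hep, hlt, hex⟩ := hok
  have hnil : ∀ {v : List Nat}, cEq v [] = true → evW f v = 1 := fun h => cEq_sound h6 hf h
  have hx : ∀ w ∈ C.xrels, evE (imgV (n := C.nx) (m := 3) f C.imgX) w = 1 := by
    intro w hw
    rw [evE_subW _ _ _ fun a ha => lt_of_lettersLt hlt hw ha, ← evW_eq_evE]
    rcases List.mem_append.mp hw with h | h
    · exact hnil (hxc w h)
    · obtain ⟨c, hc, rfl⟩ := List.mem_map.mp h
      exact pOK_sound h6 hhs hf (hxp c hc)
  intro w hw
  rcases List.mem_append.mp hw with h | h
  · rcases List.mem_append.mp h with h | h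
    · exact hnil (hec w h)
    · obtain ⟨c, hc, rfl⟩ := List.mem_map.mp h
      exact pOK_sound h6 hhs hf (hep c hc)
  · obtain ⟨c, hc, rfl⟩ := List.mem_map.mp h
    exact xOK_sound h6 hhs hf hX hx (hex c hc)

/-- The completion from the certificates and the bound of the extended group. -/
theorem completes.{u} (hok : C.ok = true) (hX : XTable C.nx C.xrels C.DX) (hne : 4 ≤ C.ne + 1)
    (himg : C.img.take 4 == [[0], [2], [4], [6]]) (hlt : lettersLt (2 * (C.ne + 1)) C.erels = true) {T : Type}
    [Group T] (hE : Nat.card (presSetup C.ne C.erels).G ≤ Nat.card T ∧ Nat.card (presSetup C.ne C.erels).G ≠ 0)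
    {t : Fin 4 → T} (hgen : Subgroup.closure (Set.range t) = ⊤) (hT : IsSimpleGroup T) (hsat : SatRels rels t) :
    Completes.{u} T t rels :=
  completes_of_bound hgen hT hsat fun _ _ f hf => bound_of_ext hne himg hlt hE f (C.sat hok hX hf)

end CompData

end Cfsg.Agent.TransvCent.Ext
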