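import Cfsg.Agent.Lib.TransvCent.Ext.Base
import Cfsg.Agent.Lib.HeInvCent.Cap

/-
Checked reasons for relators on extended generators, and the completion from an order bound.

* `satCert` : certified words hold whenever the amalgam relators hold
* `completes_of_cert` : the completion from certified relators and a bound on the extended presented group
-/

set_option autoImplicit false

namespace Cfsg.Agent.TransvCent.Ext

open Cfsg.Agent.CosetEnum

/-- The six relators of the centraliser. -/
def qWords : List (List Nat) := [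
  [0, 0, 0, 0, 0, 0, 0],
  [2, 2, 2],
  [2, 0, 2, 0, 2, 0, 2, 0],
  [2, 0, 0, 2, 0, 0, 0, 2, 0, 0, 2, 0, 0, 0],
  [2, 1, 2, 1, 2, 0, 0, 2, 1, 2, 1, 2, 0, 0],
  [2, 1, 3, 0, 3, 0, 0, 2, 1, 3, 0, 3, 0, 0]]

/-- A letter as a signed generator of the centraliser. -/
def letQ (a : Nat) : HeInvCent.QGen × Bool := (if a < 2 then .x else .y, Nat.beq (a % 2) 0)

theorem qRels_eq : HeInvCent.qRels = qWords.map fun w => FreeGroup.mk (w.map letQ) := rfl

variable {G : Type*} [Group G]

/-- The images of the two generators of the centraliser. -/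
def qVal (f : Fin 4 → G) : HeInvCent.QGen → G
  | .x => f 0
  | .y => f 1

theorem lift_letQ (f : Fin 4 → G) (w : List Nat) (h : ∀ a ∈ w, a < 4) :
    FreeGroup.lift (qVal f) (FreeGroup.mk (w.map letQ)) = evW f w := by
  rw [FreeGroup.lift_mk, evW, List.map_map]
  refine congrArg List.prod (List.map_congr_left fun a ha => ?_)
  have := h a ha
  interval_cases a <;> rfl

/-- Two words in the first two generators have equal images in the centraliser. -/
noncomputable def cEq (v w : List Nat) : Bool :=
  v.all (fun a => Nat.blt a 4) && (w.all (fun a => Nat.blt a 4) &&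
    Nat.beq (HeInvCent.slImg.trace v.reverse) (HeInvCent.slImg.trace w.reverse))

theorem cEq_sound {rels : List (List Nat)} (hsix : ∀ w ∈ qWords, w ∈ rels) {f : Fin 4 → G}
    (hf : SatRels rels f) {v w : List Nat} (h : cEq v w = true) : evW f v = evW f w := by
  unfold cEq at h
  simp only [Bool.and_eq_true, List.all_eq_true, Nat.blt_eq] at h
  obtain ⟨hv, hw, ht⟩ := h
  have ht := Nat.eq_of_beq_eq_true ht
  obtain ⟨hp, hl, hr⟩ := HeInvCent.slImg_facts
  have hk : HeInvCent.slImg.k = 4 := rfl
  let S := HeInvCent.qSetup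
  let ψ : S.G →* G := PresentedGroup.toGroup (f := qVal f) (by
    intro r hr'
    rcases hr' with ⟨x, hx, _⟩ | hr'
    · simp [S, HeInvCent.qSetup, Cfsg.Spor.coxNodes] at hx
    · rw [show S.extra = HeInvCent.qRels from rfl, qRels_eq] at hr'
      obtain ⟨u, hu, rfl⟩ := List.mem_map.mp hr'
      rw [lift_letQ f u ?_]
      · exact hf u (hsix u hu)
      · revert u; decide)
  have hψ : ∀ a, a < 4 → ψ (S.el a) = evL f a := by
    intro a ha
    have hx : ψ (PresentedGroup.of HeInvCent.QGen.x) = f 0 := PresentedGroup.toGroup.of _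
    have hy : ψ (PresentedGroup.of HeInvCent.QGen.y) = f 1 := PresentedGroup.toGroup.of _
    interval_cases a
    · exact hx
    · exact (map_inv ψ _).trans (congrArg (·⁻¹) hx)
    · exact hy
    · exact (map_inv ψ _).trans (congrArg (·⁻¹) hy)
  have key : ∀ u : List Nat, (∀ a ∈ u, a < 4) → ψ (Data.ev S.el u.reverse) = evW f u := by
    intro u hu
    rw [ev_reverse, map_list_prod, List.map_map]
    exact congrArg List.prod (List.map_congr_left fun a ha => hψ a (hu a ha))
  rw [← key v hv, ← key w hw]
  refine congrArg ψ (HeInvCent.slRep_inj ?_)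
  have img : ∀ u : List Nat, (∀ a ∈ u, a < 4) →
      HeInvCent.slRep (Data.ev S.el u.reverse) = Data.ev (Setup.perm HeInvCent.slImg hp) u.reverse := by
    intro u hu
    rw [map_ev']
    exact Setup.ev_congr _ fun a ha =>
      Setup.hom_el HeInvCent.qSetup_gens hl hp hr (hk ▸ hu a (List.mem_reverse.mp ha))
  rw [img v hv, img w hw]
  refine Equiv.ext fun i => Fin.ext ?_
  have hlane : ∀ u : List Nat, (∀ a ∈ u, a < 4) →
      (Data.ev (Setup.perm HeInvCent.slImg hp) u.reverse i : ℕ) =
        lane HeInvCent.slImg.B (HeInvCent.slImg.trace u.reverse) i := by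
    intro u hu
    have hu' : ∀ a ∈ u.reverse, a < HeInvCent.slImg.k := fun a ha => hk ▸ hu a (List.mem_reverse.mp ha)
    rw [Setup.ev_perm hp _ hu', HeInvCent.lane_trace hp hu' (lt_of_lt_of_le i.2 hp.hnN)]
  rw [hlane v hv, hlane w hw, ht]

/-! ### Certificates -/

/-- Equal pairs coming from relators with one special letter `a`, given as `(A, a, B)`. -/
def eqPairs (hs : List (List Nat × Nat × List Nat)) : List (List Nat × List Nat) :=
  hs.flatMap fun t => [([t.2.1], winvW t.1 ++ winvW t.2.2), ([flipL t.2.1], winvW (winvW t.1 ++ winvW t.2.2))]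

/-- A pair of equal words. -/
noncomputable def pairOK (eqs : List (List Nat × List Nat)) (p : List Nat × List Nat) : Bool :=
  p.1 == p.2 || (cEq p.1 p.2 || eqs.contains p)

/-- The left sides. -/
def flat₁ (ps : List (List Nat × List Nat)) : List Nat := ps.flatMap Prod.fst

/-- The right sides. -/
def flat₂ (ps : List (List Nat × List Nat)) : List Nat := ps.flatMap Prod.snd

/-- A relator, replaced piece by piece, rotated, replaced again, gives the word. -/
structure PCert where
  w : List Nat
  ps : List (List Nat × List Nat)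
  rot : Nat
  qs : List (List Nat × List Nat)

/-- A word that holds in a subgroup with a faithful table gives the word. -/
structure XCert where
  w : List Nat
  wx : List Nat
  ps : List (List Nat × List Nat)

variable {rels : List (List Nat)} {hs : List (List Nat × Nat × List Nat)} {f : Fin 4 → G}

theorem eqPairs_sound (hhs : ∀ t ∈ hs, t.1 ++ [t.2.1] ++ t.2.2 ∈ rels) (hf : SatRels rels f) :
    ∀ p ∈ eqPairs hs, evW f p.1 = evW f p.2 := by
  intro p hp
  obtain ⟨⟨A, a, B⟩, ht, hp⟩ := List.mem_flatMap.mp hp
  have h := hf _ (hhs _ ht)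
  rw [evW_eq_evE, evE_append, evE_append] at h
  have e : evE (n := 3) f [a] = evE (n := 3) f (winvW A ++ winvW B) := by
    rw [evE_append, evE_winvW, evE_winvW]
    rw [show evE (n := 3) f [a] = (evE (n := 3) f A)⁻¹ * (evE (n := 3) f A * evE (n := 3) f [a] * evE (n := 3) f B) *
      (evE (n := 3) f B)⁻¹ by group, h, mul_one]
  simp only [List.mem_cons, List.not_mem_nil, or_false] at hp
  rcases hp with rfl | rfl
  · exact e
  · show evW f [flipL a] = evW f (winvW (winvW A ++ winvW B))
    rw [evW_eq_evE, evW_eq_evE, evE_winvW, ← e, show [flipL a] = winvW [a] from rfl, evE_winvW]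

theorem pairs_sound (hsix : ∀ w ∈ qWords, w ∈ rels) (hhs : ∀ t ∈ hs, t.1 ++ [t.2.1] ++ t.2.2 ∈ rels)
    (hf : SatRels rels f) : ∀ ps : List (List Nat × List Nat), (ps.all (pairOK (eqPairs hs))) = true →
    evW f (flat₁ ps) = evW f (flat₂ ps)
  | [], _ => rfl
  | p :: ps, h => by
    simp only [List.all_cons, Bool.and_eq_true] at h
    have ih := pairs_sound hsix hhs hf ps h.2
    rw [evW_eq_evE, evW_eq_evE] at ih ⊢
    rw [show flat₁ (p :: ps) = p.1 ++ flat₁ ps from rfl, show flat₂ (p :: ps) = p.2 ++ flat₂ ps from rfl,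
      evE_append, evE_append, ih]
    congr 1
    have hp := h.1
    simp only [pairOK, Bool.or_eq_true, List.contains_iff_mem, beq_iff_eq] at hp
    rcases hp with e | e | e
    · rw [e]
    · exact cEq_sound hsix hf e
    · exact eqPairs_sound hhs hf p e

/-- The check of a piece certificate. -/
noncomputable def pOK (rels : List (List Nat)) (hs : List (List Nat × Nat × List Nat)) (img : List (List Nat))
    (c : PCert) : Bool :=
  rels.contains (flat₁ c.ps) && (c.ps.all (pairOK (eqPairs hs)) && (c.qs.all (pairOK (eqPairs hs)) &&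
    ((flat₁ c.qs == (flat₂ c.ps).drop c.rot ++ (flat₂ c.ps).take c.rot) && flat₂ c.qs == subW img c.w)))

theorem pOK_sound (hsix : ∀ w ∈ qWords, w ∈ rels) (hhs : ∀ t ∈ hs, t.1 ++ [t.2.1] ++ t.2.2 ∈ rels)
    (hf : SatRels rels f) {img : List (List Nat)} {c : PCert} (h : pOK rels hs img c = true) :
    evW f (subW img c.w) = 1 := by
  simp only [pOK, Bool.and_eq_true, List.contains_iff_mem, beq_iff_eq] at h
  obtain ⟨hr, hps, hqs, e1, e2⟩ := h
  rw [← e2, ← pairs_sound hsix hhs hf c.qs hqs, e1, evW_eq_evE]
  refine evE_rotate _ ?_ _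
  rw [← evW_eq_evE, ← pairs_sound hsix hhs hf c.ps hps]
  exact hf _ hr

/-- The check of a certificate from a subgroup table. -/
noncomputable def xOK (D : Data) (hs : List (List Nat × Nat × List Nat)) (img imgX : List (List Nat)) (kx : Nat)
    (c : XCert) : Bool :=
  c.wx.all (fun a => Nat.blt a kx) && (Nat.beq (D.trace c.wx.reverse) D.idv &&
    (c.ps.all (pairOK (eqPairs hs)) && ((flat₁ c.ps == subW imgX c.wx) && flat₂ c.ps == subW img c.w)))

/-- Words substituted to consequences of the relations of the centraliser. -/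
noncomputable def cOK (img : List (List Nat)) (w : List Nat) : Bool := cEq (subW img w) []

/-- A faithful table for the presented subgroup. -/
structure XTable (nx : Nat) (xrels : List (List Nat)) (D : Data) : Prop where
  perm : D.PermFacts
  k : D.k = 2 * (nx + 1)
  letters : (presSetup nx xrels).lettersOK D = true
  rels : (presSetup nx xrels).relsOK D = true
  inj : Function.Injective (Setup.hom (presSetup_gens nx xrels) letters perm rels)

theorem xOK_sound (hsix : ∀ w ∈ qWords, w ∈ rels) (hhs : ∀ t ∈ hs, t.1 ++ [t.2.1] ++ t.2.2 ∈ rels)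
    (hf : SatRels rels f) {nx : Nat} {xrels : List (List Nat)} {D : Data} (hX : XTable nx xrels D)
    {imgX img : List (List Nat)} (hx : ∀ w ∈ xrels, evE (imgV (n := nx) (m := 3) f imgX) w = 1)
    {c : XCert} (h : xOK D hs img imgX (2 * (nx + 1)) c = true) : evW f (subW img c.w) = 1 := by
  simp only [xOK, Bool.and_eq_true, List.all_eq_true, Nat.blt_eq, beq_iff_eq] at h
  obtain ⟨hlt, ht, hps, e1, e2⟩ := h
  rw [← e2, ← pairs_sound hsix hhs hf c.ps (List.all_eq_true.mpr hps), e1, evW_eq_evE, ← evE_subW _ _ _ hlt]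
  exact evE_of_trace hX.perm hX.k hX.letters hX.rels hX.inj _ hx hlt ht

/-- The completion from a bound on the order of the generated subgroup. -/
theorem completes_of_bound.{u} {T : Type} [Group T] {t : Fin 4 → T} (hgen : Subgroup.closure (Set.range t) = ⊤)
    (hT : IsSimpleGroup T) {rels : List (List Nat)} (hsat : SatRels rels t)
    (hb : ∀ (G : Type u) [Group G] (f : Fin 4 → G), SatRels rels f →
      Nat.card (Subgroup.closure (Set.range f)) ≤ Nat.card T ∧ Nat.card (Subgroup.closure (Set.range f)) ≠ 0) :
    Completes.{u} T t rels := by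
  refine ⟨hgen, fun G _ f hf h0 => ?_⟩
  let p : Fin 4 → G × ULift.{u} T := fun i => (f i, ⟨t i⟩)
  have key : ∀ (a : Nat), evL p a = (evL f a, ⟨evL t a⟩) := by
    intro a; unfold evL; split <;> rfl
  have hval : ∀ w : List Nat, evW p w = (evW f w, ⟨evW t w⟩) := by
    intro w
    induction w with
    | nil => rfl
    | cons a w ih =>
      show evL p a * evW p w = _
      rw [ih, key]
      rfl
  have hp : SatRels rels p := fun w hw => by rw [hval w, hf w hw, hsat w hw]; rfl
  obtain ⟨hle, hne⟩ := hb (G × ULift.{u} T) p hp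
  set K := Subgroup.closure (Set.range p) with hK
  let π : K →* T := (MulEquiv.ulift.toMonoidHom.comp (MonoidHom.snd G (ULift.{u} T))).comp K.subtype
  haveI : Finite K := Nat.finite_of_card_ne_zero hne
  have hsurj : Function.Surjective π := by
    rw [← MonoidHom.range_eq_top, eq_top_iff, ← hgen, Subgroup.closure_le]
    rintro _ ⟨i, rfl⟩
    exact ⟨⟨p i, Subgroup.subset_closure ⟨i, rfl⟩⟩, rfl⟩
  have hbij : Function.Bijective π := by
    refine (Nat.bijective_iff_surjective_and_card _).mpr ⟨hsurj, le_antisymm hle ?_⟩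
    exact Nat.card_le_card_of_surjective _ hsurj
  let e : K ≃* T := MulEquiv.ofBijective π hbij
  let φ : T →* G := (MonoidHom.fst G (ULift.{u} T)).comp (K.subtype.comp e.symm.toMonoidHom)
  have hφ : ∀ i, φ (t i) = f i := fun i => by
    have he : e.symm (t i) = ⟨p i, Subgroup.subset_closure ⟨i, rfl⟩⟩ := e.symm_apply_eq.mpr rfl
    show ((e.symm (t i) : K) : G × ULift.{u} T).1 = f i
    rw [he]
  refine ⟨φ, ?_, ?_, hφ⟩
  · rw [← MonoidHom.ker_eq_bot_iff]
    rcases (inferInstance : φ.ker.Normal).eq_bot_or_eq_top with h | h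
    · exact h
    · exfalso
      have : t 0 ∈ φ.ker := h ▸ Subgroup.mem_top _
      exact h0 (hφ 0 ▸ this)
  · rw [MonoidHom.range_eq_map, ← hgen, MonoidHom.map_closure, ← Set.range_comp]
    exact congrArg Subgroup.closure (congrArg Set.range (funext hφ))

/-- The bound for elements satisfying the relators, from certified extended relators and their group. -/
theorem bound_of_ext.{u} {ne : Nat} {erels img : List (List Nat)} (hn : 4 ≤ ne + 1)
    (himg : img.take 4 == [[0], [2], [4], [6]]) (hlt : lettersLt (2 * (ne + 1)) erels = true) {N : Nat}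
    (hE : Nat.card (presSetup ne erels).G ≤ N ∧ Nat.card (presSetup ne erels).G ≠ 0)
    {G : Type u} [Group G] (f : Fin 4 → G) (hsat : ∀ w ∈ erels, evW f (subW img w) = 1) :
    Nat.card (Subgroup.closure (Set.range f)) ≤ N ∧ Nat.card (Subgroup.closure (Set.range f)) ≠ 0 := by
  have hv : ∀ w ∈ erels, evE (imgV (n := ne) (m := 3) f img) w = 1 := fun w hw => by
    rw [evE_subW _ _ _ fun a ha => lt_of_lettersLt hlt hw ha, ← evW_eq_evE]
    exact hsat w hw
  haveI : Finite (presSetup ne erels).G := Nat.finite_of_card_ne_zero hE.2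
  set ψ := presHom _ hv with hψ
  have himg' : img.take 4 = [[0], [2], [4], [6]] := by simpa using himg
  have hgen : Subgroup.closure (Set.range f) ≤ ψ.range := by
    rw [Subgroup.closure_le]
    rintro _ ⟨i, rfl⟩
    refine ⟨PresentedGroup.of ⟨i, lt_of_lt_of_le i.2 hn⟩, ?_⟩
    show PresentedGroup.toGroup _ (PresentedGroup.of _) = f i
    rw [PresentedGroup.toGroup.of]
    have e : img.getD i [] = (img.take 4).getD i [] := by
      rw [List.getD_eq_getElem?_getD, List.getD_eq_getElem?_getD, List.getElem?_take, if_pos i.2]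
    show evE f (img.getD i []) = f i
    rw [e, himg']
    fin_cases i <;> simp [evE, evV] <;> rfl
  haveI : Finite ψ.range := Finite.of_surjective _ ψ.rangeRestrict_surjective
  haveI : Finite (Subgroup.closure (Set.range f)) := Finite.of_injective _ (Subgroup.inclusion_injective hgen)
  refine ⟨?_, Nat.card_pos.ne'⟩
  refine le_trans (Nat.card_le_card_of_injective _ (Subgroup.inclusion_injective hgen)) ?_
  exact le_trans (Nat.card_le_card_of_surjective _ ψ.rangeRestrict_surjective) hE.1

end Cfsg.Agent.TransvCent.Ext
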