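/-
Certificates for the relators on extended generators for M24 (generated data).
-/
import Cfsg.Agent.Lib.TransvCent.Ext.Cert

set_option autoImplicit false
set_option maxRecDepth 100000
set_option Elab.async false

namespace Cfsg.Agent.TransvCent.Ext

open Cfsg.Agent.CosetEnum

/-- The words for the extended generators. -/
def imgM24 : List (List Nat) := [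
  [0],
  [2],
  [4],
  [6],
  [0, 3, 0, 3, 0, 3, 1, 3, 0, 2],
  [1, 3, 1, 1, 1, 2, 1, 2],
  [0, 0, 2, 0, 3, 0, 2, 0, 0, 2, 0, 3, 0, 2],
  [1, 1, 2, 1, 1, 3, 1, 2, 1, 1, 3, 0],
  [1, 2, 1, 1, 2, 0, 0, 3, 0, 2],
  [0, 2, 1, 2, 0, 3, 0, 2, 1, 3, 0, 3],
  [1, 1, 1, 2, 0, 3, 0, 2, 1, 2, 0, 2],
  [0, 2, 0, 2, 1, 2, 1, 3, 1, 1, 3],
  [0, 0, 3, 1, 1, 3, 0, 2, 1, 2, 0, 2],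
  [2, 0, 0, 0, 3, 1, 2, 0, 2, 1, 1, 2],
  [1, 1, 1, 2, 1, 3, 0, 0, 3, 1, 2, 0],
  [3, 0, 0, 0, 2, 1, 1, 2, 0, 2],
  [0, 0, 3, 0, 3, 1, 2, 1, 2, 1],
  [1, 1, 2, 1, 1, 2, 0, 2, 1, 2],
  [1, 2, 1, 3, 0, 2, 1, 2, 1, 1, 1, 3],
  [1, 1, 3, 0, 0, 2, 1, 2],
  [2, 1, 1, 1, 3, 1, 2, 1, 1, 1, 2],
  [2, 0, 0, 2, 0, 3, 0, 2, 1, 1, 3, 0],
  [0, 0, 0, 3, 0, 0, 2, 0, 0, 3],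
  [2, 1, 3, 0, 3, 0],
  [1, 1, 2, 0, 0, 3, 0, 3, 1, 1],
  [1, 1, 2, 0, 0, 3, 0, 3, 0, 3, 0, 2, 0],
  [2, 0, 2, 1, 1, 3, 1, 3],
  [1, 1, 1, 2, 0, 0, 3, 1, 3, 0, 2]]

/-- The special relator solved for the last generator. -/
def solvedM24 : List (List Nat × Nat × List Nat) := [([3, 0, 3, 0, 3, 1, 3, 0, 0, 3, 0, 0, 0, 2, 0, 0, 3, 0, 3, 0, 3, 1, 3, 0, 0, 3, 0, 0, 0, 2, 0, 4, 1, 3, 1, 1, 1, 2, 1, 2, 1, 3, 0, 0, 3, 0, 2, 1, 1, 1, 3, 0], 6, [1, 1, 3, 0, 3, 1, 3, 1, 1, 2, 0, 0, 0, 3, 1, 2, 1, 1, 2, 1, 3, 0, 3, 1, 3, 1, 1, 3, 0, 0, 3, 0, 2, 1, 1, 1, 3, 1, 3, 0, 3, 1, 3, 1, 1, 2, 0, 0, 0, 3, 0, 2, 1, 1])]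

/-- Relators of the subgroup. -/
def xcM24 : List (List Nat) := [
  [6, 6],
  [8, 8],
  [10, 10],
  [12, 12],
  [14, 14],
  [16, 16],
  [6, 8, 6, 8],
  [6, 10, 6, 10],
  [6, 12, 6, 12],
  [6, 14, 6, 14],
  [6, 16, 6, 16],
  [8, 10, 8, 10],
  [8, 12, 8, 12],
  [8, 14, 8, 14],
  [8, 16, 8, 16],
  [10, 12, 10, 12],
  [10, 14, 10, 14],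
  [10, 16, 10, 16],
  [12, 14, 12, 14],
  [12, 16, 12, 16],
  [14, 16, 14, 16],
  [0, 6, 1, 7],
  [0, 8, 1, 9],
  [0, 10, 1, 11],
  [0, 12, 1, 13, 11],
  [0, 14, 1, 15],
  [0, 16, 1, 17, 15],
  [2, 6, 3, 7],
  [2, 8, 3, 9, 7],
  [2, 10, 3, 17, 13],
  [2, 12, 3, 15, 11, 9],
  [2, 14, 3, 17],
  [2, 16, 3, 15, 7],
  [0, 0],
  [2, 0, 0, 3],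
  [2, 2, 2, 2],
  [3, 0, 0, 2],
  [0, 2, 0, 0, 3, 1],
  [0, 2, 2, 2, 2, 1],
  [0, 3, 0, 0, 2, 1],
  [2, 2, 0, 0, 3, 3],
  [0, 2, 2, 0, 0, 3, 3, 1],
  [2, 0, 2, 0, 0, 3, 1, 3],
  [2, 0, 2, 2, 2, 2, 1, 3],
  [2, 0, 3, 0, 0, 2, 1, 3],
  [3, 0, 2, 0, 0, 3, 1, 2],
  [3, 0, 2, 2, 2, 2, 1, 2],
  [3, 0, 3, 0, 0, 2, 1, 2],
  [2, 0, 2, 2, 0, 2, 1, 3, 3, 1],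
  [2, 2, 0, 2, 0, 3, 3, 1, 2, 1],
  [2, 2, 0, 3, 0, 3, 3, 1, 3, 1],
  [3, 0, 2, 0, 2, 2, 1, 2, 1, 3],
  [3, 0, 2, 2, 0, 3, 1, 3, 3, 1],
  [3, 0, 3, 0, 2, 2, 1, 3, 1, 3],
  [0, 2, 0, 2, 0, 0, 3, 1, 3, 1],
  [0, 2, 0, 2, 2, 0, 2, 1, 3, 3],
  [0, 2, 0, 2, 2, 2, 2, 1, 3, 1],
  [0, 2, 0, 3, 0, 0, 2, 1, 3, 1],
  [0, 2, 2, 0, 2, 0, 3, 3, 1, 2],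
  [0, 2, 2, 0, 3, 0, 3, 3, 1, 3],
  [0, 3, 0, 2, 0, 0, 3, 1, 2, 1],
  [0, 3, 0, 2, 2, 0, 3, 1, 3, 3],
  [0, 3, 0, 2, 2, 2, 2, 1, 2, 1],
  [0, 3, 0, 3, 0, 0, 2, 1, 2, 1],
  [2, 0, 2, 0, 2, 2, 1, 2, 1, 2],
  [2, 0, 3, 0, 2, 2, 1, 3, 1, 2],
  [2, 2, 0, 2, 2, 2, 2, 1, 3, 3],
  [0, 3, 0, 2, 0, 2, 2, 1, 2, 1, 3, 1],
  [0, 3, 0, 3, 0, 2, 2, 1, 3, 1, 3, 1],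
  [2, 0, 2, 0, 2, 0, 3, 1, 3, 1, 3, 1]]

/-- The further relators of the subgroup. -/
def xpM24 : List PCert := [
  ⟨[4, 4, 4], [([4, 4, 4], [4, 4, 4])], 0, [([4], [4]), ([4], [4]), ([4], [4])]⟩,
  ⟨[0, 4, 0, 4, 0, 4], [([0, 3, 0, 3, 0, 3, 1, 3, 0, 2, 4, 3, 1, 2, 0, 2, 1, 2, 1, 2, 1, 4, 3, 1, 2, 0, 2, 1, 2, 1, 2, 1, 4], [0, 3, 0, 3, 0, 3, 1, 3, 0, 2, 4, 3, 1, 2, 0, 2, 1, 2, 1, 2, 1, 4, 3, 1, 2, 0, 2, 1, 2, 1, 2, 1, 4])], 0, [([0, 3, 0, 3, 0, 3, 1, 3, 0, 2], [0, 3, 0, 3, 0, 3, 1, 3, 0, 2]), ([4], [4]), ([3, 1, 2, 0, 2, 1, 2, 1, 2, 1], [0, 3, 0, 3, 0, 3, 1, 3, 0, 2]), ([4], [4]), ([3, 1, 2, 0, 2, 1, 2, 1, 2, 1], [0, 3, 0, 3, 0, 3, 1, 3, 0, 2]), ([4], [4])]⟩,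
  ⟨[0, 4, 2, 5, 0, 4, 2, 5], [([0, 3, 0, 3, 0, 3, 1, 3, 0, 2, 4, 1, 3, 1, 1, 1, 2, 1, 2, 5, 3, 1, 2, 0, 2, 1, 2, 1, 2, 1, 4, 1, 3, 1, 1, 1, 2, 1, 2, 5], [0, 3, 0, 3, 0, 3, 1, 3, 0, 2, 4, 1, 3, 1, 1, 1, 2, 1, 2, 5, 3, 1, 2, 0, 2, 1, 2, 1, 2, 1, 4, 1, 3, 1, 1, 1, 2, 1, 2, 5])], 0, [([0, 3, 0, 3, 0, 3, 1, 3, 0, 2], [0, 3, 0, 3, 0, 3, 1, 3, 0, 2]), ([4], [4]), ([1, 3, 1, 1, 1, 2, 1, 2], [1, 3, 1, 1, 1, 2, 1, 2]), ([5], [5]), ([3, 1, 2, 0, 2, 1, 2, 1, 2, 1], [0, 3, 0, 3, 0, 3, 1, 3, 0, 2]), ([4], [4]), ([1, 3, 1, 1, 1, 2, 1, 2], [1, 3, 1, 1, 1, 2, 1, 2]), ([5], [5])]⟩,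
  ⟨[0, 3, 5, 3, 4, 0, 2, 4, 2, 4], [([0, 3, 0, 3, 0, 3, 1, 3, 0, 0, 3, 0, 0, 0, 2, 0, 5, 3, 0, 3, 0, 0, 0, 2, 0, 4, 3, 1, 2, 0, 2, 1, 2, 1, 2, 1, 1, 3, 1, 1, 1, 2, 1, 2, 4, 1, 3, 1, 1, 1, 2, 1, 2, 4], [0, 3, 0, 3, 0, 3, 1, 3, 0, 0, 3, 0, 0, 0, 2, 0, 5, 3, 0, 3, 0, 0, 0, 2, 0, 4, 3, 1, 2, 0, 2, 1, 2, 1, 2, 1, 1, 3, 1, 1, 1, 2, 1, 2, 4, 1, 3, 1, 1, 1, 2, 1, 2, 4])], 0, [([0, 3, 0, 3, 0, 3, 1, 3, 0, 0, 3, 0, 0, 0, 2, 0], [0, 3, 0, 3, 0, 3, 1, 3, 0, 2, 3, 0, 3, 0, 0, 0, 2, 0]), ([5], [5]), ([3, 0, 3, 0, 0, 0, 2, 0], [3, 0, 3, 0, 0, 0, 2, 0]), ([4], [4]), ([3, 1, 2, 0, 2, 1, 2, 1, 2, 1, 1, 3, 1, 1, 1, 2, 1, 2], [0, 3, 0, 3, 0, 3, 1, 3, 0, 2, 1, 3, 1, 1, 1,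 2, 1, 2]), ([4], [4]), ([1, 3, 1, 1, 1, 2, 1, 2], [1, 3, 1, 1, 1, 2, 1, 2]), ([4], [4])]⟩,
  ⟨[4, 6, 5, 10], [([4, 0, 0, 2, 0, 3, 0, 2, 0, 0, 2, 0, 3, 0, 2, 5, 3, 1, 2, 1, 1, 3, 0, 0, 3, 0], [4, 0, 0, 2, 0, 3, 0, 2, 0, 0, 2, 0, 3, 0, 2, 5, 3, 1, 2, 1, 1, 3, 0, 0, 3, 0])], 0, [([4], [4]), ([0, 0, 2, 0, 3, 0, 2, 0, 0, 2, 0, 3, 0, 2], [0, 0, 2, 0, 3, 0, 2, 0, 0, 2, 0, 3, 0, 2]), ([5], [5]), ([3, 1, 2, 1, 1, 3, 0, 0, 3, 0], [1, 2, 1, 1, 2, 0, 0, 3, 0, 2])]⟩,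
  ⟨[4, 8, 5, 14], [([4, 1, 1, 2, 1, 1, 3, 1, 2, 1, 1, 3, 0, 5, 3, 1, 3, 0, 3, 1, 2, 1, 3, 0, 0, 0], [4, 1, 1, 2, 1, 1, 3, 1, 2, 1, 1, 3, 0, 5, 3, 1, 3, 0, 3, 1, 2, 1, 3, 0, 0, 0])], 0, [([4], [4]), ([1, 1, 2, 1, 1, 3, 1, 2, 1, 1, 3, 0], [1, 1, 2, 1, 1, 3, 1, 2, 1, 1, 3, 0]), ([5], [5]), ([3, 1, 3, 0, 3, 1, 2, 1, 3, 0, 0, 0], [1, 1, 1, 2, 0, 3, 0, 2, 1, 2, 0, 2])]⟩,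
  ⟨[4, 10, 5, 2, 12, 3], [([4, 1, 2, 1, 1, 2, 0, 0, 3, 0, 2, 5, 3, 1, 2, 0, 0, 3, 1, 1, 1, 2, 1], [4, 1, 2, 1, 1, 2, 0, 0, 3, 0, 2, 5, 3, 1, 2, 0, 0, 3, 1, 1, 1, 2, 1])], 0, [([4], [4]), ([1, 2, 1, 1, 2, 0, 0, 3, 0, 2], [1, 2, 1, 1, 2, 0, 0, 3, 0, 2]), ([5], [5]), ([3, 1, 2, 0, 0, 3, 1, 1, 1, 2, 1], [1, 3, 1, 1, 1, 2, 1, 2, 0, 2, 1, 2, 0, 3, 0, 2, 1, 3, 0, 3, 3, 0, 3, 0, 0, 0, 2, 0])]⟩,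
  ⟨[4, 12, 5, 6, 10, 12, 16], [([4, 0, 2, 1, 2, 0, 3, 0, 2, 1, 3, 0, 3, 5, 3, 0, 2, 1, 1, 2, 1, 1, 1, 2], [4, 0, 2, 1, 2, 0, 3, 0, 2, 1, 3, 0, 3, 5, 3, 0, 2, 1, 1, 2, 1, 1, 1, 2])], 0, [([4], [4]), ([0, 2, 1, 2, 0, 3, 0, 2, 1, 3, 0, 3], [0, 2, 1, 2, 0, 3, 0, 2, 1, 3, 0, 3]), ([5], [5]), ([3, 0, 2, 1, 1, 2, 1, 1, 1, 2], [0, 0, 2, 0, 3, 0, 2, 0, 0, 2, 0, 3, 0, 2, 1, 2, 1, 1, 2, 0, 0, 3, 0, 2, 0, 2, 1, 2, 0, 3, 0, 2, 1, 3, 0, 3, 0, 2, 0, 2, 1, 2, 1, 3, 1, 1, 3])]⟩,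
  ⟨[4, 14, 5, 6, 8, 10], [([4, 1, 1, 1, 2, 0, 3, 0, 2, 1, 2, 0, 2, 5, 1, 1, 2, 1, 3, 0, 3, 1, 1, 1], [4, 1, 1, 1, 2, 0, 3, 0, 2, 1, 2, 0, 2, 5, 1, 1, 2, 1, 3, 0, 3, 1, 1, 1])], 0, [([4], [4]), ([1, 1, 1, 2, 0, 3, 0, 2, 1, 2, 0, 2], [1, 1, 1, 2, 0, 3, 0, 2, 1, 2, 0, 2]), ([5], [5]), ([1, 1, 2, 1, 3, 0, 3, 1, 1, 1], [0, 0, 2, 0, 3, 0, 2, 0, 0, 2, 0, 3, 0, 2, 1, 1, 2, 1, 1, 3, 1, 2, 1, 1, 3, 0, 1, 2, 1, 1, 2, 0, 0, 3, 0, 2])]⟩,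
  ⟨[4, 16, 5, 8, 12, 14], [([4, 0, 2, 0, 2, 1, 2, 1, 3, 1, 1, 3, 5, 3, 0, 3, 1, 3, 0, 2, 0, 0, 3], [4, 0, 2, 0, 2, 1, 2, 1, 3, 1, 1, 3, 5, 3, 0, 3, 1, 3, 0, 2, 0, 0, 3])], 0, [([4], [4]), ([0, 2, 0, 2, 1, 2, 1, 3, 1, 1, 3], [0, 2, 0, 2, 1, 2, 1, 3, 1, 1, 3]), ([5], [5]), ([3, 0, 3, 1, 3, 0, 2, 0, 0, 3], [1, 1, 2, 1, 1, 3, 1, 2, 1, 1, 3, 0, 0, 2, 1, 2, 0, 3, 0, 2, 1, 3, 0, 3, 1, 1, 1, 2, 0, 3, 0, 2, 1, 2, 0, 2])]⟩]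

/-- Relators from the centraliser. -/
def ecM24 : List (List Nat) := [
  [8, 3, 1, 2, 0, 2, 1, 2, 1, 2, 1],
  [10, 3, 0, 3, 0, 0, 0, 2, 0],
  [12, 3, 1, 2, 1, 3, 1, 1, 3, 1, 2, 1, 3, 1, 1],
  [14, 1, 2, 0, 0, 3, 0, 2, 0, 0, 3, 0, 0],
  [16, 3, 1, 2, 1, 1, 3, 0, 0, 3, 0],
  [18, 2, 1, 2, 0, 3, 1, 2, 1, 3, 0, 3, 1],
  [20, 3, 1, 3, 0, 3, 1, 2, 1, 3, 0, 0, 0],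
  [22, 2, 0, 0, 2, 0, 3, 0, 3, 1, 3, 1],
  [24, 3, 1, 3, 0, 3, 1, 2, 0, 0, 2, 1, 1],
  [26, 3, 0, 0, 3, 1, 3, 0, 2, 1, 1, 1, 3],
  [28, 1, 3, 0, 2, 1, 1, 2, 0, 3, 0, 0, 0],
  [30, 3, 1, 3, 0, 0, 3, 1, 1, 1, 2],
  [32, 0, 3, 0, 3, 0, 2, 1, 2, 1, 1],
  [34, 3, 0, 3, 1, 3, 0, 0, 3, 0, 0],
  [36, 2, 0, 0, 0, 3, 0, 3, 1, 2, 0, 3, 0],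
  [38, 3, 0, 3, 1, 1, 2, 0, 0],
  [40, 3, 0, 0, 0, 3, 0, 2, 0, 0, 0, 3],
  [42, 1, 2, 0, 0, 3, 1, 2, 1, 3, 1, 1, 3],
  [44, 2, 1, 1, 3, 1, 1, 2, 1, 1, 1],
  [46, 1, 2, 1, 2, 0, 3],
  [48, 0, 0, 2, 1, 2, 1, 1, 3, 0, 0],
  [50, 1, 3, 1, 2, 1, 2, 1, 2, 1, 1, 3, 0, 0],
  [52, 2, 0, 2, 0, 0, 3, 1, 3],
  [54, 3, 1, 2, 0, 2, 1, 1, 3, 0, 0, 0],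
  [0, 12, 1, 13],
  [0, 13, 1, 13],
  [0, 26, 1, 37],
  [0, 27, 1, 37],
  [0, 48, 1, 17, 45],
  [0, 49, 1, 44, 17],
  [1, 20, 0, 23, 21],
  [1, 21, 0, 23, 21],
  [2, 2, 2],
  [2, 8, 3, 17, 9],
  [2, 12, 3, 13],
  [2, 16, 3, 9],
  [2, 17, 3, 9],
  [2, 20, 3, 21],
  [2, 21, 3, 21],
  [2, 54, 3, 55, 2],
  [2, 55, 3, 55, 2],
  [3, 16, 2, 17, 9],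
  [3, 17, 2, 17, 9],
  [3, 24, 2, 41, 27],
  [3, 25, 2, 41, 27],
  [3, 55, 2, 55, 3],
  [8, 2, 9, 3, 17],
  [8, 8],
  [8, 12, 9, 13],
  [8, 13, 9, 13],
  [8, 14, 9, 15],
  [8, 15, 9, 15],
  [8, 16, 9, 17],
  [8, 17, 9, 17],
  [8, 18, 9, 27, 15],
  [8, 19, 9, 27, 15],
  [8, 20, 9, 21],
  [8, 21, 9, 21],
  [8, 22, 9, 23, 21],
  [8, 23, 9, 23, 21],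
  [8, 24, 9, 25],
  [8, 25, 9, 25],
  [8, 26, 9, 19, 15],
  [8, 27, 9, 19, 15],
  [8, 30, 9, 48, 11],
  [8, 36, 9, 37],
  [8, 37, 9, 37],
  [8, 40, 9, 51, 15],
  [8, 41, 9, 51, 15],
  [8, 46, 9, 47],
  [8, 50, 9, 41, 15],
  [8, 51, 9, 41, 15],
  [8, 54, 9, 55],
  [8, 55, 9, 55],
  [9, 18, 8, 27, 15],
  [9, 22, 8, 23, 21],
  [9, 26, 8, 19, 15],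
  [9, 30, 8, 48, 11],
  [9, 40, 8, 51, 15],
  [9, 41, 8, 51, 15],
  [9, 50, 8, 41, 15],
  [9, 51, 8, 41, 15],
  [10, 8, 11, 46, 0],
  [10, 9, 11, 46, 0],
  [10, 12, 11, 13],
  [10, 14, 11, 15, 13],
  [10, 16, 11, 23, 19],
  [10, 20, 11, 23],
  [10, 22, 11, 21, 13],
  [10, 23, 11, 21, 13],
  [10, 26, 11, 51],
  [10, 40, 11, 17, 13],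
  [10, 41, 11, 17, 13],
  [10, 48, 47],
  [10, 50, 11, 27],
  [11, 14, 10, 15, 13],
  [11, 16, 10, 41, 13],
  [11, 20, 10, 23, 13],
  [11, 28, 10, 52, 33],
  [11, 29, 10, 52, 33],
  [12, 9, 13, 9],
  [12, 12],
  [12, 14, 13, 15],
  [12, 15, 13, 15],
  [12, 16, 13, 17],
  [12, 17, 13, 17],
  [12, 18, 13, 19],
  [12, 19, 13, 19],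
  [12, 20, 13, 21],
  [12, 21, 13, 21],
  [12, 22, 13, 23],
  [12, 23, 13, 23],
  [12, 24, 13, 25],
  [12, 25, 13, 25],
  [12, 26, 13, 27],
  [12, 27, 13, 27],
  [12, 28, 13, 29],
  [12, 29, 13, 29],
  [12, 30, 13, 31],
  [12, 32, 13, 33],
  [12, 34, 13, 35],
  [12, 36, 13, 37],
  [12, 37, 13, 37],
  [12, 38, 13, 39],
  [12, 40, 13, 41],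
  [12, 41, 13, 41],
  [12, 42, 13, 43],
  [12, 44, 13, 45],
  [12, 48, 13, 49],
  [12, 50, 13, 51],
  [12, 51, 13, 51],
  [12, 52, 13, 53],
  [12, 54, 13, 55],
  [12, 55, 13, 55],
  [14, 9, 15, 9],
  [14, 13, 15, 13],
  [14, 14],
  [14, 16, 15, 17],
  [14, 17, 15, 17],
  [14, 18, 15, 19],
  [14, 19, 15, 19],
  [14, 20, 15, 21],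
  [14, 21, 15, 21],
  [14, 22, 15, 23],
  [14, 23, 15, 23],
  [14, 25, 15, 25, 13],
  [14, 26, 15, 27],
  [14, 27, 15, 27],
  [14, 28, 15, 29],
  [14, 29, 15, 29],
  [14, 36, 15, 37],
  [14, 37, 15, 37],
  [14, 40, 15, 41],
  [14, 41, 15, 41],
  [14, 50, 15, 51],
  [14, 51, 15, 51],
  [15, 24, 14, 25, 13],
  [15, 25, 14, 25, 13],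
  [16, 3, 17, 2, 9],
  [16, 9, 17, 9],
  [16, 13, 17, 13],
  [16, 15, 17, 15],
  [16, 16],
  [16, 18, 17, 19],
  [16, 20, 17, 21],
  [16, 21, 17, 21],
  [16, 22, 17, 23],
  [16, 23, 17, 23],
  [16, 24, 17, 25, 21],
  [16, 25, 17, 25, 21],
  [16, 26, 17, 27],
  [16, 28, 17, 47, 35],
  [16, 29, 17, 47, 35],
  [16, 36, 17, 37],
  [16, 37, 17, 37],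
  [16, 40, 17, 41],
  [16, 41, 17, 41],
  [16, 50, 17, 51],
  [16, 51, 17, 51],
  [16, 54, 17, 55, 9],
  [16, 55, 17, 55, 9],
  [17, 24, 16, 25, 21],
  [17, 25, 16, 25, 21],
  [17, 28, 16, 47, 35],
  [17, 54, 16, 55, 9],
  [17, 55, 16, 55, 9],
  [18, 2, 19, 2, 9],
  [18, 3, 19, 9, 3],
  [18, 8, 19, 17, 9],
  [18, 9, 19, 17, 9],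
  [18, 13, 19, 13],
  [18, 15, 19, 15],
  [18, 17, 19, 17],
  [18, 18],
  [18, 20, 19, 21],
  [18, 21, 19, 21],
  [18, 22, 19, 23],
  [18, 23, 19, 23],
  [18, 26, 19, 27],
  [18, 27, 19, 27],
  [18, 28, 19, 29],
  [18, 29, 19, 29],
  [18, 34, 19, 29, 46],
  [18, 35, 19, 47, 29],
  [18, 40, 19, 41],
  [18, 41, 19, 41],
  [18, 46, 19, 34, 29],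
  [18, 47, 19, 29, 35],
  [18, 50, 19, 51],
  [18, 51, 19, 51],
  [19, 2, 18, 2, 9],
  [19, 3, 18, 9, 3],
  [19, 8, 18, 17, 9],
  [19, 34, 18, 29, 46],
  [19, 35, 18, 47, 29],
  [20, 0, 21, 23, 1],
  [20, 1, 21, 0, 23],
  [20, 9, 21, 9],
  [20, 13, 21, 13],
  [20, 15, 21, 15],
  [20, 17, 21, 17],
  [20, 19, 21, 19],
  [20, 20],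
  [20, 22, 21, 23],
  [20, 23, 21, 23],
  [20, 24, 21, 25],
  [20, 25, 21, 25],
  [20, 26, 21, 27],
  [20, 27, 21, 27],
  [20, 28, 21, 29, 13],
  [20, 29, 21, 29, 13],
  [20, 34, 21, 35, 13],
  [20, 36, 21, 37],
  [20, 37, 21, 37],
  [20, 40, 21, 41],
  [20, 41, 21, 41],
  [20, 46, 21, 47],
  [20, 50, 21, 51],
  [20, 51, 21, 51],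
  [20, 54, 21, 55],
  [20, 55, 21, 55],
  [21, 0, 20, 23, 1],
  [21, 28, 20, 29, 13],
  [21, 34, 20, 35, 13],
  [22, 13, 23, 13],
  [22, 19, 23, 19],
  [22, 22],
  [22, 24, 23, 25, 21],
  [22, 25, 23, 25, 21],
  [22, 26, 23, 27],
  [22, 27, 23, 27],
  [22, 28, 23, 29],
  [22, 29, 23, 29],
  [22, 40, 23, 41],
  [22, 41, 23, 41],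
  [22, 50, 23, 51],
  [22, 51, 23, 51],
  [23, 8, 22, 21, 9],
  [23, 24, 22, 25, 21],
  [24, 14, 25, 15, 13],
  [24, 15, 25, 15, 13],
  [24, 18, 25, 51, 13],
  [24, 19, 25, 51, 13],
  [24, 21, 25, 21],
  [24, 24],
  [24, 26, 25, 41],
  [24, 27, 25, 41],
  [24, 40, 25, 27],
  [24, 41, 25, 27],
  [24, 50, 25, 19, 13],
  [24, 51, 25, 19, 13],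
  [24, 54, 25, 55],
  [24, 55, 25, 55],
  [25, 14, 24, 15, 13],
  [25, 18, 24, 51, 13],
  [25, 19, 24, 51, 13],
  [25, 22, 24, 23, 21],
  [25, 50, 24, 19, 13],
  [26, 9, 27, 17, 9],
  [26, 10, 27, 2, 43],
  [26, 13, 27, 13],
  [26, 15, 27, 15],
  [26, 17, 27, 17],
  [26, 21, 27, 21],
  [26, 24, 27, 44, 39],
  [26, 25, 27, 44, 39],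
  [26, 26],
  [26, 28, 27, 47, 35],
  [26, 29, 27, 47, 35],
  [26, 30, 27, 30, 13],
  [26, 31, 27, 31, 13],
  [26, 34, 27, 34],
  [26, 38, 27, 53, 3],
  [26, 40, 27, 41],
  [42, 27, 44],
  [26, 43, 27, 27, 45],
  [26, 44, 42],
  [26, 46, 27, 29, 35],
  [26, 47, 27, 34, 29],
  [26, 50, 27, 51],
  [27, 9, 26, 17, 9],
  [27, 10, 26, 2, 43],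
  [27, 24, 26, 44, 39],
  [27, 31, 26, 31, 13],
  [27, 38, 26, 53, 3],
  [27, 46, 26, 29, 35],
  [27, 47, 26, 34, 29],
  [28, 8, 29, 37, 21],
  [28, 9, 29, 37, 21],
  [28, 13, 29, 13],
  [28, 15, 29, 15],
  [28, 20, 29, 21, 13],
  [28, 21, 29, 21, 13],
  [28, 23, 29, 23],
  [28, 26, 29, 55, 3],
  [28, 27, 29, 55, 3],
  [28, 28],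
  [38, 29, 53],
  [28, 40, 29, 41],
  [28, 41, 29, 41],
  [28, 50, 29, 51, 15],
  [28, 51, 29, 51, 15],
  [52, 29, 39],
  [28, 53, 29, 49, 27],
  [29, 8, 28, 37, 21],
  [29, 20, 28, 21, 13],
  [29, 26, 28, 55, 3],
  [29, 38, 28, 53, 29],
  [29, 50, 28, 51, 15],
  [29, 52, 28, 39, 29],
  [29, 53, 28, 49, 27],
  [30, 13, 31, 13],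
  [30, 38, 34],
  [30, 54, 31, 37],
  [30, 55, 31, 37],
  [32, 18, 33, 9],
  [32, 19, 33, 9],
  [32, 20, 33, 25, 9],
  [32, 21, 33, 25, 9],
  [32, 22, 33, 21],
  [32, 26, 33, 55],
  [32, 27, 33, 55],
  [32, 28, 33, 52, 39],
  [32, 29, 33, 52, 39],
  [38, 33, 37],
  [32, 39, 37],
  [32, 50, 33, 46, 37],
  [32, 51, 33, 46, 37],
  [33, 0, 32, 49, 25],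
  [33, 1, 32, 25, 48],
  [33, 16, 32, 46, 0],
  [33, 17, 32, 46, 0],
  [33, 24, 32, 21, 19],
  [33, 25, 32, 21, 19],
  [34, 8, 35, 37, 21],
  [34, 9, 35, 37, 21],
  [34, 13, 35, 13],
  [34, 16, 35, 47, 47],
  [34, 20, 35, 21, 13],
  [34, 21, 35, 21, 13],
  [34, 36, 35, 17, 13],
  [34, 37, 35, 17, 13],
  [34, 40, 35, 55],
  [34, 41, 35, 55],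
  [34, 50, 35, 55, 9],
  [34, 51, 35, 55, 9],
  [34, 54, 35, 55, 2],
  [34, 55, 35, 55, 2],
  [35, 2, 34, 55, 41],
  [35, 3, 34, 41, 55],
  [35, 16, 34, 37, 13],
  [35, 17, 34, 37, 13],
  [35, 20, 34, 21, 13],
  [35, 21, 34, 21, 13],
  [36, 9, 37, 9],
  [36, 13, 37, 13],
  [36, 15, 37, 15],
  [36, 17, 37, 17],
  [36, 18, 37, 27, 13],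
  [36, 19, 37, 27, 13],
  [36, 21, 37, 21],
  [36, 26, 37, 19, 13],
  [36, 27, 37, 19, 13],
  [36, 32, 37, 37, 39],
  [36, 36],
  [36, 38, 37, 37, 33],
  [36, 40, 37, 51],
  [36, 41, 37, 51],
  [36, 46, 37, 46],
  [36, 50, 37, 41],
  [36, 51, 37, 41],
  [37, 18, 36, 27, 13],
  [37, 19, 36, 27, 13],
  [37, 26, 36, 19, 13],
  [37, 27, 36, 19, 13],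
  [38, 13, 39, 13],
  [38, 16, 39, 55, 13],
  [38, 17, 39, 55, 13],
  [38, 18, 39, 9],
  [38, 19, 39, 9],
  [38, 22, 39, 21],
  [38, 23, 39, 21],
  [38, 50, 39, 47, 37],
  [38, 51, 39, 47, 37],
  [39, 16, 38, 46, 0],
  [39, 17, 38, 46, 0],
  [39, 24, 38, 51, 17],
  [39, 25, 38, 51, 17],
  [39, 53, 38, 49, 27],
  [39, 54, 38, 17, 13],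
  [39, 55, 38, 17, 13],
  [40, 15, 41, 15],
  [40, 17, 41, 17],
  [40, 19, 41, 19],
  [40, 25, 41, 44, 39],
  [40, 29, 41, 29],
  [40, 30, 41, 32, 43],
  [40, 50, 41, 51],
  [41, 24, 40, 44, 39],
  [41, 30, 40, 32, 43],
  [42, 13, 43, 13],
  [42, 14, 43, 29, 19],
  [42, 15, 43, 29, 19],
  [42, 20, 43, 23],
  [42, 21, 43, 23],
  [42, 22, 43, 25, 9],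
  [42, 23, 43, 25, 9],
  [42, 24, 43, 45, 38],
  [42, 25, 43, 45, 38],
  [42, 36, 43, 19, 15],
  [42, 37, 43, 19, 15],
  [43, 2, 42, 1, 31],
  [44, 16, 45, 55, 25],
  [44, 17, 45, 55, 25],
  [44, 18, 45, 21, 9],
  [44, 19, 45, 21, 9],
  [44, 22, 45, 21],
  [44, 26, 45, 46, 37],
  [44, 27, 45, 46, 37],
  [44, 50, 45, 55],
  [44, 51, 45, 55],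
  [45, 8, 44, 23, 19],
  [45, 9, 44, 23, 19],
  [45, 14, 44, 29, 19],
  [45, 15, 44, 29, 19],
  [45, 22, 44, 25, 9],
  [45, 23, 44, 25, 9],
  [45, 24, 44, 51, 17],
  [45, 25, 44, 51, 17],
  [45, 36, 44, 39, 32],
  [45, 37, 44, 39, 32],
  [46, 9, 47, 9],
  [46, 13, 47, 13],
  [46, 21, 47, 21],
  [46, 34, 47, 34, 17],
  [46, 35, 47, 17, 35],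
  [47, 30, 46, 33, 42],
  [48, 0, 49, 38, 47],
  [48, 20, 49, 23, 13],
  [48, 21, 49, 23, 13],
  [48, 36, 49, 41, 15],
  [48, 37, 49, 41, 15],
  [48, 38, 49, 29, 3],
  [48, 39, 49, 2, 29],
  [48, 44, 49, 49, 33],
  [49, 8, 48, 47, 1],
  [49, 18, 48, 37, 21],
  [49, 19, 48, 37, 21],
  [49, 22, 48, 21, 13],
  [49, 23, 48, 21, 13],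
  [49, 34, 48, 32, 21],
  [50, 10, 51, 2, 43],
  [50, 13, 51, 13],
  [50, 15, 51, 15],
  [50, 17, 51, 17],
  [50, 19, 51, 19],
  [50, 21, 51, 21],
  [50, 23, 51, 23],
  [50, 28, 51, 29, 15],
  [50, 29, 51, 29, 15],
  [50, 33, 51, 43, 27],
  [50, 41, 51, 41],
  [50, 42, 51, 32, 27],
  [50, 43, 51, 27, 33],
  [50, 50],
  [51, 10, 50, 2, 43],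
  [51, 28, 50, 29, 15],
  [51, 33, 50, 43, 27],
  [51, 42, 50, 32, 27],
  [51, 43, 50, 27, 33],
  [52, 13, 53, 13],
  [52, 18, 53, 9],
  [52, 19, 53, 9],
  [52, 22, 53, 21],
  [52, 23, 53, 21],
  [52, 26, 53, 55, 9],
  [52, 27, 53, 55, 9],
  [53, 16, 52, 46, 0],
  [53, 22, 52, 25, 9],
  [53, 23, 52, 25, 9],
  [53, 36, 52, 39, 32],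
  [53, 37, 52, 39, 32],
  [54, 2, 55, 2],
  [54, 25, 55, 25],
  [54, 54],
  [55, 16, 54, 17, 9],
  [55, 34, 54, 35, 3],
  [0, 0, 0, 0, 0, 0, 0],
  [2, 0, 2, 0, 2, 0, 2, 0],
  [2, 0, 0, 2, 0, 0, 0, 2, 0, 0, 2, 0, 0, 0],
  [2, 1, 3, 0, 3, 0, 0, 2, 1, 3, 0, 3, 0, 0]]

/-- Relators from the amalgam relators. -/
def epM24 : List PCert := [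
  ⟨[4, 4, 4], [([4, 4, 4], [4, 4, 4])], 0, [([4], [4]), ([4], [4]), ([4], [4])]⟩,
  ⟨[0, 3, 0, 3, 0, 3, 1, 3, 0, 2, 4, 3, 1, 2, 0, 2, 1, 2, 1, 2, 1, 4, 3, 1, 2, 0, 2, 1, 2, 1, 2, 1, 4], [([0, 3, 0, 3, 0, 3, 1, 3, 0, 2, 4, 3, 1, 2, 0, 2, 1, 2, 1, 2, 1, 4, 3, 1, 2, 0, 2, 1, 2, 1, 2, 1, 4], [0, 3, 0, 3, 0, 3, 1, 3, 0, 2, 4, 3, 1, 2, 0, 2, 1, 2, 1, 2, 1, 4, 3, 1, 2, 0, 2, 1, 2, 1, 2, 1, 4])], 0, [([0], [0]), ([3], [3]), ([0], [0]), ([3], [3]), ([0], [0]), ([3], [3]), ([1], [1]), ([3], [3]), ([0], [0]), ([2], [2]), ([4], [4]), ([3], [3]), ([1], [1]), ([2], [2]), ([0], [0]), ([2], [2]), ([1], [1]), ([2], [2]), ([1], [1]), ([2], [2]), ([1], [1]), ([4], [4]),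 ([3], [3]), ([1], [1]), ([2], [2]), ([0], [0]), ([2], [2]), ([1], [1]), ([2], [2]), ([1], [1]), ([2], [2]), ([1], [1]), ([4], [4])]⟩,
  ⟨[0, 3, 0, 3, 0, 3, 1, 3, 0, 2, 4, 1, 3, 1, 1, 1, 2, 1, 2, 5, 3, 1, 2, 0, 2, 1, 2, 1, 2, 1, 4, 1, 3, 1, 1, 1, 2, 1, 2, 5], [([0, 3, 0, 3, 0, 3, 1, 3, 0, 2, 4, 1, 3, 1, 1, 1, 2, 1, 2, 5, 3, 1, 2, 0, 2, 1, 2, 1, 2, 1, 4, 1, 3, 1, 1, 1, 2, 1, 2, 5], [0, 3, 0, 3, 0, 3, 1, 3, 0, 2, 4, 1, 3, 1, 1, 1, 2, 1, 2, 5, 3, 1, 2, 0, 2, 1, 2, 1, 2, 1, 4, 1, 3, 1, 1, 1, 2, 1, 2, 5])], 0, [([0], [0]), ([3], [3]), ([0], [0]), ([3], [3]), ([0], [0]), ([3], [3]), ([1], [1]), ([3], [3]), ([0], [0]), ([2], [2]), ([4], [4]), ([1], [1]), ([3],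 [3]), ([1], [1]), ([1], [1]), ([1], [1]), ([2], [2]), ([1], [1]), ([2], [2]), ([5], [5]), ([3], [3]), ([1], [1]), ([2], [2]), ([0], [0]), ([2], [2]), ([1], [1]), ([2], [2]), ([1], [1]), ([2], [2]), ([1], [1]), ([4], [4]), ([1], [1]), ([3], [3]), ([1], [1]), ([1], [1]), ([1], [1]), ([2], [2]), ([1], [1]), ([2], [2]), ([5], [5])]⟩,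
  ⟨[0, 3, 0, 3, 0, 3, 1, 3, 0, 0, 3, 0, 0, 0, 2, 0, 5, 3, 0, 3, 0, 0, 0, 2, 0, 4, 3, 1, 2, 0, 2, 1, 2, 1, 2, 1, 1, 3, 1, 1, 1, 2, 1, 2, 4, 1, 3, 1, 1, 1, 2, 1, 2, 4], [([0, 3, 0, 3, 0, 3, 1, 3, 0, 0, 3, 0, 0, 0, 2, 0, 5, 3, 0, 3, 0, 0, 0, 2, 0, 4, 3, 1, 2, 0, 2, 1, 2, 1, 2, 1, 1, 3, 1, 1, 1, 2, 1, 2, 4, 1, 3, 1, 1, 1, 2, 1, 2, 4], [0, 3, 0, 3, 0, 3, 1, 3, 0, 0, 3, 0, 0, 0, 2, 0, 5, 3, 0, 3, 0, 0, 0, 2, 0, 4, 3, 1, 2, 0, 2, 1, 2, 1, 2, 1, 1, 3, 1, 1, 1, 2, 1, 2, 4, 1, 3, 1, 1, 1, 2, 1, 2, 4])], 0, [([0], [0]), ([3], [3]), ([0], [0]), ([3], [3]), ([0], [0]), ([3], [3]), ([1], [1]), ([3], [3]), ([0], [0]), ([0], [0]), ([3], [3]), ([0], [0]), ([0], [0]),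 ([0], [0]), ([2], [2]), ([0], [0]), ([5], [5]), ([3], [3]), ([0], [0]), ([3], [3]), ([0], [0]), ([0], [0]), ([0], [0]), ([2], [2]), ([0], [0]), ([4], [4]), ([3], [3]), ([1], [1]), ([2], [2]), ([0], [0]), ([2], [2]), ([1], [1]), ([2], [2]), ([1], [1]), ([2], [2]), ([1], [1]), ([1], [1]), ([3], [3]), ([1], [1]), ([1], [1]), ([1], [1]), ([2], [2]), ([1], [1]), ([2], [2]), ([4], [4]), ([1], [1]), ([3], [3]), ([1], [1]), ([1], [1]), ([1], [1]), ([2], [2]), ([1], [1]), ([2], [2]), ([4], [4])]⟩,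
  ⟨[4, 0, 0, 2, 0, 3, 0, 2, 0, 0, 2, 0, 3, 0, 2, 5, 3, 1, 2, 1, 1, 3, 0, 0, 3, 0], [([4, 0, 0, 2, 0, 3, 0, 2, 0, 0, 2, 0, 3, 0, 2, 5, 3, 1, 2, 1, 1, 3, 0, 0, 3, 0], [4, 0, 0, 2, 0, 3, 0, 2, 0, 0, 2, 0, 3, 0, 2, 5, 3, 1, 2, 1, 1, 3, 0, 0, 3, 0])], 0, [([4], [4]), ([0], [0]), ([0], [0]), ([2], [2]), ([0], [0]), ([3], [3]), ([0], [0]), ([2], [2]), ([0], [0]), ([0], [0]), ([2], [2]), ([0], [0]), ([3], [3]), ([0], [0]), ([2], [2]), ([5], [5]), ([3], [3]), ([1], [1]), ([2], [2]), ([1], [1]), ([1], [1]), ([3], [3]), ([0], [0]), ([0], [0]), ([3], [3]), ([0], [0])]⟩,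
  ⟨[4, 1, 1, 2, 1, 1, 3, 1, 2, 1, 1, 3, 0, 5, 3, 1, 3, 0, 3, 1, 2, 1, 3, 0, 0, 0], [([4, 1, 1, 2, 1, 1, 3, 1, 2, 1, 1, 3, 0, 5, 3, 1, 3, 0, 3, 1, 2, 1, 3, 0, 0, 0], [4, 1, 1, 2, 1, 1, 3, 1, 2, 1, 1, 3, 0, 5, 3, 1, 3, 0, 3, 1, 2, 1, 3, 0, 0, 0])], 0, [([4], [4]), ([1], [1]), ([1], [1]), ([2], [2]), ([1], [1]), ([1], [1]), ([3], [3]), ([1], [1]), ([2], [2]), ([1], [1]), ([1], [1]), ([3], [3]), ([0], [0]), ([5], [5]), ([3], [3]), ([1], [1]), ([3], [3]), ([0], [0]), ([3], [3]), ([1], [1]), ([2], [2]), ([1], [1]), ([3], [3]), ([0], [0]), ([0], [0]), ([0], [0])]⟩,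
  ⟨[4, 1, 2, 1, 1, 2, 0, 0, 3, 0, 2, 5, 3, 1, 2, 0, 0, 3, 1, 1, 1, 2, 1], [([4, 1, 2, 1, 1, 2, 0, 0, 3, 0, 2, 5, 3, 1, 2, 0, 0, 3, 1, 1, 1, 2, 1], [4, 1, 2, 1, 1, 2, 0, 0, 3, 0, 2, 5, 3, 1, 2, 0, 0, 3, 1, 1, 1, 2, 1])], 0, [([4], [4]), ([1], [1]), ([2], [2]), ([1], [1]), ([1], [1]), ([2], [2]), ([0], [0]), ([0], [0]), ([3], [3]), ([0], [0]), ([2], [2]), ([5], [5]), ([3], [3]), ([1], [1]), ([2], [2]), ([0], [0]), ([0], [0]), ([3], [3]), ([1], [1]), ([1], [1]), ([1], [1]), ([2], [2]), ([1], [1])]⟩,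
  ⟨[4, 0, 2, 1, 2, 0, 3, 0, 2, 1, 3, 0, 3, 5, 3, 0, 2, 1, 1, 2, 1, 1, 1, 2], [([4, 0, 2, 1, 2, 0, 3, 0, 2, 1, 3, 0, 3, 5, 3, 0, 2, 1, 1, 2, 1, 1, 1, 2], [4, 0, 2, 1, 2, 0, 3, 0, 2, 1, 3, 0, 3, 5, 3, 0, 2, 1, 1, 2, 1, 1, 1, 2])], 0, [([4], [4]), ([0], [0]), ([2], [2]), ([1], [1]), ([2], [2]), ([0], [0]), ([3], [3]), ([0], [0]), ([2], [2]), ([1], [1]), ([3], [3]), ([0], [0]), ([3], [3]), ([5], [5]), ([3], [3]), ([0], [0]), ([2], [2]), ([1], [1]), ([1], [1]), ([2], [2]), ([1], [1]), ([1], [1]), ([1], [1]), ([2], [2])]⟩,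
  ⟨[4, 1, 1, 1, 2, 0, 3, 0, 2, 1, 2, 0, 2, 5, 1, 1, 2, 1, 3, 0, 3, 1, 1, 1], [([4, 1, 1, 1, 2, 0, 3, 0, 2, 1, 2, 0, 2, 5, 1, 1, 2, 1, 3, 0, 3, 1, 1, 1], [4, 1, 1, 1, 2, 0, 3, 0, 2, 1, 2, 0, 2, 5, 1, 1, 2, 1, 3, 0, 3, 1, 1, 1])], 0, [([4], [4]), ([1], [1]), ([1], [1]), ([1], [1]), ([2], [2]), ([0], [0]), ([3], [3]), ([0], [0]), ([2], [2]), ([1], [1]), ([2], [2]), ([0], [0]), ([2], [2]), ([5], [5]), ([1], [1]), ([1], [1]), ([2], [2]), ([1], [1]), ([3], [3]), ([0], [0]), ([3], [3]), ([1], [1]), ([1], [1]), ([1], [1])]⟩,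
  ⟨[4, 0, 2, 0, 2, 1, 2, 1, 3, 1, 1, 3, 5, 3, 0, 3, 1, 3, 0, 2, 0, 0, 3], [([4, 0, 2, 0, 2, 1, 2, 1, 3, 1, 1, 3, 5, 3, 0, 3, 1, 3, 0, 2, 0, 0, 3], [4, 0, 2, 0, 2, 1, 2, 1, 3, 1, 1, 3, 5, 3, 0, 3, 1, 3, 0, 2, 0, 0, 3])], 0, [([4], [4]), ([0], [0]), ([2], [2]), ([0], [0]), ([2], [2]), ([1], [1]), ([2], [2]), ([1], [1]), ([3], [3]), ([1], [1]), ([1], [1]), ([3], [3]), ([5], [5]), ([3], [3]), ([0], [0]), ([3], [3]), ([1], [1]), ([3], [3]), ([0], [0]), ([2], [2]), ([0], [0]), ([0], [0]), ([3], [3])]⟩,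
  ⟨[6, 6, 6], [([6, 6, 6], [6, 6, 6])], 0, [([6], [6]), ([6], [6]), ([6], [6])]⟩,
  ⟨[0, 2, 0, 2, 1, 2, 0, 0, 6, 1, 1, 3, 0, 3, 1, 3, 1, 6, 1, 1, 3, 0, 3, 1, 3, 1, 6], [([0, 2, 0, 2, 1, 2, 0, 0, 6, 1, 1, 3, 0, 3, 1, 3, 1, 6, 1, 1, 3, 0, 3, 1, 3, 1, 6], [0, 2, 0, 2, 1, 2, 0, 0, 6, 1, 1, 3, 0, 3, 1, 3, 1, 6, 1, 1, 3, 0, 3, 1, 3, 1, 6])], 0, [([0], [0]), ([2], [2]), ([0], [0]), ([2], [2]), ([1], [1]), ([2], [2]), ([0], [0]), ([0], [0]), ([6], [6]), ([1], [1]), ([1], [1]), ([3], [3]), ([0], [0]), ([3], [3]), ([1], [1]), ([3], [3]), ([1], [1]), ([6], [6]), ([1], [1]), ([1], [1]), ([3], [3]), ([0], [0]), ([3], [3]), ([1], [1]), ([3], [3]), ([1], [1]), ([6],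 [6])]⟩,
  ⟨[0, 2, 0, 2, 1, 2, 0, 3, 0, 0, 3, 0, 2, 1, 1, 1, 3, 3, 0, 0, 3, 0, 2, 1, 1, 1, 3, 0, 6, 1, 1, 3, 0, 3, 1, 3, 1, 7, 1, 2, 0, 0, 0, 3, 1, 2, 1, 1, 2, 2, 0, 0, 0, 3, 1, 2, 1, 1, 2, 0], [([0, 2, 0, 2, 1, 2, 0, 3, 0, 0, 3, 0, 2, 1, 1, 1, 3, 3, 0, 0, 3, 0, 2, 1, 1, 1, 3, 0, 6, 1, 1, 3, 0, 3, 1, 3, 1, 7, 1, 2, 0, 0, 0, 3, 1, 2, 1, 1, 2, 2, 0, 0, 0, 3, 1, 2, 1, 1, 2, 0], [0, 2, 0, 2, 1, 2, 0, 3, 0, 0, 3, 0, 2, 1, 1, 1, 3, 3, 0, 0, 3, 0, 2, 1, 1, 1, 3, 0, 6, 1, 1, 3, 0, 3, 1, 3, 1, 7, 1, 2, 0, 0, 0, 3, 1, 2, 1, 1, 2, 2, 0, 0, 0, 3, 1, 2, 1, 1, 2, 0])], 0, [([0], [0]), ([2], [2]), ([0], [0]), ([2], [2]), ([1], [1]), ([2], [2]), ([0], [0]), ([3], [3]),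 ([0], [0]), ([0], [0]), ([3], [3]), ([0], [0]), ([2], [2]), ([1], [1]), ([1], [1]), ([1], [1]), ([3], [3]), ([3], [3]), ([0], [0]), ([0], [0]), ([3], [3]), ([0], [0]), ([2], [2]), ([1], [1]), ([1], [1]), ([1], [1]), ([3], [3]), ([0], [0]), ([6], [6]), ([1], [1]), ([1], [1]), ([3], [3]), ([0], [0]), ([3], [3]), ([1], [1]), ([3], [3]), ([1], [1]), ([7], [7]), ([1], [1]), ([2], [2]), ([0], [0]), ([0], [0]), ([0], [0]), ([3], [3]), ([1], [1]), ([2], [2]), ([1], [1]), ([1], [1]), ([2], [2]), ([2], [2]), ([0], [0]), ([0], [0]), ([0], [0]), ([3], [3]), ([1], [1]), ([2], [2]), ([1], [1]), ([1], [1]), ([2], [2]), ([0], [0])]⟩,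
  ⟨[0, 2, 0, 2, 1, 2, 0, 3, 0, 0, 3, 0, 2, 1, 1, 1, 3, 0, 7, 1, 2, 0, 0, 0, 3, 1, 2, 1, 1, 2, 0, 6, 1, 2, 0, 0, 0, 3, 1, 2, 1, 1, 2, 0, 7, 1, 2, 0, 0, 0, 3, 1, 2, 1, 1, 2, 0], [([0, 2, 0, 2, 1, 2, 0, 3, 0, 0, 3, 0, 2, 1, 1, 1, 3, 0, 7, 1, 2, 0, 0, 0, 3, 1, 2, 1, 1, 2, 0, 6, 1, 2, 0, 0, 0, 3, 1, 2, 1, 1, 2, 0, 7, 1, 2, 0, 0, 0, 3, 1, 2, 1, 1, 2, 0], [0, 2, 0, 2, 1, 2, 0, 3, 0, 0, 3, 0, 2, 1, 1, 1, 3, 0, 7, 1, 2, 0, 0, 0, 3, 1, 2, 1, 1, 2, 0, 6, 1, 2, 0, 0, 0, 3, 1, 2, 1, 1, 2, 0, 7, 1, 2, 0, 0, 0, 3, 1, 2, 1, 1, 2, 0])], 0, [([0], [0]), ([2], [2]), ([0], [0]), ([2], [2]), ([1], [1]), ([2], [2]), ([0], [0]), ([3], [3]), ([0], [0]), ([0], [0]), ([3], [3]),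 ([0], [0]), ([2], [2]), ([1], [1]), ([1], [1]), ([1], [1]), ([3], [3]), ([0], [0]), ([7], [7]), ([1], [1]), ([2], [2]), ([0], [0]), ([0], [0]), ([0], [0]), ([3], [3]), ([1], [1]), ([2], [2]), ([1], [1]), ([1], [1]), ([2], [2]), ([0], [0]), ([6], [6]), ([1], [1]), ([2], [2]), ([0], [0]), ([0], [0]), ([0], [0]), ([3], [3]), ([1], [1]), ([2], [2]), ([1], [1]), ([1], [1]), ([2], [2]), ([0], [0]), ([7], [7]), ([1], [1]), ([2], [2]), ([0], [0]), ([0], [0]), ([0], [0]), ([3], [3]), ([1], [1]), ([2], [2]), ([1], [1]), ([1], [1]), ([2], [2]), ([0], [0])]⟩,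
  ⟨[0, 2, 0, 2, 1, 2, 0, 0, 6, 1, 3, 0, 0, 3, 0, 2, 1, 1, 1, 3, 0, 7, 1, 1, 3, 0, 3, 1, 3, 1, 6, 1, 3, 0, 0, 3, 0, 2, 1, 1, 1, 3, 0, 7], [([0, 2, 0, 2, 1, 2, 0, 0, 6, 1, 3, 0, 0, 3, 0, 2, 1, 1, 1, 3, 0, 7, 1, 1, 3, 0, 3, 1, 3, 1, 6, 1, 3, 0, 0, 3, 0, 2, 1, 1, 1, 3, 0, 7], [0, 2, 0, 2, 1, 2, 0, 0, 6, 1, 3, 0, 0, 3, 0, 2, 1, 1, 1, 3, 0, 7, 1, 1, 3, 0, 3, 1, 3, 1, 6, 1, 3, 0, 0, 3, 0, 2, 1, 1, 1, 3, 0, 7])], 0, [([0], [0]), ([2], [2]), ([0], [0]), ([2], [2]), ([1], [1]), ([2], [2]), ([0], [0]), ([0], [0]), ([6], [6]), ([1], [1]), ([3], [3]), ([0], [0]), ([0], [0]), ([3], [3]), ([0], [0]), ([2], [2]), ([1], [1]), ([1], [1]), ([1], [1]), ([3], [3]), ([0],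 [0]), ([7], [7]), ([1], [1]), ([1], [1]), ([3], [3]), ([0], [0]), ([3], [3]), ([1], [1]), ([3], [3]), ([1], [1]), ([6], [6]), ([1], [1]), ([3], [3]), ([0], [0]), ([0], [0]), ([3], [3]), ([0], [0]), ([2], [2]), ([1], [1]), ([1], [1]), ([1], [1]), ([3], [3]), ([0], [0]), ([7], [7])]⟩,
  ⟨[6, 0, 0, 2, 0, 3, 0, 2, 0, 0, 2, 0, 3, 0, 2, 7, 3, 0, 3, 1, 1, 2, 1, 3], [([6, 0, 0, 2, 0, 3, 0, 2, 0, 0, 2, 0, 3, 0, 2, 7, 3, 0, 3, 1, 1, 2, 1, 3], [6, 0, 0, 2, 0, 3, 0, 2, 0, 0, 2, 0, 3, 0, 2, 7, 3, 0, 3, 1, 1, 2, 1, 3])], 0, [([6], [6]), ([0], [0]), ([0], [0]), ([2], [2]), ([0], [0]), ([3], [3]), ([0], [0]), ([2], [2]), ([0], [0]), ([0], [0]), ([2], [2]), ([0], [0]),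 ([3], [3]), ([0], [0]), ([2], [2]), ([7], [7]), ([3], [3]), ([0], [0]), ([3], [3]), ([1], [1]), ([1], [1]), ([2], [2]), ([1], [1]), ([3], [3])]⟩,
  ⟨[6, 0, 2, 0, 2, 1, 2, 1, 3, 1, 1, 3, 7, 2, 1, 1, 3, 1, 2, 1, 1, 3, 1], [([6, 0, 2, 0, 2, 1, 2, 1, 3, 1, 1, 3, 7, 2, 1, 1, 3, 1, 2, 1, 1, 3, 1], [6, 0, 2, 0, 2, 1, 2, 1, 3, 1, 1, 3, 7, 2, 1, 1, 3, 1, 2, 1, 1, 3, 1])], 0, [([6], [6]), ([0], [0]), ([2], [2]), ([0], [0]), ([2], [2]), ([1], [1]), ([2], [2]), ([1], [1]), ([3], [3]), ([1], [1]), ([1], [1]), ([3], [3]), ([7], [7]), ([2], [2]), ([1], [1]), ([1], [1]), ([3], [3]), ([1], [1]), ([2], [2]), ([1], [1]), ([1], [1]), ([3], [3]), ([1], [1])]⟩,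
  ⟨[6, 2, 0, 3, 0, 0, 2, 1, 2, 7, 2, 1, 3, 0, 3, 0, 0], [([6, 2, 0, 3, 0, 0, 2, 1, 2, 7, 2, 1, 3, 0, 3, 0, 0], [6, 2, 0, 3, 0, 0, 2, 1, 2, 7, 2, 1, 3, 0, 3, 0, 0])], 0, [([6], [6]), ([2], [2]), ([0], [0]), ([3], [3]), ([0], [0]), ([0], [0]), ([2], [2]), ([1], [1]), ([2], [2]), ([7], [7]), ([2], [2]), ([1], [1]), ([3], [3]), ([0], [0]), ([3], [3]), ([0], [0]), ([0], [0])]⟩,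
  ⟨[6, 3, 0, 2, 1, 3, 0, 0, 3, 1, 3, 0, 2, 7, 2, 1, 2, 0, 3, 1, 2, 1, 3, 0, 3, 1], [([6, 3, 0, 2, 1, 3, 0, 0, 3, 1, 3, 0, 2, 7, 2, 1, 2, 0, 3, 1, 2, 1, 3, 0, 3, 1], [6, 3, 0, 2, 1, 3, 0, 0, 3, 1, 3, 0, 2, 7, 2, 1, 2, 0, 3, 1, 2, 1, 3, 0, 3, 1])], 0, [([6], [6]), ([3], [3]), ([0], [0]), ([2], [2]), ([1], [1]), ([3], [3]), ([0], [0]), ([0], [0]), ([3], [3]), ([1], [1]), ([3], [3]), ([0], [0]), ([2], [2]), ([7], [7]), ([2], [2]), ([1], [1]), ([2], [2]), ([0], [0]), ([3], [3]), ([1], [1]), ([2], [2]), ([1], [1]), ([3], [3]), ([0], [0]), ([3], [3]), ([1], [1])]⟩,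
  ⟨[6, 0, 2, 0, 0, 3, 0, 2, 0, 0, 3, 7, 1, 3, 1, 1, 2, 1, 2, 0, 0], [([6, 0, 2, 0, 0, 3, 0, 2, 0, 0, 3, 7, 1, 3, 1, 1, 2, 1, 2, 0, 0], [6, 0, 2, 0, 0, 3, 0, 2, 0, 0, 3, 7, 1, 3, 1, 1, 2, 1, 2, 0, 0])], 0, [([6], [6]), ([0], [0]), ([2], [2]), ([0], [0]), ([0], [0]), ([3], [3]), ([0], [0]), ([2], [2]), ([0], [0]), ([0], [0]), ([3], [3]), ([7], [7]), ([1], [1]), ([3], [3]), ([1], [1]), ([1], [1]), ([2], [2]), ([1], [1]), ([2], [2]), ([0], [0]), ([0], [0])]⟩,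
  ⟨[6, 2, 1, 2, 1, 1, 3, 1, 2, 1, 1, 2, 7, 3, 1, 2, 0, 2, 1, 1, 2, 0, 3, 1, 2], [([6, 2, 1, 2, 1, 1, 3, 1, 2, 1, 1, 2, 7, 3, 1, 2, 0, 2, 1, 1, 2, 0, 3, 1, 2], [6, 2, 1, 2, 1, 1, 3, 1, 2, 1, 1, 2, 7, 3, 1, 2, 0, 2, 1, 1, 2, 0, 3, 1, 2])], 0, [([6], [6]), ([2], [2]), ([1], [1]), ([2], [2]), ([1], [1]), ([1], [1]), ([3], [3]), ([1], [1]), ([2], [2]), ([1], [1]), ([1], [1]), ([2], [2]), ([7], [7]), ([3], [3]), ([1], [1]), ([2], [2]), ([0], [0]), ([2], [2]), ([1], [1]), ([1], [1]), ([2], [2]), ([0], [0]), ([3], [3]), ([1], [1]), ([2], [2])]⟩,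
  ⟨[3, 0, 3, 0, 3, 1, 3, 0, 0, 3, 0, 0, 0, 2, 0, 0, 3, 0, 3, 0, 3, 1, 3, 0, 0, 3, 0, 0, 0, 2, 0, 4, 1, 3, 1, 1, 1, 2, 1, 2, 1, 3, 0, 0, 3, 0, 2, 1, 1, 1, 3, 0, 6, 1, 1, 3, 0, 3, 1, 3, 1, 1, 2, 0, 0, 0, 3, 1, 2, 1, 1, 2, 1, 3, 0, 3, 1, 3, 1, 1, 3, 0, 0, 3, 0, 2, 1, 1, 1, 3, 1, 3, 0, 3, 1, 3, 1, 1, 2, 0, 0, 0, 3, 0, 2, 1, 1], [([3, 0, 3, 0, 3, 1, 3, 0, 0, 3, 0, 0, 0, 2, 0, 0, 3, 0, 3, 0, 3, 1, 3, 0, 0, 3, 0, 0, 0, 2, 0, 4, 1, 3, 1, 1, 1, 2, 1, 2, 1, 3, 0, 0, 3, 0, 2, 1, 1, 1, 3, 0, 6, 1, 1, 3, 0, 3, 1, 3, 1, 1, 2, 0, 0, 0, 3, 1, 2, 1, 1, 2, 1, 3, 0, 3, 1, 3, 1, 1, 3, 0, 0, 3, 0, 2, 1, 1, 1, 3, 1, 3, 0, 3, 1, 3, 1, 1, 2, 0, 0, 0, 3, 0, 2, 1, 1], [3, 0, 3,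 0, 3, 1, 3, 0, 0, 3, 0, 0, 0, 2, 0, 0, 3, 0, 3, 0, 3, 1, 3, 0, 0, 3, 0, 0, 0, 2, 0, 4, 1, 3, 1, 1, 1, 2, 1, 2, 1, 3, 0, 0, 3, 0, 2, 1, 1, 1, 3, 0, 6, 1, 1, 3, 0, 3, 1, 3, 1, 1, 2, 0, 0, 0, 3, 1, 2, 1, 1, 2, 1, 3, 0, 3, 1, 3, 1, 1, 3, 0, 0, 3, 0, 2, 1, 1, 1, 3, 1, 3, 0, 3, 1, 3, 1, 1, 2, 0, 0, 0, 3, 0, 2, 1, 1])], 0, [([3], [3]), ([0], [0]), ([3], [3]), ([0], [0]), ([3], [3]), ([1], [1]), ([3], [3]), ([0], [0]), ([0], [0]), ([3], [3]), ([0], [0]), ([0], [0]), ([0], [0]), ([2], [2]), ([0], [0]), ([0], [0]), ([3], [3]), ([0], [0]), ([3], [3]), ([0], [0]), ([3], [3]), ([1], [1]), ([3], [3]), ([0], [0]), ([0], [0]), ([3], [3]), ([0], [0]), ([0], [0]), ([0],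 [0]), ([2], [2]), ([0], [0]), ([4], [4]), ([1], [1]), ([3], [3]), ([1], [1]), ([1], [1]), ([1], [1]), ([2], [2]), ([1], [1]), ([2], [2]), ([1], [1]), ([3], [3]), ([0], [0]), ([0], [0]), ([3], [3]), ([0], [0]), ([2], [2]), ([1], [1]), ([1], [1]), ([1], [1]), ([3], [3]), ([0], [0]), ([6], [6]), ([1], [1]), ([1], [1]), ([3], [3]), ([0], [0]), ([3], [3]), ([1], [1]), ([3], [3]), ([1], [1]), ([1], [1]), ([2], [2]), ([0], [0]), ([0], [0]), ([0], [0]), ([3], [3]), ([1], [1]), ([2], [2]), ([1], [1]), ([1], [1]), ([2], [2]), ([1], [1]), ([3], [3]), ([0], [0]), ([3], [3]), ([1], [1]), ([3], [3]), ([1], [1]), ([1], [1]), ([3], [3]), ([0], [0]), ([0], [0]), ([3],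 [3]), ([0], [0]), ([2], [2]), ([1], [1]), ([1], [1]), ([1], [1]), ([3], [3]), ([1], [1]), ([3], [3]), ([0], [0]), ([3], [3]), ([1], [1]), ([3], [3]), ([1], [1]), ([1], [1]), ([2], [2]), ([0], [0]), ([0], [0]), ([0], [0]), ([3], [3]), ([0], [0]), ([2], [2]), ([1], [1]), ([1], [1])]⟩,
  ⟨[8, 4, 8, 4, 8, 4], [([0, 3, 0, 3, 0, 3, 1, 3, 0, 2, 4, 3, 1, 2, 0, 2, 1, 2, 1, 2, 1, 4, 3, 1, 2, 0, 2, 1, 2, 1, 2, 1, 4], [0, 3, 0, 3, 0, 3, 1, 3, 0, 2, 4, 3, 1, 2, 0, 2, 1, 2, 1, 2, 1, 4, 3, 1, 2, 0, 2, 1, 2, 1, 2, 1, 4])], 0, [([0, 3, 0, 3, 0, 3, 1, 3, 0, 2], [0, 3, 0, 3, 0, 3, 1, 3, 0, 2]), ([4], [4]), ([3, 1, 2, 0, 2, 1, 2, 1, 2, 1], [0, 3, 0, 3, 0, 3, 1, 3, 0, 2]),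 ([4], [4]), ([3, 1, 2, 0, 2, 1, 2, 1, 2, 1], [0, 3, 0, 3, 0, 3, 1, 3, 0, 2]), ([4], [4])]⟩,
  ⟨[8, 4, 10, 5, 8, 4, 10, 5], [([0, 3, 0, 3, 0, 3, 1, 3, 0, 2, 4, 1, 3, 1, 1, 1, 2, 1, 2, 5, 3, 1, 2, 0, 2, 1, 2, 1, 2, 1, 4, 1, 3, 1, 1, 1, 2, 1, 2, 5], [0, 3, 0, 3, 0, 3, 1, 3, 0, 2, 4, 1, 3, 1, 1, 1, 2, 1, 2, 5, 3, 1, 2, 0, 2, 1, 2, 1, 2, 1, 4, 1, 3, 1, 1, 1, 2, 1, 2, 5])], 0, [([0, 3, 0, 3, 0, 3, 1, 3, 0, 2], [0, 3, 0, 3, 0, 3, 1, 3, 0, 2]), ([4], [4]), ([1, 3, 1, 1, 1, 2, 1, 2], [1, 3, 1, 1, 1, 2, 1, 2]), ([5], [5]), ([3, 1, 2, 0, 2, 1, 2, 1, 2, 1], [0, 3, 0, 3, 0, 3, 1, 3, 0, 2]), ([4], [4]), ([1, 3, 1, 1, 1, 2, 1, 2], [1, 3, 1, 1, 1, 2, 1, 2]), ([5], [5])]⟩,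
  ⟨[8, 11, 5, 11, 4, 8, 10, 4, 10, 4], [([0, 3, 0, 3, 0, 3, 1, 3, 0, 0, 3, 0, 0, 0, 2, 0, 5, 3, 0, 3, 0, 0, 0, 2, 0, 4, 3, 1, 2, 0, 2, 1, 2, 1, 2, 1, 1, 3, 1, 1, 1, 2, 1, 2, 4, 1, 3, 1, 1, 1, 2, 1, 2, 4], [0, 3, 0, 3, 0, 3, 1, 3, 0, 0, 3, 0, 0, 0, 2, 0, 5, 3, 0, 3, 0, 0, 0, 2, 0, 4, 3, 1, 2, 0, 2, 1, 2, 1, 2, 1, 1, 3, 1, 1, 1, 2, 1, 2, 4, 1, 3, 1, 1, 1, 2, 1, 2, 4])], 0, [([0, 3, 0, 3, 0, 3, 1, 3, 0, 0, 3, 0, 0, 0, 2, 0], [0, 3, 0, 3, 0, 3, 1, 3, 0, 2, 3, 0, 3, 0, 0, 0, 2, 0]), ([5], [5]), ([3, 0, 3, 0, 0, 0, 2, 0], [3, 0, 3, 0, 0, 0, 2, 0]), ([4], [4]), ([3, 1, 2, 0, 2, 1, 2, 1, 2, 1, 1, 3, 1, 1, 1, 2, 1, 2], [0, 3, 0, 3, 0, 3, 1, 3, 0, 2, 1, 3, 1, 1,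 1, 2, 1, 2]), ([4], [4]), ([1, 3, 1, 1, 1, 2, 1, 2], [1, 3, 1, 1, 1, 2, 1, 2]), ([4], [4])]⟩,
  ⟨[4, 12, 5, 16], [([4, 0, 0, 2, 0, 3, 0, 2, 0, 0, 2, 0, 3, 0, 2, 5, 3, 1, 2, 1, 1, 3, 0, 0, 3, 0], [4, 0, 0, 2, 0, 3, 0, 2, 0, 0, 2, 0, 3, 0, 2, 5, 3, 1, 2, 1, 1, 3, 0, 0, 3, 0])], 0, [([4], [4]), ([0, 0, 2, 0, 3, 0, 2, 0, 0, 2, 0, 3, 0, 2], [0, 0, 2, 0, 3, 0, 2, 0, 0, 2, 0, 3, 0, 2]), ([5], [5]), ([3, 1, 2, 1, 1, 3, 0, 0, 3, 0], [1, 2, 1, 1, 2, 0, 0, 3, 0, 2])]⟩,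
  ⟨[4, 14, 5, 20], [([4, 1, 1, 2, 1, 1, 3, 1, 2, 1, 1, 3, 0, 5, 3, 1, 3, 0, 3, 1, 2, 1, 3, 0, 0, 0], [4, 1, 1, 2, 1, 1, 3, 1, 2, 1, 1, 3, 0, 5, 3, 1, 3, 0, 3, 1, 2, 1, 3, 0, 0, 0])], 0, [([4], [4]), ([1, 1, 2, 1, 1, 3, 1, 2, 1, 1, 3, 0], [1, 1, 2, 1, 1, 3, 1, 2, 1, 1, 3, 0]), ([5], [5]), ([3, 1, 3, 0, 3, 1, 2, 1, 3, 0, 0, 0], [1, 1, 1, 2, 0, 3, 0, 2, 1, 2, 0, 2])]⟩,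
  ⟨[4, 18, 5, 20, 50], [([4, 0, 2, 1, 2, 0, 3, 0, 2, 1, 3, 0, 3, 5, 3, 0, 2, 1, 1, 2, 1, 1, 1, 2], [4, 0, 2, 1, 2, 0, 3, 0, 2, 1, 3, 0, 3, 5, 3, 0, 2, 1, 1, 2, 1, 1, 1, 2])], 0, [([4], [4]), ([0, 2, 1, 2, 0, 3, 0, 2, 1, 3, 0, 3], [0, 2, 1, 2, 0, 3, 0, 2, 1, 3, 0, 3]), ([5], [5]), ([3, 0, 2, 1, 1, 2, 1, 1, 1, 2], [1, 1, 1, 2, 0, 3, 0, 2, 1, 2, 0, 2, 1, 1, 2, 0, 0, 3, 0, 3, 0, 3, 0, 2, 0])]⟩,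
  ⟨[4, 22, 5, 2, 36, 54], [([4, 0, 2, 0, 2, 1, 2, 1, 3, 1, 1, 3, 5, 3, 0, 3, 1, 3, 0, 2, 0, 0, 3], [4, 0, 2, 0, 2, 1, 2, 1, 3, 1, 1, 3, 5, 3, 0, 3, 1, 3, 0, 2, 0, 0, 3])], 0, [([4], [4]), ([0, 2, 0, 2, 1, 2, 1, 3, 1, 1, 3], [0, 2, 0, 2, 1, 2, 1, 3, 1, 1, 3]), ([5], [5]), ([3, 0, 3, 1, 3, 0, 2, 0, 0, 3], [2, 1, 2, 1, 3, 0, 2, 1, 2, 1, 1, 1, 3, 1, 1, 1, 2, 0, 0, 3, 1, 3, 0, 2])]⟩,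
  ⟨[42, 10, 7, 11, 44, 6, 11, 44, 7, 11, 44], [([0, 2, 0, 2, 1, 2, 0, 3, 0, 0, 3, 0, 2, 1, 1, 1, 3, 0, 7, 1, 2, 0, 0, 0, 3, 1, 2, 1, 1, 2, 0, 6, 1, 2, 0, 0, 0, 3, 1, 2, 1, 1, 2, 0, 7, 1, 2, 0, 0, 0, 3, 1, 2, 1, 1, 2, 0], [0, 2, 0, 2, 1, 2, 0, 3, 0, 0, 3, 0, 2, 1, 1, 1, 3, 0, 7, 1, 2, 0, 0, 0, 3, 1, 2, 1, 1, 2, 0, 6, 1, 2, 0, 0, 0, 3, 1, 2, 1, 1, 2, 0, 7, 1, 2, 0, 0, 0, 3, 1, 2, 1, 1, 2, 0])], 0, [([0, 2, 0, 2, 1, 2, 0, 3, 0, 0, 3, 0, 2, 1, 1, 1, 3, 0], [2, 0, 0, 2, 0, 3, 0, 2, 1, 1, 3, 0, 1, 3, 1, 1, 1, 2, 1, 2]), ([7], [7]), ([1, 2, 0, 0, 0, 3, 1, 2, 1, 1, 2, 0], [3, 0, 3, 0, 0, 0, 2, 0, 0, 0, 0, 3, 0, 0, 2, 0, 0, 3]), ([6], [6]), ([1, 2, 0, 0, 0, 3,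 1, 2, 1, 1, 2, 0], [3, 0, 3, 0, 0, 0, 2, 0, 0, 0, 0, 3, 0, 0, 2, 0, 0, 3]), ([7], [7]), ([1, 2, 0, 0, 0, 3, 1, 2, 1, 1, 2, 0], [3, 0, 3, 0, 0, 0, 2, 0, 0, 0, 0, 3, 0, 0, 2, 0, 0, 3])]⟩,
  ⟨[6, 22, 40, 7, 18], [([6, 3, 0, 2, 1, 3, 0, 0, 3, 1, 3, 0, 2, 7, 2, 1, 2, 0, 3, 1, 2, 1, 3, 0, 3, 1], [6, 3, 0, 2, 1, 3, 0, 0, 3, 1, 3, 0, 2, 7, 2, 1, 2, 0, 3, 1, 2, 1, 3, 0, 3, 1])], 0, [([6], [6]), ([3, 0, 2, 1, 3, 0, 0, 3, 1, 3, 0, 2], [0, 2, 0, 2, 1, 2, 1, 3, 1, 1, 3, 2, 1, 1, 1, 3, 1, 2, 1, 1, 1, 2]), ([7], [7]), ([2, 1, 2, 0, 3, 1, 2, 1, 3, 0, 3, 1], [0, 2, 1, 2, 0, 3, 0, 2, 1, 3, 0, 3])]⟩,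
  ⟨[6, 12, 14, 7, 22, 40], [([6, 2, 1, 2, 1, 1, 3, 1, 2, 1, 1, 2, 7, 3, 1, 2, 0, 2, 1, 1, 2, 0, 3, 1, 2], [6, 2, 1, 2, 1, 1, 3, 1, 2, 1, 1, 2, 7, 3, 1, 2, 0, 2, 1, 1, 2, 0, 3, 1, 2])], 0, [([6], [6]), ([2, 1, 2, 1, 1, 3, 1, 2, 1, 1, 2], [0, 0, 2, 0, 3, 0, 2, 0, 0, 2, 0, 3, 0, 2, 1, 1, 2, 1, 1, 3, 1, 2, 1, 1, 3, 0]), ([7], [7]), ([3, 1, 2, 0, 2, 1, 1, 2, 0, 3, 1, 2], [0, 2, 0, 2, 1, 2, 1, 3, 1, 1, 3, 2, 1, 1, 1, 3, 1, 2, 1, 1, 1, 2])]⟩,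
  ⟨[4, 24, 5, 7, 26, 6, 28], [([4, 1, 3, 1, 1, 1, 2, 1, 2, 0, 3, 0, 3, 0, 3, 1, 3, 0, 2, 1, 3, 1, 1, 1, 2, 1, 2, 0, 3, 0, 3, 0, 3, 1, 3, 0, 2, 1, 3, 1, 1, 1, 2, 1, 2, 5, 7, 1, 3, 0, 0, 3, 0, 2, 1, 1, 1, 3, 1, 3, 0, 3, 1, 3, 1, 1, 2, 0, 0, 0, 3, 1, 2, 1, 1, 2, 0, 6, 1, 3, 0, 2, 1, 1, 2, 0, 3, 0, 0, 0], [4, 1, 3, 1, 1, 1, 2, 1, 2, 0, 3, 0, 3, 0, 3, 1, 3, 0, 2, 1, 3, 1, 1, 1, 2, 1, 2, 0, 3, 0, 3, 0, 3, 1, 3, 0, 2, 1, 3, 1, 1, 1, 2, 1, 2, 5, 7, 1, 3, 0, 0, 3, 0, 2, 1, 1, 1, 3, 1, 3, 0, 3, 1, 3, 1, 1, 2, 0, 0, 0, 3, 1, 2, 1, 1, 2, 0, 6, 1, 3, 0, 2, 1, 1, 2, 0, 3, 0, 0, 0])], 0, [([4], [4]), ([1, 3, 1, 1, 1, 2, 1, 2, 0, 3, 0, 3, 0, 3, 1, 3, 0, 2, 1, 3, 1, 1,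 1, 2, 1, 2, 0, 3, 0, 3, 0, 3, 1, 3, 0, 2, 1, 3, 1, 1, 1, 2, 1, 2], [0, 0, 3, 1, 1, 3, 0, 2, 1, 2, 0, 2]), ([5], [5]), ([7], [7]), ([1, 3, 0, 0, 3, 0, 2, 1, 1, 1, 3, 1, 3, 0, 3, 1, 3, 1, 1, 2, 0, 0, 0, 3, 1, 2, 1, 1, 2, 0], [2, 0, 0, 0, 3, 1, 2, 0, 2, 1, 1, 2]), ([6], [6]), ([1, 3, 0, 2, 1, 1, 2, 0, 3, 0, 0, 0], [1, 1, 1, 2, 1, 3, 0, 0, 3, 1, 2, 0])]⟩,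
  ⟨[30, 4, 32, 6, 34], [([3, 0, 3, 0, 3, 1, 3, 0, 0, 3, 0, 0, 0, 2, 0, 0, 3, 0, 3, 0, 3, 1, 3, 0, 0, 3, 0, 0, 0, 2, 0, 4, 1, 3, 1, 1, 1, 2, 1, 2, 1, 3, 0, 0, 3, 0, 2, 1, 1, 1, 3, 0, 6, 1, 1, 3, 0, 3, 1, 3, 1, 1, 2, 0, 0, 0, 3, 1, 2, 1, 1, 2, 1, 3, 0, 3, 1, 3, 1, 1, 3, 0, 0, 3, 0, 2, 1, 1, 1, 3, 1, 3, 0, 3, 1, 3, 1, 1, 2, 0, 0, 0, 3, 0, 2, 1, 1], [3, 0, 3, 0, 3, 1, 3, 0, 0, 3, 0, 0, 0, 2, 0, 0, 3, 0, 3, 0, 3, 1, 3, 0, 0, 3, 0, 0, 0, 2, 0, 4, 1, 3, 1, 1, 1, 2, 1, 2, 1, 3, 0, 0, 3, 0, 2, 1, 1, 1, 3, 0, 6, 1, 1, 3, 0, 3, 1, 3, 1, 1, 2, 0, 0, 0, 3, 1, 2, 1, 1, 2, 1, 3, 0, 3, 1, 3, 1, 1, 3, 0, 0, 3, 0, 2, 1, 1, 1, 3, 1, 3, 0, 3, 1, 3, 1, 1, 2, 0, 0, 0, 3, 0,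 2, 1, 1])], 0, [([3, 0, 3, 0, 3, 1, 3, 0, 0, 3, 0, 0, 0, 2, 0, 0, 3, 0, 3, 0, 3, 1, 3, 0, 0, 3, 0, 0, 0, 2, 0], [3, 0, 0, 0, 2, 1, 1, 2, 0, 2]), ([4], [4]), ([1, 3, 1, 1, 1, 2, 1, 2, 1, 3, 0, 0, 3, 0, 2, 1, 1, 1, 3, 0], [0, 0, 3, 0, 3, 1, 2, 1, 2, 1]), ([6], [6]), ([1, 1, 3, 0, 3, 1, 3, 1, 1, 2, 0, 0, 0, 3, 1, 2, 1, 1, 2, 1, 3, 0, 3, 1, 3, 1, 1, 3, 0, 0, 3, 0, 2, 1, 1, 1, 3, 1, 3, 0, 3, 1, 3, 1, 1, 2, 0, 0, 0, 3, 0, 2, 1, 1], [1, 1, 2, 1, 1, 2, 0, 2, 1, 2])]⟩,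
  ⟨[36, 5, 36, 5, 36, 5], [([6], [1, 2, 0, 0, 0, 3, 1, 2, 1, 1, 2, 0, 3, 0, 3, 0, 0, 0, 2, 0, 5, 1, 3, 1, 1, 1, 2, 1, 1, 2, 0, 2, 1, 2, 1, 2, 1, 1, 3, 1, 1, 1, 2, 1, 1, 2, 0, 2, 1, 2, 1, 2, 0, 0, 3, 1, 2, 1, 1, 1, 3, 0, 0, 2, 0, 2, 1, 2, 0, 2, 0, 0, 0, 3, 1, 2, 1, 1, 2, 0, 0, 2, 0, 2, 1, 2, 0, 3, 0, 0, 3, 0, 2, 1, 1, 1, 3, 0, 0, 2, 0, 2, 1, 2, 0, 0]), ([6], [1, 2, 0, 0, 0, 3, 1, 2, 1, 1, 2, 0, 3, 0, 3, 0, 0, 0, 2, 0, 5, 1, 3, 1, 1, 1, 2, 1, 1, 2, 0, 2, 1, 2, 1, 2, 1, 1, 3, 1, 1, 1, 2, 1, 1, 2, 0, 2, 1, 2, 1, 2, 0, 0, 3, 1, 2, 1, 1, 1, 3, 0, 0, 2, 0, 2, 1, 2, 0, 2, 0, 0, 0, 3, 1, 2, 1, 1, 2, 0, 0, 2, 0, 2, 1, 2, 0, 3, 0, 0, 3, 0, 2, 1, 1, 1, 3, 0, 0, 2,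 0, 2, 1, 2, 0, 0]), ([6], [1, 2, 0, 0, 0, 3, 1, 2, 1, 1, 2, 0, 3, 0, 3, 0, 0, 0, 2, 0, 5, 1, 3, 1, 1, 1, 2, 1, 1, 2, 0, 2, 1, 2, 1, 2, 1, 1, 3, 1, 1, 1, 2, 1, 1, 2, 0, 2, 1, 2, 1, 2, 0, 0, 3, 1, 2, 1, 1, 1, 3, 0, 0, 2, 0, 2, 1, 2, 0, 2, 0, 0, 0, 3, 1, 2, 1, 1, 2, 0, 0, 2, 0, 2, 1, 2, 0, 3, 0, 0, 3, 0, 2, 1, 1, 1, 3, 0, 0, 2, 0, 2, 1, 2, 0, 0])], 233, [([1, 3, 1, 1, 1, 2, 1, 1, 2, 0, 2, 1, 2, 1, 2, 1, 1, 3, 1, 1, 1, 2, 1, 1, 2, 0, 2, 1, 2, 1, 2, 0, 0, 3, 1, 2, 1, 1, 1, 3, 0, 0, 2, 0, 2, 1, 2, 0, 2, 0, 0, 0, 3, 1, 2, 1, 1, 2, 0, 0, 2, 0, 2, 1, 2, 0, 3, 0, 0, 3, 0, 2, 1, 1, 1, 3, 0, 0, 2, 0, 2, 1, 2, 0, 0, 1, 2, 0, 0, 0, 3, 1, 2, 1, 1, 2, 0, 3, 0, 3, 0,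 0, 0, 2, 0], [1, 2, 1, 3, 0, 2, 1, 2, 1, 1, 1, 3]), ([5], [5]), ([1, 3, 1, 1, 1, 2, 1, 1, 2, 0, 2, 1, 2, 1, 2, 1, 1, 3, 1, 1, 1, 2, 1, 1, 2, 0, 2, 1, 2, 1, 2, 0, 0, 3, 1, 2, 1, 1, 1, 3, 0, 0, 2, 0, 2, 1, 2, 0, 2, 0, 0, 0, 3, 1, 2, 1, 1, 2, 0, 0, 2, 0, 2, 1, 2, 0, 3, 0, 0, 3, 0, 2, 1, 1, 1, 3, 0, 0, 2, 0, 2, 1, 2, 0, 0, 1, 2, 0, 0, 0, 3, 1, 2, 1, 1, 2, 0, 3, 0, 3, 0, 0, 0, 2, 0], [1, 2, 1, 3, 0, 2, 1, 2, 1, 1, 1, 3]), ([5], [5]), ([1, 3, 1, 1, 1, 2, 1, 1, 2, 0, 2, 1, 2, 1, 2, 1, 1, 3, 1, 1, 1, 2, 1, 1, 2, 0, 2, 1, 2, 1, 2, 0, 0, 3, 1, 2, 1, 1, 1, 3, 0, 0, 2, 0, 2, 1, 2, 0, 2, 0, 0, 0, 3, 1, 2, 1, 1, 2, 0, 0, 2, 0, 2, 1, 2, 0, 3, 0, 0, 3, 0, 2, 1, 1, 1,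 3, 0, 0, 2, 0, 2, 1, 2, 0, 0, 1, 2, 0, 0, 0, 3, 1, 2, 1, 1, 2, 0, 3, 0, 3, 0, 0, 0, 2, 0], [1, 2, 1, 3, 0, 2, 1, 2, 1, 1, 1, 3]), ([5], [5])]⟩,
  ⟨[26, 5, 40, 4], [([0, 2, 0, 2, 1, 2, 0, 3, 0, 0, 3, 0, 2, 1, 1, 1, 3, 3, 0, 0, 3, 0, 2, 1, 1, 1, 3, 0], [0, 2, 0, 2, 1, 2, 0, 3, 0, 0, 3, 0, 2, 1, 1, 1, 3, 3, 0, 0, 3, 0, 2, 1, 1, 1, 3, 0]), ([6], [1, 2, 0, 0, 0, 3, 1, 2, 1, 1, 2, 0, 3, 0, 3, 0, 0, 0, 2, 0, 5, 1, 3, 1, 1, 1, 2, 1, 1, 2, 0, 2, 1, 2, 1, 2, 1, 1, 3, 1, 1, 1, 2, 1, 1, 2, 0, 2, 1, 2, 1, 2, 0, 0, 3, 1, 2, 1, 1, 1, 3, 0, 0, 2, 0, 2, 1, 2, 0, 2, 0, 0, 0, 3, 1, 2, 1, 1, 2, 0, 0, 2, 0, 2, 1, 2, 0, 3, 0, 0, 3, 0, 2, 1, 1, 1, 3, 0, 0, 2, 0, 2, 1, 2, 0,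 0]), ([1, 1, 3, 0, 3, 1, 3, 1], [1, 1, 3, 0, 3, 1, 3, 1]), ([7], [1, 1, 3, 0, 3, 1, 3, 1, 1, 2, 0, 0, 0, 3, 1, 2, 1, 1, 2, 1, 3, 0, 3, 1, 3, 1, 1, 3, 0, 0, 3, 0, 2, 1, 1, 1, 3, 1, 3, 0, 3, 1, 3, 1, 1, 2, 0, 0, 0, 3, 0, 2, 1, 1, 3, 0, 3, 0, 3, 1, 3, 0, 0, 3, 0, 0, 0, 2, 0, 0, 3, 0, 3, 0, 3, 1, 3, 0, 0, 3, 0, 0, 0, 2, 0, 4, 1, 3, 1, 1, 1, 2, 1, 2, 1, 3, 0, 0, 3, 0, 2, 1, 1, 1, 3, 0]), ([1, 2, 0, 0, 0, 3, 1, 2, 1, 1, 2, 2, 0, 0, 0, 3, 1, 2, 1, 1, 2, 0], [1, 2, 0, 0, 0, 3, 1, 2, 1, 1, 2, 2, 0, 0, 0, 3, 1, 2, 1, 1, 2, 0])], 228, [([1, 3, 1, 1, 1, 2, 1, 2, 1, 3, 0, 0, 3, 0, 2, 1, 1, 1, 3, 0, 1, 2, 0, 0, 0, 3, 1, 2, 1, 1, 2, 2, 0, 0, 0, 3, 1, 2, 1, 1, 2, 0,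 0, 2, 0, 2, 1, 2, 0, 3, 0, 0, 3, 0, 2, 1, 1, 1, 3, 3, 0, 0, 3, 0, 2, 1, 1, 1, 3, 0, 1, 2, 0, 0, 0, 3, 1, 2, 1, 1, 2, 0, 3, 0, 3, 0, 0, 0, 2, 0], [2, 0, 0, 0, 3, 1, 2, 0, 2, 1, 1, 2]), ([5], [5]), ([1, 3, 1, 1, 1, 2, 1, 1, 2, 0, 2, 1, 2, 1, 2, 1, 1, 3, 1, 1, 1, 2, 1, 1, 2, 0, 2, 1, 2, 1, 2, 0, 0, 3, 1, 2, 1, 1, 1, 3, 0, 0, 2, 0, 2, 1, 2, 0, 2, 0, 0, 0, 3, 1, 2, 1, 1, 2, 0, 0, 2, 0, 2, 1, 2, 0, 3, 0, 0, 3, 0, 2, 1, 1, 1, 3, 0, 0, 2, 0, 2, 1, 2, 0, 0, 1, 1, 3, 0, 3, 1, 3, 1, 1, 1, 3, 0, 3, 1, 3, 1, 1, 2, 0, 0, 0, 3, 1, 2, 1, 1, 2, 1, 3, 0, 3, 1, 3, 1, 1, 3, 0, 0, 3, 0, 2, 1, 1, 1, 3, 1, 3, 0, 3, 1, 3, 1, 1, 2, 0, 0, 0, 3, 0, 2, 1, 1, 3, 0, 3, 0, 3, 1, 3,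 0, 0, 3, 0, 0, 0, 2, 0, 0, 3, 0, 3, 0, 3, 1, 3, 0, 0, 3, 0, 0, 0, 2, 0], [2, 1, 1, 1, 3, 1, 2, 1, 1, 1, 2]), ([4], [4])]⟩,
  ⟨[52, 4, 24, 5, 39, 4, 54, 5], [([4, 1, 3, 1, 1, 1, 2, 1, 2, 0, 3, 0, 3, 0, 3, 1, 3, 0, 2, 1, 3, 1, 1, 1, 2, 1, 2, 0, 3, 0, 3, 0, 3, 1, 3, 0, 2, 1, 3, 1, 1, 1, 2, 1, 2, 5], [4, 1, 3, 1, 1, 1, 2, 1, 2, 0, 3, 0, 3, 0, 3, 1, 3, 0, 2, 1, 3, 1, 1, 1, 2, 1, 2, 0, 3, 0, 3, 0, 3, 1, 3, 0, 2, 1, 3, 1, 1, 1, 2, 1, 2, 5]), ([7], [1, 1, 3, 0, 3, 1, 3, 1, 1, 2, 0, 0, 0, 3, 1, 2, 1, 1, 2, 1, 3, 0, 3, 1, 3, 1, 1, 3, 0, 0, 3, 0, 2, 1, 1, 1, 3, 1, 3, 0, 3, 1, 3, 1, 1, 2, 0, 0, 0, 3, 0, 2, 1, 1, 3, 0, 3, 0, 3, 1, 3, 0, 0, 3, 0, 0, 0, 2, 0, 0, 3,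 0, 3, 0, 3, 1, 3, 0, 0, 3, 0, 0, 0, 2, 0, 4, 1, 3, 1, 1, 1, 2, 1, 2, 1, 3, 0, 0, 3, 0, 2, 1, 1, 1, 3, 0]), ([1, 3, 0, 0, 3, 0, 2, 1, 1, 1, 3, 1, 3, 0, 3, 1, 3, 1, 1, 2, 0, 0, 0, 3, 1, 2, 1, 1, 2, 0], [1, 3, 0, 0, 3, 0, 2, 1, 1, 1, 3, 1, 3, 0, 3, 1, 3, 1, 1, 2, 0, 0, 0, 3, 1, 2, 1, 1, 2, 0]), ([6], [1, 2, 0, 0, 0, 3, 1, 2, 1, 1, 2, 0, 3, 0, 3, 0, 0, 0, 2, 0, 5, 1, 3, 1, 1, 1, 2, 1, 1, 2, 0, 2, 1, 2, 1, 2, 1, 1, 3, 1, 1, 1, 2, 1, 1, 2, 0, 2, 1, 2, 1, 2, 0, 0, 3, 1, 2, 1, 1, 1, 3, 0, 0, 2, 0, 2, 1, 2, 0, 2, 0, 0, 0, 3, 1, 2, 1, 1, 2, 0, 0, 2, 0, 2, 1, 2, 0, 3, 0, 0, 3, 0, 2, 1, 1, 1, 3, 0, 0, 2, 0, 2, 1, 2, 0, 0]), ([1, 3, 0, 2, 1, 1, 2, 0, 3, 0, 0, 0],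 [1, 3, 0, 2, 1, 1, 2, 0, 3, 0, 0, 0])], 203, [([1, 3, 1, 1, 1, 2, 1, 1, 2, 0, 2, 1, 2, 1, 2, 1, 1, 3, 1, 1, 1, 2, 1, 1, 2, 0, 2, 1, 2, 1, 2, 0, 0, 3, 1, 2, 1, 1, 1, 3, 0, 0, 2, 0, 2, 1, 2, 0, 2, 0, 0, 0, 3, 1, 2, 1, 1, 2, 0, 0, 2, 0, 2, 1, 2, 0, 3, 0, 0, 3, 0, 2, 1, 1, 1, 3, 0, 0, 2, 0, 2, 1, 2, 0, 0, 1, 3, 0, 2, 1, 1, 2, 0, 3, 0, 0, 0], [2, 0, 2, 1, 1, 3, 1, 3]), ([4], [4]), ([1, 3, 1, 1, 1, 2, 1, 2, 0, 3, 0, 3, 0, 3, 1, 3, 0, 2, 1, 3, 1, 1, 1, 2, 1, 2, 0, 3, 0, 3, 0, 3, 1, 3, 0, 2, 1, 3, 1, 1, 1, 2, 1, 2], [0, 0, 3, 1, 1, 3, 0, 2, 1, 2, 0, 2]), ([5], [5]), ([1, 1, 3, 0, 3, 1, 3, 1, 1, 2, 0, 0, 0, 3, 1, 2, 1, 1, 2, 1, 3, 0, 3, 1, 3, 1, 1, 3, 0, 0, 3,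 0, 2, 1, 1, 1, 3, 1, 3, 0, 3, 1, 3, 1, 1, 2, 0, 0, 0, 3, 0, 2, 1, 1, 3, 0, 3, 0, 3, 1, 3, 0, 0, 3, 0, 0, 0, 2, 0, 0, 3, 0, 3, 0, 3, 1, 3, 0, 0, 3, 0, 0, 0, 2, 0], [3, 0, 3, 1, 1, 2, 0, 0]), ([4], [4]), ([1, 3, 1, 1, 1, 2, 1, 2, 1, 3, 0, 0, 3, 0, 2, 1, 1, 1, 3, 0, 1, 3, 0, 0, 3, 0, 2, 1, 1, 1, 3, 1, 3, 0, 3, 1, 3, 1, 1, 2, 0, 0, 0, 3, 1, 2, 1, 1, 2, 0, 1, 2, 0, 0, 0, 3, 1, 2, 1, 1, 2, 0, 3, 0, 3, 0, 0, 0, 2, 0], [1, 1, 1, 2, 0, 0, 3, 1, 3, 0, 2]), ([5], [5])]⟩]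

/-- Relators from the subgroup. -/
def exM24 : List XCert := [
  ⟨[12, 12], [6, 6], [([0, 0, 2, 0, 3, 0, 2, 0, 0, 2, 0, 3, 0, 2], [0, 0, 2, 0, 3, 0, 2, 0, 0, 2, 0, 3, 0, 2]), ([0, 0, 2, 0, 3, 0, 2, 0, 0, 2, 0, 3, 0, 2], [0, 0, 2, 0, 3, 0, 2, 0, 0, 2, 0, 3, 0, 2])]⟩,
  ⟨[14, 14], [8, 8], [([1, 1, 2, 1, 1, 3, 1, 2, 1, 1, 3, 0], [1, 1, 2, 1, 1, 3, 1, 2, 1, 1, 3, 0]), ([1, 1, 2, 1, 1, 3, 1, 2, 1, 1, 3, 0], [1, 1, 2, 1, 1, 3, 1, 2, 1, 1, 3, 0])]⟩,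
  ⟨[16, 16], [10, 10], [([1, 2, 1, 1, 2, 0, 0, 3, 0, 2], [1, 2, 1, 1, 2, 0, 0, 3, 0, 2]), ([1, 2, 1, 1, 2, 0, 0, 3, 0, 2], [1, 2, 1, 1, 2, 0, 0, 3, 0, 2])]⟩,
  ⟨[18, 18], [12, 12], [([0, 2, 1, 2, 0, 3, 0, 2, 1, 3, 0, 3], [0, 2, 1, 2, 0, 3, 0, 2, 1, 3, 0, 3]), ([0, 2, 1, 2, 0, 3, 0, 2, 1, 3, 0, 3], [0, 2, 1, 2, 0, 3, 0, 2, 1, 3, 0, 3])]⟩,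
  ⟨[20, 20], [14, 14], [([1, 1, 1, 2, 0, 3, 0, 2, 1, 2, 0, 2], [1, 1, 1, 2, 0, 3, 0, 2, 1, 2, 0, 2]), ([1, 1, 1, 2, 0, 3, 0, 2, 1, 2, 0, 2], [1, 1, 1, 2, 0, 3, 0, 2, 1, 2, 0, 2])]⟩,
  ⟨[22, 22], [16, 16], [([0, 2, 0, 2, 1, 2, 1, 3, 1, 1, 3], [0, 2, 0, 2, 1, 2, 1, 3, 1, 1, 3]), ([0, 2, 0, 2, 1, 2, 1, 3, 1, 1, 3], [0, 2, 0, 2, 1, 2, 1, 3, 1, 1, 3])]⟩,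
  ⟨[12, 14, 12, 14], [6, 8, 6, 8], [([0, 0, 2, 0, 3, 0, 2, 0, 0, 2, 0, 3, 0, 2], [0, 0, 2, 0, 3, 0, 2, 0, 0, 2, 0, 3, 0, 2]), ([1, 1, 2, 1, 1, 3, 1, 2, 1, 1, 3, 0], [1, 1, 2, 1, 1, 3, 1, 2, 1, 1, 3, 0]), ([0, 0, 2, 0, 3, 0, 2, 0, 0, 2, 0, 3, 0, 2], [0, 0, 2, 0, 3, 0, 2, 0, 0, 2, 0, 3, 0, 2]), ([1, 1, 2, 1, 1, 3, 1, 2, 1, 1, 3, 0], [1, 1, 2, 1, 1, 3, 1, 2, 1, 1, 3, 0])]⟩,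
  ⟨[12, 16, 12, 16], [6, 10, 6, 10], [([0, 0, 2, 0, 3, 0, 2, 0, 0, 2, 0, 3, 0, 2], [0, 0, 2, 0, 3, 0, 2, 0, 0, 2, 0, 3, 0, 2]), ([1, 2, 1, 1, 2, 0, 0, 3, 0, 2], [1, 2, 1, 1, 2, 0, 0, 3, 0, 2]), ([0, 0, 2, 0, 3, 0, 2, 0, 0, 2, 0, 3, 0, 2], [0, 0, 2, 0, 3, 0, 2, 0, 0, 2, 0, 3, 0, 2]), ([1, 2, 1, 1, 2, 0, 0, 3, 0, 2], [1, 2, 1, 1, 2, 0, 0, 3, 0, 2])]⟩,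
  ⟨[12, 18, 12, 18], [6, 12, 6, 12], [([0, 0, 2, 0, 3, 0, 2, 0, 0, 2, 0, 3, 0, 2], [0, 0, 2, 0, 3, 0, 2, 0, 0, 2, 0, 3, 0, 2]), ([0, 2, 1, 2, 0, 3, 0, 2, 1, 3, 0, 3], [0, 2, 1, 2, 0, 3, 0, 2, 1, 3, 0, 3]), ([0, 0, 2, 0, 3, 0, 2, 0, 0, 2, 0, 3, 0, 2], [0, 0, 2, 0, 3, 0, 2, 0, 0, 2, 0, 3, 0, 2]), ([0, 2, 1, 2, 0, 3, 0, 2, 1, 3, 0, 3], [0, 2, 1, 2, 0, 3, 0, 2, 1, 3, 0, 3])]⟩,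
  ⟨[12, 20, 12, 20], [6, 14, 6, 14], [([0, 0, 2, 0, 3, 0, 2, 0, 0, 2, 0, 3, 0, 2], [0, 0, 2, 0, 3, 0, 2, 0, 0, 2, 0, 3, 0, 2]), ([1, 1, 1, 2, 0, 3, 0, 2, 1, 2, 0, 2], [1, 1, 1, 2, 0, 3, 0, 2, 1, 2, 0, 2]), ([0, 0, 2, 0, 3, 0, 2, 0, 0, 2, 0, 3, 0, 2], [0, 0, 2, 0, 3, 0, 2, 0, 0, 2, 0, 3, 0, 2]), ([1, 1, 1, 2, 0, 3, 0, 2, 1, 2, 0, 2], [1, 1, 1, 2, 0, 3, 0, 2, 1, 2, 0, 2])]⟩,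
  ⟨[12, 22, 12, 22], [6, 16, 6, 16], [([0, 0, 2, 0, 3, 0, 2, 0, 0, 2, 0, 3, 0, 2], [0, 0, 2, 0, 3, 0, 2, 0, 0, 2, 0, 3, 0, 2]), ([0, 2, 0, 2, 1, 2, 1, 3, 1, 1, 3], [0, 2, 0, 2, 1, 2, 1, 3, 1, 1, 3]), ([0, 0, 2, 0, 3, 0, 2, 0, 0, 2, 0, 3, 0, 2], [0, 0, 2, 0, 3, 0, 2, 0, 0, 2, 0, 3, 0, 2]), ([0, 2, 0, 2, 1, 2, 1, 3, 1, 1, 3], [0, 2, 0, 2, 1, 2, 1, 3, 1, 1, 3])]⟩,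
  ⟨[14, 16, 14, 16], [8, 10, 8, 10], [([1, 1, 2, 1, 1, 3, 1, 2, 1, 1, 3, 0], [1, 1, 2, 1, 1, 3, 1, 2, 1, 1, 3, 0]), ([1, 2, 1, 1, 2, 0, 0, 3, 0, 2], [1, 2, 1, 1, 2, 0, 0, 3, 0, 2]), ([1, 1, 2, 1, 1, 3, 1, 2, 1, 1, 3, 0], [1, 1, 2, 1, 1, 3, 1, 2, 1, 1, 3, 0]), ([1, 2, 1, 1, 2, 0, 0, 3, 0, 2], [1, 2, 1, 1, 2, 0, 0, 3, 0, 2])]⟩,
  ⟨[14, 18, 14, 18], [8, 12, 8, 12], [([1, 1, 2, 1, 1, 3, 1, 2, 1, 1, 3, 0], [1, 1, 2, 1, 1, 3, 1, 2, 1, 1, 3, 0]), ([0, 2, 1, 2, 0, 3, 0, 2, 1, 3, 0, 3], [0, 2, 1, 2, 0, 3, 0, 2, 1, 3, 0, 3]), ([1, 1, 2, 1, 1, 3, 1, 2, 1, 1, 3, 0], [1, 1, 2, 1, 1, 3, 1, 2, 1, 1, 3, 0]), ([0, 2, 1, 2, 0, 3, 0, 2, 1, 3, 0, 3], [0, 2, 1, 2, 0, 3, 0,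 2, 1, 3, 0, 3])]⟩,
  ⟨[14, 20, 14, 20], [8, 14, 8, 14], [([1, 1, 2, 1, 1, 3, 1, 2, 1, 1, 3, 0], [1, 1, 2, 1, 1, 3, 1, 2, 1, 1, 3, 0]), ([1, 1, 1, 2, 0, 3, 0, 2, 1, 2, 0, 2], [1, 1, 1, 2, 0, 3, 0, 2, 1, 2, 0, 2]), ([1, 1, 2, 1, 1, 3, 1, 2, 1, 1, 3, 0], [1, 1, 2, 1, 1, 3, 1, 2, 1, 1, 3, 0]), ([1, 1, 1, 2, 0, 3, 0, 2, 1, 2, 0, 2], [1, 1, 1, 2, 0, 3, 0, 2, 1, 2, 0, 2])]⟩,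
  ⟨[14, 22, 14, 22], [8, 16, 8, 16], [([1, 1, 2, 1, 1, 3, 1, 2, 1, 1, 3, 0], [1, 1, 2, 1, 1, 3, 1, 2, 1, 1, 3, 0]), ([0, 2, 0, 2, 1, 2, 1, 3, 1, 1, 3], [0, 2, 0, 2, 1, 2, 1, 3, 1, 1, 3]), ([1, 1, 2, 1, 1, 3, 1, 2, 1, 1, 3, 0], [1, 1, 2, 1, 1, 3, 1, 2, 1, 1, 3, 0]), ([0, 2, 0, 2, 1, 2, 1, 3, 1, 1, 3], [0, 2, 0, 2, 1, 2, 1, 3, 1, 1, 3])]⟩,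
  ⟨[16, 18, 16, 18], [10, 12, 10, 12], [([1, 2, 1, 1, 2, 0, 0, 3, 0, 2], [1, 2, 1, 1, 2, 0, 0, 3, 0, 2]), ([0, 2, 1, 2, 0, 3, 0, 2, 1, 3, 0, 3], [0, 2, 1, 2, 0, 3, 0, 2, 1, 3, 0, 3]), ([1, 2, 1, 1, 2, 0, 0, 3, 0, 2], [1, 2, 1, 1, 2, 0, 0, 3, 0, 2]), ([0, 2, 1, 2, 0, 3, 0, 2, 1, 3, 0, 3], [0, 2, 1, 2, 0, 3, 0, 2, 1, 3, 0, 3])]⟩,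
  ⟨[16, 20, 16, 20], [10, 14, 10, 14], [([1, 2, 1, 1, 2, 0, 0, 3, 0, 2], [1, 2, 1, 1, 2, 0, 0, 3, 0, 2]), ([1, 1, 1, 2, 0, 3, 0, 2, 1, 2, 0, 2], [1, 1, 1, 2, 0, 3, 0, 2, 1, 2, 0, 2]), ([1, 2, 1, 1, 2, 0, 0, 3, 0, 2], [1, 2, 1, 1, 2, 0, 0, 3, 0, 2]), ([1, 1, 1, 2, 0, 3, 0, 2, 1, 2, 0, 2], [1, 1, 1, 2, 0, 3, 0, 2, 1, 2, 0, 2])]⟩,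
  ⟨[16, 22, 16, 22], [10, 16, 10, 16], [([1, 2, 1, 1, 2, 0, 0, 3, 0, 2], [1, 2, 1, 1, 2, 0, 0, 3, 0, 2]), ([0, 2, 0, 2, 1, 2, 1, 3, 1, 1, 3], [0, 2, 0, 2, 1, 2, 1, 3, 1, 1, 3]), ([1, 2, 1, 1, 2, 0, 0, 3, 0, 2], [1, 2, 1, 1, 2, 0, 0, 3, 0, 2]), ([0, 2, 0, 2, 1, 2, 1, 3, 1, 1, 3], [0, 2, 0, 2, 1, 2, 1, 3, 1, 1, 3])]⟩,
  ⟨[18, 20, 18, 20], [12, 14, 12, 14], [([0, 2, 1, 2, 0, 3, 0, 2, 1, 3, 0, 3], [0, 2, 1, 2, 0, 3, 0, 2, 1, 3, 0, 3]), ([1, 1, 1, 2, 0, 3, 0, 2, 1, 2, 0, 2], [1, 1, 1, 2, 0, 3, 0, 2, 1, 2, 0, 2]), ([0, 2, 1, 2, 0, 3, 0, 2, 1, 3, 0, 3], [0, 2, 1, 2, 0, 3, 0, 2, 1, 3, 0, 3]), ([1, 1, 1, 2, 0, 3, 0, 2, 1, 2, 0, 2], [1, 1, 1, 2, 0, 3, 0, 2, 1,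 2, 0, 2])]⟩,
  ⟨[18, 22, 18, 22], [12, 16, 12, 16], [([0, 2, 1, 2, 0, 3, 0, 2, 1, 3, 0, 3], [0, 2, 1, 2, 0, 3, 0, 2, 1, 3, 0, 3]), ([0, 2, 0, 2, 1, 2, 1, 3, 1, 1, 3], [0, 2, 0, 2, 1, 2, 1, 3, 1, 1, 3]), ([0, 2, 1, 2, 0, 3, 0, 2, 1, 3, 0, 3], [0, 2, 1, 2, 0, 3, 0, 2, 1, 3, 0, 3]), ([0, 2, 0, 2, 1, 2, 1, 3, 1, 1, 3], [0, 2, 0, 2, 1, 2, 1, 3, 1, 1, 3])]⟩,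
  ⟨[20, 22, 20, 22], [14, 16, 14, 16], [([1, 1, 1, 2, 0, 3, 0, 2, 1, 2, 0, 2], [1, 1, 1, 2, 0, 3, 0, 2, 1, 2, 0, 2]), ([0, 2, 0, 2, 1, 2, 1, 3, 1, 1, 3], [0, 2, 0, 2, 1, 2, 1, 3, 1, 1, 3]), ([1, 1, 1, 2, 0, 3, 0, 2, 1, 2, 0, 2], [1, 1, 1, 2, 0, 3, 0, 2, 1, 2, 0, 2]), ([0, 2, 0, 2, 1, 2, 1, 3, 1, 1, 3], [0, 2, 0, 2, 1, 2, 1, 3, 1, 1, 3])]⟩,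
  ⟨[8, 12, 9, 13], [0, 6, 1, 7], [([0, 3, 0, 3, 0, 3, 1, 3, 0, 2], [0, 3, 0, 3, 0, 3, 1, 3, 0, 2]), ([0, 0, 2, 0, 3, 0, 2, 0, 0, 2, 0, 3, 0, 2], [0, 0, 2, 0, 3, 0, 2, 0, 0, 2, 0, 3, 0, 2]), ([3, 1, 2, 0, 2, 1, 2, 1, 2, 1], [3, 1, 2, 0, 2, 1, 2, 1, 2, 1]), ([3, 1, 2, 1, 3, 1, 1, 3, 1, 2, 1, 3, 1, 1], [3, 1, 2, 1, 3, 1, 1, 3, 1, 2, 1, 3, 1, 1])]⟩,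
  ⟨[8, 14, 9, 15], [0, 8, 1, 9], [([0, 3, 0, 3, 0, 3, 1, 3, 0, 2], [0, 3, 0, 3, 0, 3, 1, 3, 0, 2]), ([1, 1, 2, 1, 1, 3, 1, 2, 1, 1, 3, 0], [1, 1, 2, 1, 1, 3, 1, 2, 1, 1, 3, 0]), ([3, 1, 2, 0, 2, 1, 2, 1, 2, 1], [3, 1, 2, 0, 2, 1, 2, 1, 2, 1]), ([1, 2, 0, 0, 3, 0, 2, 0, 0, 3, 0, 0], [1, 2, 0, 0, 3, 0, 2, 0, 0, 3, 0, 0])]⟩,
  ⟨[8, 16, 9, 17], [0, 10, 1, 11], [([0, 3, 0, 3, 0, 3, 1, 3, 0, 2], [0, 3, 0, 3, 0, 3, 1, 3, 0, 2]), ([1, 2, 1, 1, 2, 0, 0, 3, 0, 2], [1, 2, 1, 1, 2, 0, 0, 3, 0, 2]), ([3, 1, 2, 0, 2, 1, 2, 1, 2, 1], [3, 1, 2, 0, 2, 1, 2, 1, 2, 1]), ([3, 1, 2, 1, 1, 3, 0, 0, 3, 0], [3, 1, 2, 1, 1, 3, 0, 0, 3, 0])]⟩,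
  ⟨[8, 18, 9, 19, 17], [0, 12, 1, 13, 11], [([0, 3, 0, 3, 0, 3, 1, 3, 0, 2], [0, 3, 0, 3, 0, 3, 1, 3, 0, 2]), ([0, 2, 1, 2, 0, 3, 0, 2, 1, 3, 0, 3], [0, 2, 1, 2, 0, 3, 0, 2, 1, 3, 0, 3]), ([3, 1, 2, 0, 2, 1, 2, 1, 2, 1], [3, 1, 2, 0, 2, 1, 2, 1, 2, 1]), ([2, 1, 2, 0, 3, 1, 2, 1, 3, 0, 3, 1], [2, 1, 2, 0, 3, 1, 2, 1, 3, 0, 3, 1]), ([3, 1, 2, 1, 1, 3, 0, 0, 3, 0], [3, 1, 2, 1, 1, 3, 0, 0, 3, 0])]⟩,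
  ⟨[8, 20, 9, 21], [0, 14, 1, 15], [([0, 3, 0, 3, 0, 3, 1, 3, 0, 2], [0, 3, 0, 3, 0, 3, 1, 3, 0, 2]), ([1, 1, 1, 2, 0, 3, 0, 2, 1, 2, 0, 2], [1, 1, 1, 2, 0, 3, 0, 2, 1, 2, 0, 2]), ([3, 1, 2, 0, 2, 1, 2, 1, 2, 1], [3, 1, 2, 0, 2, 1, 2, 1, 2, 1]), ([3, 1, 3, 0, 3, 1, 2, 1, 3, 0, 0, 0], [3, 1, 3, 0, 3, 1, 2, 1, 3, 0, 0, 0])]⟩,
  ⟨[8, 22, 9, 23, 21], [0, 16, 1, 17, 15], [([0, 3, 0, 3, 0, 3, 1, 3, 0, 2], [0, 3, 0, 3, 0, 3, 1, 3, 0, 2]), ([0, 2, 0, 2, 1, 2, 1, 3, 1, 1, 3], [0, 2, 0, 2, 1, 2, 1, 3, 1, 1, 3]), ([3, 1, 2, 0, 2, 1, 2, 1, 2, 1], [3, 1, 2, 0, 2, 1, 2, 1, 2, 1]), ([2, 0, 0, 2, 0, 3, 0, 3, 1, 3, 1], [2, 0, 0, 2, 0, 3, 0, 3, 1, 3, 1]), ([3, 1, 3, 0,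 3, 1, 2, 1, 3, 0, 0, 0], [3, 1, 3, 0, 3, 1, 2, 1, 3, 0, 0, 0])]⟩,
  ⟨[10, 12, 11, 13], [2, 6, 3, 7], [([1, 3, 1, 1, 1, 2, 1, 2], [1, 3, 1, 1, 1, 2, 1, 2]), ([0, 0, 2, 0, 3, 0, 2, 0, 0, 2, 0, 3, 0, 2], [0, 0, 2, 0, 3, 0, 2, 0, 0, 2, 0, 3, 0, 2]), ([3, 0, 3, 0, 0, 0, 2, 0], [3, 0, 3, 0, 0, 0, 2, 0]), ([3, 1, 2, 1, 3, 1, 1, 3, 1, 2, 1, 3, 1, 1], [3, 1, 2, 1, 3, 1, 1, 3, 1, 2, 1, 3, 1, 1])]⟩,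
  ⟨[10, 14, 11, 15, 13], [2, 8, 3, 9, 7], [([1, 3, 1, 1, 1, 2, 1, 2], [1, 3, 1, 1, 1, 2, 1, 2]), ([1, 1, 2, 1, 1, 3, 1, 2, 1, 1, 3, 0], [1, 1, 2, 1, 1, 3, 1, 2, 1, 1, 3, 0]), ([3, 0, 3, 0, 0, 0, 2, 0], [3, 0, 3, 0, 0, 0, 2, 0]), ([1, 2, 0, 0, 3, 0, 2, 0, 0, 3, 0, 0], [1, 2, 0, 0, 3, 0, 2, 0, 0, 3, 0, 0]), ([3, 1, 2, 1, 3, 1, 1, 3, 1, 2, 1, 3, 1, 1], [3, 1, 2, 1, 3, 1, 1, 3, 1, 2, 1, 3, 1, 1])]⟩,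
  ⟨[10, 16, 11, 23, 19], [2, 10, 3, 17, 13], [([1, 3, 1, 1, 1, 2, 1, 2], [1, 3, 1, 1, 1, 2, 1, 2]), ([1, 2, 1, 1, 2, 0, 0, 3, 0, 2], [1, 2, 1, 1, 2, 0, 0, 3, 0, 2]), ([3, 0, 3, 0, 0, 0, 2, 0], [3, 0, 3, 0, 0, 0, 2, 0]), ([2, 0, 0, 2, 0, 3, 0, 3, 1, 3, 1], [2, 0, 0, 2, 0, 3, 0, 3, 1, 3, 1]), ([2, 1, 2, 0, 3, 1, 2, 1, 3, 0, 3, 1], [2, 1, 2, 0, 3, 1, 2, 1, 3, 0, 3, 1])]⟩,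
  ⟨[10, 18, 11, 21, 17, 15], [2, 12, 3, 15, 11, 9], [([1, 3, 1, 1, 1, 2, 1, 2], [1, 3, 1, 1, 1, 2, 1, 2]), ([0, 2, 1, 2, 0, 3, 0, 2, 1, 3, 0, 3], [0, 2, 1, 2, 0, 3, 0, 2, 1, 3, 0, 3]), ([3, 0, 3, 0, 0, 0, 2, 0], [3, 0, 3, 0, 0, 0, 2, 0]), ([3, 1, 3, 0, 3, 1, 2, 1, 3, 0, 0, 0], [3, 1, 3, 0, 3, 1, 2, 1, 3, 0, 0, 0]), ([3, 1, 2, 1, 1, 3, 0, 0, 3, 0], [3, 1, 2, 1, 1, 3, 0, 0, 3, 0]), ([1, 2, 0, 0, 3, 0, 2, 0, 0, 3, 0, 0], [1, 2, 0, 0, 3, 0, 2, 0, 0, 3, 0, 0])]⟩,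
  ⟨[10, 20, 11, 23], [2, 14, 3, 17], [([1, 3, 1, 1, 1, 2, 1, 2], [1, 3, 1, 1, 1, 2, 1, 2]), ([1, 1, 1, 2, 0, 3, 0, 2, 1, 2, 0, 2], [1, 1, 1, 2, 0, 3, 0, 2, 1, 2, 0, 2]), ([3, 0, 3, 0, 0, 0, 2, 0], [3, 0, 3, 0, 0, 0, 2, 0]), ([2, 0, 0, 2, 0, 3, 0, 3, 1, 3, 1], [2, 0, 0, 2, 0, 3, 0, 3, 1, 3, 1])]⟩,
  ⟨[10, 22, 11, 21, 13], [2, 16, 3, 15, 7], [([1, 3, 1, 1, 1, 2, 1, 2], [1, 3, 1, 1, 1, 2, 1, 2]), ([0, 2, 0, 2, 1, 2, 1, 3, 1, 1, 3], [0, 2, 0, 2, 1, 2, 1, 3, 1, 1, 3]), ([3, 0, 3, 0, 0, 0, 2, 0], [3, 0, 3, 0, 0, 0, 2, 0]), ([3, 1, 3, 0, 3, 1, 2, 1, 3, 0, 0, 0], [3, 1, 3, 0, 3, 1, 2, 1, 3, 0, 0, 0]), ([3, 1, 2, 1, 3, 1, 1, 3, 1, 2, 1, 3, 1, 1], [3, 1, 2, 1,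 3, 1, 1, 3, 1, 2, 1, 3, 1, 1])]⟩,
  ⟨[8, 8], [0, 0], [([0, 3, 0, 3, 0, 3, 1, 3, 0, 2], [0, 3, 0, 3, 0, 3, 1, 3, 0, 2]), ([0, 3, 0, 3, 0, 3, 1, 3, 0, 2], [0, 3, 0, 3, 0, 3, 1, 3, 0, 2])]⟩,
  ⟨[4, 4, 4], [4, 4, 4], [([4], [4]), ([4], [4]), ([4], [4])]⟩,
  ⟨[8, 4, 8, 4, 8, 4], [0, 4, 0, 4, 0, 4], [([0, 3, 0, 3, 0, 3, 1, 3, 0, 2], [0, 3, 0, 3, 0, 3, 1, 3, 0, 2]), ([4], [4]), ([0, 3, 0, 3, 0, 3, 1, 3, 0, 2], [0, 3, 0, 3, 0, 3, 1, 3, 0, 2]), ([4], [4]), ([0, 3, 0, 3, 0, 3, 1, 3, 0, 2], [0, 3, 0, 3, 0, 3, 1, 3, 0, 2]), ([4], [4])]⟩,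
  ⟨[8, 4, 10, 5, 8, 4, 10, 5], [0, 4, 2, 5, 0, 4, 2, 5], [([0, 3, 0, 3, 0, 3, 1, 3, 0, 2], [0, 3, 0, 3, 0, 3, 1, 3, 0, 2]), ([4], [4]), ([1, 3, 1, 1, 1, 2, 1, 2], [1, 3, 1, 1, 1, 2, 1, 2]), ([5], [5]), ([0, 3, 0, 3, 0, 3, 1, 3, 0, 2], [0, 3, 0, 3, 0, 3, 1, 3, 0, 2]), ([4], [4]), ([1, 3, 1, 1, 1, 2, 1, 2], [1, 3, 1, 1, 1, 2, 1, 2]), ([5], [5])]⟩,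
  ⟨[8, 11, 5, 11, 4, 8, 10, 4, 10, 4], [0, 3, 5, 3, 4, 0, 2, 4, 2, 4], [([0, 3, 0, 3, 0, 3, 1, 3, 0, 2], [0, 3, 0, 3, 0, 3, 1, 3, 0, 2]), ([3, 0, 3, 0, 0, 0, 2, 0], [3, 0, 3, 0, 0, 0, 2, 0]), ([5], [5]), ([3, 0, 3, 0, 0, 0, 2, 0], [3, 0, 3, 0, 0, 0, 2, 0]), ([4], [4]), ([0, 3, 0, 3, 0, 3, 1, 3, 0, 2], [0, 3, 0, 3, 0, 3, 1, 3, 0, 2]), ([1, 3, 1, 1, 1, 2, 1, 2], [1, 3, 1, 1, 1, 2, 1, 2]), ([4], [4]), ([1, 3, 1, 1, 1, 2, 1, 2], [1, 3, 1, 1, 1, 2, 1, 2]), ([4], [4])]⟩,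
  ⟨[4, 12, 5, 16], [4, 6, 5, 10], [([4], [4]), ([0, 0, 2, 0, 3, 0, 2, 0, 0, 2, 0, 3, 0, 2], [0, 0, 2, 0, 3, 0, 2, 0, 0, 2, 0, 3, 0, 2]), ([5], [5]), ([1, 2, 1, 1, 2, 0, 0, 3, 0, 2], [1, 2, 1, 1, 2, 0, 0, 3, 0, 2])]⟩,
  ⟨[4, 14, 5, 20], [4, 8, 5, 14], [([4], [4]), ([1, 1, 2, 1, 1, 3, 1, 2, 1, 1, 3, 0], [1, 1, 2, 1, 1, 3, 1, 2, 1, 1, 3, 0]), ([5], [5]), ([1, 1, 1, 2, 0, 3, 0, 2, 1, 2, 0, 2], [1, 1, 1, 2, 0, 3, 0, 2, 1, 2, 0, 2])]⟩,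
  ⟨[4, 16, 5, 10, 18, 11], [4, 10, 5, 2, 12, 3], [([4], [4]), ([1, 2, 1, 1, 2, 0, 0, 3, 0, 2], [1, 2, 1, 1, 2, 0, 0, 3, 0, 2]), ([5], [5]), ([1, 3, 1, 1, 1, 2, 1, 2], [1, 3, 1, 1, 1, 2, 1, 2]), ([0, 2, 1, 2, 0, 3, 0, 2, 1, 3, 0, 3], [0, 2, 1, 2, 0, 3, 0, 2, 1, 3, 0, 3]), ([3, 0, 3, 0, 0, 0, 2, 0], [3, 0, 3, 0, 0, 0, 2, 0])]⟩,
  ⟨[4, 18, 5, 12, 16, 18, 22], [4, 12, 5, 6, 10, 12, 16], [([4], [4]), ([0, 2, 1, 2, 0, 3, 0, 2, 1, 3, 0, 3], [0, 2, 1, 2, 0, 3, 0, 2, 1, 3, 0, 3]), ([5], [5]), ([0, 0, 2, 0, 3, 0, 2, 0, 0, 2, 0, 3, 0, 2], [0, 0, 2, 0, 3, 0, 2, 0, 0, 2, 0, 3, 0, 2]), ([1, 2, 1, 1, 2, 0, 0, 3, 0, 2], [1, 2, 1, 1, 2, 0, 0, 3, 0, 2]), ([0, 2, 1, 2,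 0, 3, 0, 2, 1, 3, 0, 3], [0, 2, 1, 2, 0, 3, 0, 2, 1, 3, 0, 3]), ([0, 2, 0, 2, 1, 2, 1, 3, 1, 1, 3], [0, 2, 0, 2, 1, 2, 1, 3, 1, 1, 3])]⟩,
  ⟨[4, 20, 5, 12, 14, 16], [4, 14, 5, 6, 8, 10], [([4], [4]), ([1, 1, 1, 2, 0, 3, 0, 2, 1, 2, 0, 2], [1, 1, 1, 2, 0, 3, 0, 2, 1, 2, 0, 2]), ([5], [5]), ([0, 0, 2, 0, 3, 0, 2, 0, 0, 2, 0, 3, 0, 2], [0, 0, 2, 0, 3, 0, 2, 0, 0, 2, 0, 3, 0, 2]), ([1, 1, 2, 1, 1, 3, 1, 2, 1, 1, 3, 0], [1, 1, 2, 1, 1, 3, 1, 2, 1, 1, 3, 0]), ([1, 2, 1, 1, 2, 0, 0, 3, 0, 2], [1, 2, 1, 1, 2, 0, 0, 3, 0, 2])]⟩,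
  ⟨[4, 22, 5, 14, 18, 20], [4, 16, 5, 8, 12, 14], [([4], [4]), ([0, 2, 0, 2, 1, 2, 1, 3, 1, 1, 3], [0, 2, 0, 2, 1, 2, 1, 3, 1, 1, 3]), ([5], [5]), ([1, 1, 2, 1, 1, 3, 1, 2, 1, 1, 3, 0], [1, 1, 2, 1, 1, 3, 1, 2, 1, 1, 3, 0]), ([0, 2, 1, 2, 0, 3, 0, 2, 1, 3, 0, 3], [0, 2, 1, 2, 0, 3, 0, 2, 1, 3, 0, 3]), ([1, 1, 1, 2, 0, 3, 0, 2, 1, 2, 0, 2], [1, 1, 1, 2, 0, 3, 0, 2, 1, 2, 0, 2])]⟩,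
  ⟨[10, 8, 8, 11], [2, 0, 0, 3], [([1, 3, 1, 1, 1, 2, 1, 2], [1, 3, 1, 1, 1, 2, 1, 2]), ([0, 3, 0, 3, 0, 3, 1, 3, 0, 2], [0, 3, 0, 3, 0, 3, 1, 3, 0, 2]), ([0, 3, 0, 3, 0, 3, 1, 3, 0, 2], [0, 3, 0, 3, 0, 3, 1, 3, 0, 2]), ([3, 0, 3, 0, 0, 0, 2, 0], [3, 0, 3, 0, 0, 0, 2, 0])]⟩,
  ⟨[10, 10, 10, 10], [2, 2, 2, 2], [([1, 3, 1, 1, 1, 2, 1, 2], [1, 3, 1, 1, 1, 2, 1, 2]), ([1, 3, 1, 1, 1, 2, 1, 2], [1, 3, 1, 1, 1, 2, 1, 2]), ([1, 3, 1, 1, 1, 2, 1, 2], [1, 3, 1, 1, 1, 2, 1, 2]), ([1, 3, 1, 1, 1, 2, 1, 2], [1, 3, 1, 1, 1, 2, 1, 2])]⟩,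
  ⟨[11, 8, 8, 10], [3, 0, 0, 2], [([3, 0, 3, 0, 0, 0, 2, 0], [3, 0, 3, 0, 0, 0, 2, 0]), ([0, 3, 0, 3, 0, 3, 1, 3, 0, 2], [0, 3, 0, 3, 0, 3, 1, 3, 0, 2]), ([0, 3, 0, 3, 0, 3, 1, 3, 0, 2], [0, 3, 0, 3, 0, 3, 1, 3, 0, 2]), ([1, 3, 1, 1, 1, 2, 1, 2], [1, 3, 1, 1, 1, 2, 1, 2])]⟩,
  ⟨[8, 10, 8, 8, 11, 9], [0, 2, 0, 0, 3, 1], [([0, 3, 0, 3, 0, 3, 1, 3, 0, 2], [0, 3, 0, 3, 0, 3, 1, 3, 0, 2]), ([1, 3, 1, 1, 1, 2, 1, 2], [1, 3, 1, 1, 1, 2, 1, 2]), ([0, 3, 0, 3, 0, 3, 1, 3, 0, 2], [0, 3, 0, 3, 0, 3, 1, 3, 0, 2]), ([0, 3, 0, 3, 0, 3, 1, 3, 0, 2], [0, 3, 0, 3, 0, 3, 1, 3, 0, 2]), ([3, 0, 3, 0, 0, 0, 2, 0], [3, 0, 3, 0, 0, 0, 2, 0]), ([3, 1, 2, 0, 2, 1, 2, 1, 2, 1],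 [3, 1, 2, 0, 2, 1, 2, 1, 2, 1])]⟩,
  ⟨[8, 10, 10, 10, 10, 9], [0, 2, 2, 2, 2, 1], [([0, 3, 0, 3, 0, 3, 1, 3, 0, 2], [0, 3, 0, 3, 0, 3, 1, 3, 0, 2]), ([1, 3, 1, 1, 1, 2, 1, 2], [1, 3, 1, 1, 1, 2, 1, 2]), ([1, 3, 1, 1, 1, 2, 1, 2], [1, 3, 1, 1, 1, 2, 1, 2]), ([1, 3, 1, 1, 1, 2, 1, 2], [1, 3, 1, 1, 1, 2, 1, 2]), ([1, 3, 1, 1, 1, 2, 1, 2], [1, 3, 1, 1, 1, 2, 1, 2]), ([3, 1, 2, 0, 2, 1, 2, 1, 2, 1], [3, 1, 2, 0, 2, 1, 2, 1, 2, 1])]⟩,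
  ⟨[8, 11, 8, 8, 10, 9], [0, 3, 0, 0, 2, 1], [([0, 3, 0, 3, 0, 3, 1, 3, 0, 2], [0, 3, 0, 3, 0, 3, 1, 3, 0, 2]), ([3, 0, 3, 0, 0, 0, 2, 0], [3, 0, 3, 0, 0, 0, 2, 0]), ([0, 3, 0, 3, 0, 3, 1, 3, 0, 2], [0, 3, 0, 3, 0, 3, 1, 3, 0, 2]), ([0, 3, 0, 3, 0, 3, 1, 3, 0, 2], [0, 3, 0, 3, 0, 3, 1, 3, 0, 2]), ([1, 3, 1, 1, 1, 2, 1, 2], [1, 3, 1, 1, 1, 2, 1, 2]), ([3, 1, 2, 0, 2, 1, 2, 1, 2, 1], [3, 1, 2, 0, 2, 1, 2, 1, 2, 1])]⟩,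
  ⟨[10, 10, 8, 8, 11, 11], [2, 2, 0, 0, 3, 3], [([1, 3, 1, 1, 1, 2, 1, 2], [1, 3, 1, 1, 1, 2, 1, 2]), ([1, 3, 1, 1, 1, 2, 1, 2], [1, 3, 1, 1, 1, 2, 1, 2]), ([0, 3, 0, 3, 0, 3, 1, 3, 0, 2], [0, 3, 0, 3, 0, 3, 1, 3, 0, 2]), ([0, 3, 0, 3, 0, 3, 1, 3, 0, 2], [0, 3, 0, 3, 0, 3, 1, 3, 0, 2]), ([3, 0, 3, 0, 0, 0, 2, 0], [3, 0, 3, 0, 0, 0, 2, 0]), ([3, 0, 3, 0, 0, 0, 2, 0], [3, 0, 3, 0, 0, 0, 2, 0])]⟩,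
  ⟨[8, 10, 10, 8, 8, 11, 11, 9], [0, 2, 2, 0, 0, 3, 3, 1], [([0, 3, 0, 3, 0, 3, 1, 3, 0, 2], [0, 3, 0, 3, 0, 3, 1, 3, 0, 2]), ([1, 3, 1, 1, 1, 2, 1, 2], [1, 3, 1, 1, 1, 2, 1, 2]), ([1, 3, 1, 1, 1, 2, 1, 2], [1, 3, 1, 1, 1, 2, 1, 2]), ([0, 3, 0, 3, 0, 3, 1, 3, 0, 2], [0, 3, 0, 3, 0, 3, 1, 3, 0, 2]), ([0, 3, 0, 3, 0, 3, 1, 3, 0, 2], [0, 3, 0, 3, 0, 3, 1, 3, 0, 2]), ([3, 0, 3, 0, 0, 0, 2, 0], [3, 0, 3, 0, 0, 0, 2, 0]), ([3, 0, 3, 0, 0, 0, 2, 0], [3, 0, 3, 0, 0, 0, 2, 0]), ([3, 1, 2, 0, 2, 1, 2, 1, 2, 1], [3, 1, 2, 0, 2, 1, 2, 1, 2, 1])]⟩,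
  ⟨[10, 8, 10, 8, 8, 11, 9, 11], [2, 0, 2, 0, 0, 3, 1, 3], [([1, 3, 1, 1, 1, 2, 1, 2], [1, 3, 1, 1, 1, 2, 1, 2]), ([0, 3, 0, 3, 0, 3, 1, 3, 0, 2], [0, 3, 0, 3, 0, 3, 1, 3, 0, 2]), ([1, 3, 1, 1, 1, 2, 1, 2], [1, 3, 1, 1, 1, 2, 1, 2]), ([0, 3, 0, 3, 0, 3, 1, 3, 0, 2], [0, 3, 0, 3, 0, 3, 1, 3, 0, 2]), ([0, 3, 0, 3, 0, 3, 1, 3, 0, 2], [0, 3, 0, 3, 0, 3, 1, 3, 0, 2]), ([3, 0, 3, 0, 0, 0, 2, 0], [3, 0, 3, 0, 0, 0, 2, 0]), ([3, 1, 2, 0, 2, 1, 2, 1, 2, 1], [3, 1, 2, 0, 2, 1, 2, 1, 2, 1]), ([3, 0, 3, 0, 0, 0, 2, 0], [3, 0, 3, 0, 0, 0, 2, 0])]⟩,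
  ⟨[10, 8, 10, 10, 10, 10, 9, 11], [2, 0, 2, 2, 2, 2, 1, 3], [([1, 3, 1, 1, 1, 2, 1, 2], [1, 3, 1, 1, 1, 2, 1, 2]), ([0, 3, 0, 3, 0, 3, 1, 3, 0, 2], [0, 3, 0, 3, 0, 3, 1, 3, 0, 2]), ([1, 3, 1, 1, 1, 2, 1, 2], [1, 3, 1, 1, 1, 2, 1, 2]), ([1, 3, 1, 1, 1, 2, 1, 2], [1, 3, 1, 1, 1, 2, 1, 2]), ([1, 3, 1, 1, 1, 2, 1, 2], [1, 3, 1, 1, 1, 2, 1, 2]), ([1, 3, 1, 1, 1, 2, 1, 2], [1, 3, 1, 1, 1, 2, 1, 2]), ([3, 1, 2, 0, 2, 1, 2, 1, 2, 1], [3, 1, 2, 0, 2, 1, 2, 1, 2, 1]), ([3, 0, 3, 0, 0, 0, 2, 0], [3, 0, 3, 0, 0, 0, 2, 0])]⟩,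
  ⟨[10, 8, 11, 8, 8, 10, 9, 11], [2, 0, 3, 0, 0, 2, 1, 3], [([1, 3, 1, 1, 1, 2, 1, 2], [1, 3, 1, 1, 1, 2, 1, 2]), ([0, 3, 0, 3, 0, 3, 1, 3, 0, 2], [0, 3, 0, 3, 0, 3, 1, 3, 0, 2]), ([3, 0, 3, 0, 0, 0, 2, 0], [3, 0, 3, 0, 0, 0, 2, 0]), ([0, 3, 0, 3, 0, 3, 1, 3, 0, 2], [0, 3, 0, 3, 0, 3, 1, 3, 0, 2]), ([0, 3, 0, 3, 0, 3, 1, 3, 0, 2], [0, 3, 0, 3, 0, 3, 1, 3, 0, 2]), ([1, 3, 1, 1, 1, 2, 1, 2], [1, 3, 1, 1, 1, 2, 1, 2]), ([3, 1, 2, 0, 2, 1, 2, 1, 2, 1], [3, 1, 2, 0, 2, 1, 2, 1, 2, 1]), ([3, 0, 3, 0, 0, 0, 2, 0], [3, 0, 3, 0, 0, 0, 2, 0])]⟩,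
  ⟨[11, 8, 10, 8, 8, 11, 9, 10], [3, 0, 2, 0, 0, 3, 1, 2], [([3, 0, 3, 0, 0, 0, 2, 0], [3, 0, 3, 0, 0, 0, 2, 0]), ([0, 3, 0, 3, 0, 3, 1, 3, 0, 2], [0, 3, 0, 3, 0, 3, 1, 3, 0, 2]), ([1, 3, 1, 1, 1, 2, 1, 2], [1, 3, 1, 1, 1, 2, 1, 2]), ([0, 3, 0, 3, 0, 3, 1, 3, 0, 2], [0, 3, 0, 3, 0, 3, 1, 3, 0, 2]), ([0, 3, 0, 3, 0, 3, 1, 3, 0, 2], [0, 3, 0, 3, 0, 3, 1, 3, 0, 2]), ([3, 0, 3, 0, 0, 0, 2, 0], [3, 0, 3, 0, 0, 0, 2, 0]), ([3, 1, 2, 0, 2, 1, 2, 1, 2, 1], [3, 1, 2, 0, 2, 1, 2, 1, 2, 1]), ([1, 3, 1, 1, 1, 2, 1, 2], [1, 3, 1, 1, 1, 2, 1, 2])]⟩,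
  ⟨[11, 8, 10, 10, 10, 10, 9, 10], [3, 0, 2, 2, 2, 2, 1, 2], [([3, 0, 3, 0, 0, 0, 2, 0], [3, 0, 3, 0, 0, 0, 2, 0]), ([0, 3, 0, 3, 0, 3, 1, 3, 0, 2], [0, 3, 0, 3, 0, 3, 1, 3, 0, 2]), ([1, 3, 1, 1, 1, 2, 1, 2], [1, 3, 1, 1, 1, 2, 1, 2]), ([1, 3, 1, 1, 1, 2, 1, 2], [1, 3, 1, 1, 1, 2, 1, 2]), ([1, 3, 1, 1, 1, 2, 1, 2], [1, 3, 1, 1, 1, 2, 1, 2]), ([1, 3, 1, 1, 1, 2, 1, 2], [1, 3, 1, 1, 1, 2, 1, 2]), ([3, 1, 2, 0, 2, 1, 2, 1, 2, 1], [3, 1, 2, 0, 2, 1, 2, 1, 2, 1]), ([1, 3, 1, 1, 1, 2, 1, 2], [1, 3, 1, 1, 1, 2, 1, 2])]⟩,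
  ⟨[11, 8, 11, 8, 8, 10, 9, 10], [3, 0, 3, 0, 0, 2, 1, 2], [([3, 0, 3, 0, 0, 0, 2, 0], [3, 0, 3, 0, 0, 0, 2, 0]), ([0, 3, 0, 3, 0, 3, 1, 3, 0, 2], [0, 3, 0, 3, 0, 3, 1, 3, 0, 2]), ([3, 0, 3, 0, 0, 0, 2, 0], [3, 0, 3, 0, 0, 0, 2, 0]), ([0, 3, 0, 3, 0, 3, 1, 3, 0, 2], [0, 3, 0, 3, 0, 3, 1, 3, 0, 2]), ([0, 3, 0, 3, 0, 3, 1, 3, 0, 2], [0, 3, 0, 3, 0, 3, 1, 3, 0, 2]), ([1, 3, 1, 1, 1, 2, 1, 2], [1, 3, 1, 1, 1, 2, 1, 2]), ([3, 1, 2, 0, 2, 1, 2, 1, 2, 1], [3, 1, 2, 0, 2, 1, 2, 1, 2, 1]), ([1, 3, 1, 1, 1, 2, 1, 2], [1, 3, 1, 1, 1, 2, 1, 2])]⟩,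
  ⟨[10, 8, 10, 10, 8, 10, 9, 11, 11, 9], [2, 0, 2, 2, 0, 2, 1, 3, 3, 1], [([1, 3, 1, 1, 1, 2, 1, 2], [1, 3, 1, 1, 1, 2, 1, 2]), ([0, 3, 0, 3, 0, 3, 1, 3, 0, 2], [0, 3, 0, 3, 0, 3, 1, 3, 0, 2]), ([1, 3, 1, 1, 1, 2, 1, 2], [1, 3, 1, 1, 1, 2, 1, 2]), ([1, 3, 1, 1, 1, 2, 1, 2], [1, 3, 1, 1, 1, 2, 1, 2]), ([0, 3, 0, 3, 0, 3, 1, 3, 0, 2], [0, 3, 0, 3, 0, 3, 1, 3, 0, 2]), ([1, 3, 1, 1, 1, 2, 1, 2], [1, 3, 1, 1, 1, 2, 1, 2]), ([3, 1, 2, 0, 2, 1, 2, 1, 2, 1], [3, 1, 2, 0, 2, 1, 2, 1, 2, 1]), ([3, 0, 3, 0, 0, 0, 2, 0], [3, 0, 3, 0, 0, 0, 2, 0]), ([3, 0, 3, 0, 0, 0, 2, 0], [3, 0, 3, 0, 0, 0, 2, 0]), ([3, 1, 2, 0, 2, 1, 2, 1, 2, 1], [3, 1, 2, 0, 2, 1, 2, 1, 2, 1])]⟩,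
  ⟨[10, 10, 8, 10, 8, 11, 11, 9, 10, 9], [2, 2, 0, 2, 0, 3, 3, 1, 2, 1], [([1, 3, 1, 1, 1, 2, 1, 2], [1, 3, 1, 1, 1, 2, 1, 2]), ([1, 3, 1, 1, 1, 2, 1, 2], [1, 3, 1, 1, 1, 2, 1, 2]), ([0, 3, 0, 3, 0, 3, 1, 3, 0, 2], [0, 3, 0, 3, 0, 3, 1, 3, 0, 2]), ([1, 3, 1, 1, 1, 2, 1, 2], [1, 3, 1, 1, 1, 2, 1, 2]), ([0, 3, 0, 3, 0, 3, 1, 3, 0, 2], [0, 3, 0, 3, 0, 3, 1, 3, 0, 2]), ([3, 0, 3, 0, 0, 0, 2, 0], [3, 0, 3, 0, 0, 0, 2, 0]), ([3, 0, 3, 0, 0, 0, 2, 0], [3, 0, 3, 0, 0, 0, 2, 0]), ([3, 1, 2, 0, 2, 1, 2, 1, 2, 1], [3, 1, 2, 0, 2, 1, 2, 1, 2, 1]), ([1, 3, 1, 1, 1, 2, 1, 2], [1, 3, 1, 1, 1, 2, 1, 2]), ([3, 1, 2, 0, 2, 1, 2, 1, 2, 1], [3, 1, 2, 0, 2, 1, 2, 1, 2, 1])]⟩,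
  ⟨[10, 10, 8, 11, 8, 11, 11, 9, 11, 9], [2, 2, 0, 3, 0, 3, 3, 1, 3, 1], [([1, 3, 1, 1, 1, 2, 1, 2], [1, 3, 1, 1, 1, 2, 1, 2]), ([1, 3, 1, 1, 1, 2, 1, 2], [1, 3, 1, 1, 1, 2, 1, 2]), ([0, 3, 0, 3, 0, 3, 1, 3, 0, 2], [0, 3, 0, 3, 0, 3, 1, 3, 0, 2]), ([3, 0, 3, 0, 0, 0, 2, 0], [3, 0, 3, 0, 0, 0, 2, 0]), ([0, 3, 0, 3, 0, 3, 1, 3, 0, 2], [0, 3, 0, 3, 0, 3, 1, 3, 0, 2]), ([3, 0, 3, 0, 0, 0, 2, 0], [3, 0, 3, 0, 0, 0, 2, 0]), ([3, 0, 3, 0, 0, 0, 2, 0], [3, 0, 3, 0, 0, 0, 2, 0]), ([3, 1, 2, 0, 2, 1, 2, 1, 2, 1], [3, 1, 2, 0, 2, 1, 2, 1, 2, 1]), ([3, 0, 3, 0, 0, 0, 2, 0], [3, 0, 3, 0, 0, 0, 2, 0]), ([3, 1, 2, 0, 2, 1, 2, 1, 2, 1], [3, 1, 2, 0, 2, 1, 2, 1, 2, 1])]⟩,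
  ⟨[11, 8, 10, 8, 10, 10, 9, 10, 9, 11], [3, 0, 2, 0, 2, 2, 1, 2, 1, 3], [([3, 0, 3, 0, 0, 0, 2, 0], [3, 0, 3, 0, 0, 0, 2, 0]), ([0, 3, 0, 3, 0, 3, 1, 3, 0, 2], [0, 3, 0, 3, 0, 3, 1, 3, 0, 2]), ([1, 3, 1, 1, 1, 2, 1, 2], [1, 3, 1, 1, 1, 2, 1, 2]), ([0, 3, 0, 3, 0, 3, 1, 3, 0, 2], [0, 3, 0, 3, 0, 3, 1, 3, 0, 2]), ([1, 3, 1, 1, 1, 2, 1, 2], [1, 3, 1, 1, 1, 2, 1, 2]), ([1, 3, 1, 1, 1, 2, 1, 2], [1, 3, 1, 1, 1, 2, 1, 2]), ([3, 1, 2, 0, 2, 1, 2, 1, 2, 1], [3, 1, 2, 0, 2, 1, 2, 1, 2, 1]), ([1, 3, 1, 1, 1, 2, 1, 2], [1, 3, 1, 1, 1, 2, 1, 2]), ([3, 1, 2, 0, 2, 1, 2, 1, 2, 1], [3, 1, 2, 0, 2, 1, 2, 1, 2, 1]), ([3, 0, 3, 0, 0, 0, 2, 0], [3, 0, 3, 0, 0, 0, 2, 0])]⟩,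
  ⟨[11, 8, 10, 10, 8, 11, 9, 11, 11, 9], [3, 0, 2, 2, 0, 3, 1, 3, 3, 1], [([3, 0, 3, 0, 0, 0, 2, 0], [3, 0, 3, 0, 0, 0, 2, 0]), ([0, 3, 0, 3, 0, 3, 1, 3, 0, 2], [0, 3, 0, 3, 0, 3, 1, 3, 0, 2]), ([1, 3, 1, 1, 1, 2, 1, 2], [1, 3, 1, 1, 1, 2, 1, 2]), ([1, 3, 1, 1, 1, 2, 1, 2], [1, 3, 1, 1, 1, 2, 1, 2]), ([0, 3, 0, 3, 0, 3, 1, 3, 0, 2], [0, 3, 0, 3, 0, 3, 1, 3, 0, 2]), ([3, 0, 3, 0, 0, 0, 2, 0], [3, 0, 3, 0, 0, 0, 2, 0]), ([3, 1, 2, 0, 2, 1, 2, 1, 2, 1], [3, 1, 2, 0, 2, 1, 2, 1, 2, 1]), ([3, 0, 3, 0, 0, 0, 2, 0], [3, 0, 3, 0, 0, 0, 2, 0]), ([3, 0, 3, 0, 0, 0, 2, 0], [3, 0, 3, 0, 0, 0, 2, 0]), ([3, 1, 2, 0, 2, 1, 2, 1, 2, 1], [3, 1, 2, 0, 2, 1, 2, 1, 2, 1])]⟩,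
  ⟨[11, 8, 11, 8, 10, 10, 9, 11, 9, 11], [3, 0, 3, 0, 2, 2, 1, 3, 1, 3], [([3, 0, 3, 0, 0, 0, 2, 0], [3, 0, 3, 0, 0, 0, 2, 0]), ([0, 3, 0, 3, 0, 3, 1, 3, 0, 2], [0, 3, 0, 3, 0, 3, 1, 3, 0, 2]), ([3, 0, 3, 0, 0, 0, 2, 0], [3, 0, 3, 0, 0, 0, 2, 0]), ([0, 3, 0, 3, 0, 3, 1, 3, 0, 2], [0, 3, 0, 3, 0, 3, 1, 3, 0, 2]), ([1, 3, 1, 1, 1, 2, 1, 2], [1, 3, 1, 1, 1, 2, 1, 2]), ([1, 3, 1, 1, 1, 2, 1, 2], [1, 3, 1, 1, 1, 2, 1, 2]), ([3, 1, 2, 0, 2, 1, 2, 1, 2, 1], [3, 1, 2, 0, 2, 1, 2, 1, 2, 1]), ([3, 0, 3, 0, 0, 0, 2, 0], [3, 0, 3, 0, 0, 0, 2, 0]), ([3, 1, 2, 0, 2, 1, 2, 1, 2, 1], [3, 1, 2, 0, 2, 1, 2, 1, 2, 1]), ([3, 0, 3, 0, 0, 0, 2, 0], [3, 0, 3, 0, 0, 0, 2, 0])]⟩,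
  ⟨[8, 10, 8, 10, 8, 8, 11, 9, 11, 9], [0, 2, 0, 2, 0, 0, 3, 1, 3, 1], [([0, 3, 0, 3, 0, 3, 1, 3, 0, 2], [0, 3, 0, 3, 0, 3, 1, 3, 0, 2]), ([1, 3, 1, 1, 1, 2, 1, 2], [1, 3, 1, 1, 1, 2, 1, 2]), ([0, 3, 0, 3, 0, 3, 1, 3, 0, 2], [0, 3, 0, 3, 0, 3, 1, 3, 0, 2]), ([1, 3, 1, 1, 1, 2, 1, 2], [1, 3, 1, 1, 1, 2, 1, 2]), ([0, 3, 0, 3, 0, 3, 1, 3, 0, 2], [0, 3, 0, 3, 0, 3, 1, 3, 0, 2]), ([0, 3, 0, 3, 0, 3, 1, 3, 0, 2], [0, 3, 0, 3, 0, 3, 1, 3, 0, 2]), ([3, 0, 3, 0, 0, 0, 2, 0], [3, 0, 3, 0, 0, 0, 2, 0]), ([3, 1, 2, 0, 2, 1, 2, 1, 2, 1], [3, 1, 2, 0, 2, 1, 2, 1, 2, 1]), ([3, 0, 3, 0, 0, 0, 2, 0], [3, 0, 3, 0, 0, 0, 2, 0]), ([3, 1, 2, 0, 2, 1, 2, 1, 2, 1], [3, 1, 2,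 0, 2, 1, 2, 1, 2, 1])]⟩,
  ⟨[8, 10, 8, 10, 10, 8, 10, 9, 11, 11], [0, 2, 0, 2, 2, 0, 2, 1, 3, 3], [([0, 3, 0, 3, 0, 3, 1, 3, 0, 2], [0, 3, 0, 3, 0, 3, 1, 3, 0, 2]), ([1, 3, 1, 1, 1, 2, 1, 2], [1, 3, 1, 1, 1, 2, 1, 2]), ([0, 3, 0, 3, 0, 3, 1, 3, 0, 2], [0, 3, 0, 3, 0, 3, 1, 3, 0, 2]), ([1, 3, 1, 1, 1, 2, 1, 2], [1, 3, 1, 1, 1, 2, 1, 2]), ([1, 3, 1, 1, 1, 2, 1, 2], [1, 3, 1, 1, 1, 2, 1, 2]), ([0, 3, 0, 3, 0, 3, 1, 3, 0, 2], [0, 3, 0, 3, 0, 3, 1, 3, 0, 2]), ([1, 3, 1, 1, 1, 2, 1, 2], [1, 3, 1, 1, 1, 2, 1, 2]), ([3, 1, 2, 0, 2, 1, 2, 1, 2, 1], [3, 1, 2, 0, 2, 1, 2, 1, 2, 1]), ([3, 0, 3, 0, 0, 0, 2, 0], [3, 0, 3, 0, 0, 0, 2, 0]), ([3, 0, 3, 0, 0, 0, 2, 0],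 [3, 0, 3, 0, 0, 0, 2, 0])]⟩,
  ⟨[8, 10, 8, 10, 10, 10, 10, 9, 11, 9], [0, 2, 0, 2, 2, 2, 2, 1, 3, 1], [([0, 3, 0, 3, 0, 3, 1, 3, 0, 2], [0, 3, 0, 3, 0, 3, 1, 3, 0, 2]), ([1, 3, 1, 1, 1, 2, 1, 2], [1, 3, 1, 1, 1, 2, 1, 2]), ([0, 3, 0, 3, 0, 3, 1, 3, 0, 2], [0, 3, 0, 3, 0, 3, 1, 3, 0, 2]), ([1, 3, 1, 1, 1, 2, 1, 2], [1, 3, 1, 1, 1, 2, 1, 2]), ([1, 3, 1, 1, 1, 2, 1, 2], [1, 3, 1, 1, 1, 2, 1, 2]), ([1, 3, 1, 1, 1, 2, 1, 2], [1, 3, 1, 1, 1, 2, 1, 2]), ([1, 3, 1, 1, 1, 2, 1, 2], [1, 3, 1, 1, 1, 2, 1, 2]), ([3, 1, 2, 0, 2, 1, 2, 1, 2, 1], [3, 1, 2, 0, 2, 1, 2, 1, 2, 1]), ([3, 0, 3, 0, 0, 0, 2, 0], [3, 0, 3, 0, 0, 0, 2, 0]), ([3, 1, 2, 0, 2, 1, 2, 1, 2, 1], [3,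 1, 2, 0, 2, 1, 2, 1, 2, 1])]⟩,
  ⟨[8, 10, 8, 11, 8, 8, 10, 9, 11, 9], [0, 2, 0, 3, 0, 0, 2, 1, 3, 1], [([0, 3, 0, 3, 0, 3, 1, 3, 0, 2], [0, 3, 0, 3, 0, 3, 1, 3, 0, 2]), ([1, 3, 1, 1, 1, 2, 1, 2], [1, 3, 1, 1, 1, 2, 1, 2]), ([0, 3, 0, 3, 0, 3, 1, 3, 0, 2], [0, 3, 0, 3, 0, 3, 1, 3, 0, 2]), ([3, 0, 3, 0, 0, 0, 2, 0], [3, 0, 3, 0, 0, 0, 2, 0]), ([0, 3, 0, 3, 0, 3, 1, 3, 0, 2], [0, 3, 0, 3, 0, 3, 1, 3, 0, 2]), ([0, 3, 0, 3, 0, 3, 1, 3, 0, 2], [0, 3, 0, 3, 0, 3, 1, 3, 0, 2]), ([1, 3, 1, 1, 1, 2, 1, 2], [1, 3, 1, 1, 1, 2, 1, 2]), ([3, 1, 2, 0, 2, 1, 2, 1, 2, 1], [3, 1, 2, 0, 2, 1, 2, 1, 2, 1]), ([3, 0, 3, 0, 0, 0, 2, 0], [3, 0, 3, 0, 0, 0, 2, 0]), ([3, 1, 2,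 0, 2, 1, 2, 1, 2, 1], [3, 1, 2, 0, 2, 1, 2, 1, 2, 1])]⟩,
  ⟨[8, 10, 10, 8, 10, 8, 11, 11, 9, 10], [0, 2, 2, 0, 2, 0, 3, 3, 1, 2], [([0, 3, 0, 3, 0, 3, 1, 3, 0, 2], [0, 3, 0, 3, 0, 3, 1, 3, 0, 2]), ([1, 3, 1, 1, 1, 2, 1, 2], [1, 3, 1, 1, 1, 2, 1, 2]), ([1, 3, 1, 1, 1, 2, 1, 2], [1, 3, 1, 1, 1, 2, 1, 2]), ([0, 3, 0, 3, 0, 3, 1, 3, 0, 2], [0, 3, 0, 3, 0, 3, 1, 3, 0, 2]), ([1, 3, 1, 1, 1, 2, 1, 2], [1, 3, 1, 1, 1, 2, 1, 2]), ([0, 3, 0, 3, 0, 3, 1, 3, 0, 2], [0, 3, 0, 3, 0, 3, 1, 3, 0, 2]), ([3, 0, 3, 0, 0, 0, 2, 0], [3, 0, 3, 0, 0, 0, 2, 0]), ([3, 0, 3, 0, 0, 0, 2, 0], [3, 0, 3, 0, 0, 0, 2, 0]), ([3, 1, 2, 0, 2, 1, 2, 1, 2, 1], [3, 1, 2, 0, 2, 1, 2, 1, 2,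 1]), ([1, 3, 1, 1, 1, 2, 1, 2], [1, 3, 1, 1, 1, 2, 1, 2])]⟩,
  ⟨[8, 10, 10, 8, 11, 8, 11, 11, 9, 11], [0, 2, 2, 0, 3, 0, 3, 3, 1, 3], [([0, 3, 0, 3, 0, 3, 1, 3, 0, 2], [0, 3, 0, 3, 0, 3, 1, 3, 0, 2]), ([1, 3, 1, 1, 1, 2, 1, 2], [1, 3, 1, 1, 1, 2, 1, 2]), ([1, 3, 1, 1, 1, 2, 1, 2], [1, 3, 1, 1, 1, 2, 1, 2]), ([0, 3, 0, 3, 0, 3, 1, 3, 0, 2], [0, 3, 0, 3, 0, 3, 1, 3, 0, 2]), ([3, 0, 3, 0, 0, 0, 2, 0], [3, 0, 3, 0, 0, 0, 2, 0]), ([0, 3, 0, 3, 0, 3, 1, 3, 0, 2], [0, 3, 0, 3, 0, 3, 1, 3, 0, 2]), ([3, 0, 3, 0, 0, 0, 2, 0], [3, 0, 3, 0, 0, 0, 2, 0]), ([3, 0, 3, 0, 0, 0, 2, 0], [3, 0, 3, 0, 0, 0, 2, 0]), ([3, 1, 2, 0, 2, 1, 2, 1, 2, 1], [3, 1, 2, 0, 2, 1, 2, 1,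 2, 1]), ([3, 0, 3, 0, 0, 0, 2, 0], [3, 0, 3, 0, 0, 0, 2, 0])]⟩,
  ⟨[8, 11, 8, 10, 8, 8, 11, 9, 10, 9], [0, 3, 0, 2, 0, 0, 3, 1, 2, 1], [([0, 3, 0, 3, 0, 3, 1, 3, 0, 2], [0, 3, 0, 3, 0, 3, 1, 3, 0, 2]), ([3, 0, 3, 0, 0, 0, 2, 0], [3, 0, 3, 0, 0, 0, 2, 0]), ([0, 3, 0, 3, 0, 3, 1, 3, 0, 2], [0, 3, 0, 3, 0, 3, 1, 3, 0, 2]), ([1, 3, 1, 1, 1, 2, 1, 2], [1, 3, 1, 1, 1, 2, 1, 2]), ([0, 3, 0, 3, 0, 3, 1, 3, 0, 2], [0, 3, 0, 3, 0, 3, 1, 3, 0, 2]), ([0, 3, 0, 3, 0, 3, 1, 3, 0, 2], [0, 3, 0, 3, 0, 3, 1, 3, 0, 2]), ([3, 0, 3, 0, 0, 0, 2, 0], [3, 0, 3, 0, 0, 0, 2, 0]), ([3, 1, 2, 0, 2, 1, 2, 1, 2, 1], [3, 1, 2, 0, 2, 1, 2, 1, 2, 1]), ([1, 3, 1, 1, 1, 2, 1, 2], [1,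 3, 1, 1, 1, 2, 1, 2]), ([3, 1, 2, 0, 2, 1, 2, 1, 2, 1], [3, 1, 2, 0, 2, 1, 2, 1, 2, 1])]⟩,
  ⟨[8, 11, 8, 10, 10, 8, 11, 9, 11, 11], [0, 3, 0, 2, 2, 0, 3, 1, 3, 3], [([0, 3, 0, 3, 0, 3, 1, 3, 0, 2], [0, 3, 0, 3, 0, 3, 1, 3, 0, 2]), ([3, 0, 3, 0, 0, 0, 2, 0], [3, 0, 3, 0, 0, 0, 2, 0]), ([0, 3, 0, 3, 0, 3, 1, 3, 0, 2], [0, 3, 0, 3, 0, 3, 1, 3, 0, 2]), ([1, 3, 1, 1, 1, 2, 1, 2], [1, 3, 1, 1, 1, 2, 1, 2]), ([1, 3, 1, 1, 1, 2, 1, 2], [1, 3, 1, 1, 1, 2, 1, 2]), ([0, 3, 0, 3, 0, 3, 1, 3, 0, 2], [0, 3, 0, 3, 0, 3, 1, 3, 0, 2]), ([3, 0, 3, 0, 0, 0, 2, 0], [3, 0, 3, 0, 0, 0, 2, 0]), ([3, 1, 2, 0, 2, 1, 2, 1, 2, 1], [3, 1, 2, 0, 2, 1, 2, 1, 2, 1]), ([3, 0, 3, 0,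 0, 0, 2, 0], [3, 0, 3, 0, 0, 0, 2, 0]), ([3, 0, 3, 0, 0, 0, 2, 0], [3, 0, 3, 0, 0, 0, 2, 0])]⟩,
  ⟨[8, 11, 8, 10, 10, 10, 10, 9, 10, 9], [0, 3, 0, 2, 2, 2, 2, 1, 2, 1], [([0, 3, 0, 3, 0, 3, 1, 3, 0, 2], [0, 3, 0, 3, 0, 3, 1, 3, 0, 2]), ([3, 0, 3, 0, 0, 0, 2, 0], [3, 0, 3, 0, 0, 0, 2, 0]), ([0, 3, 0, 3, 0, 3, 1, 3, 0, 2], [0, 3, 0, 3, 0, 3, 1, 3, 0, 2]), ([1, 3, 1, 1, 1, 2, 1, 2], [1, 3, 1, 1, 1, 2, 1, 2]), ([1, 3, 1, 1, 1, 2, 1, 2], [1, 3, 1, 1, 1, 2, 1, 2]), ([1, 3, 1, 1, 1, 2, 1, 2], [1, 3, 1, 1, 1, 2, 1, 2]), ([1, 3, 1, 1, 1, 2, 1, 2], [1, 3, 1, 1, 1, 2, 1, 2]), ([3, 1, 2, 0, 2, 1, 2, 1, 2, 1], [3, 1, 2, 0, 2, 1, 2, 1, 2, 1]), ([1, 3, 1, 1, 1, 2, 1,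 2], [1, 3, 1, 1, 1, 2, 1, 2]), ([3, 1, 2, 0, 2, 1, 2, 1, 2, 1], [3, 1, 2, 0, 2, 1, 2, 1, 2, 1])]⟩,
  ⟨[8, 11, 8, 11, 8, 8, 10, 9, 10, 9], [0, 3, 0, 3, 0, 0, 2, 1, 2, 1], [([0, 3, 0, 3, 0, 3, 1, 3, 0, 2], [0, 3, 0, 3, 0, 3, 1, 3, 0, 2]), ([3, 0, 3, 0, 0, 0, 2, 0], [3, 0, 3, 0, 0, 0, 2, 0]), ([0, 3, 0, 3, 0, 3, 1, 3, 0, 2], [0, 3, 0, 3, 0, 3, 1, 3, 0, 2]), ([3, 0, 3, 0, 0, 0, 2, 0], [3, 0, 3, 0, 0, 0, 2, 0]), ([0, 3, 0, 3, 0, 3, 1, 3, 0, 2], [0, 3, 0, 3, 0, 3, 1, 3, 0, 2]), ([0, 3, 0, 3, 0, 3, 1, 3, 0, 2], [0, 3, 0, 3, 0, 3, 1, 3, 0, 2]), ([1, 3, 1, 1, 1, 2, 1, 2], [1, 3, 1, 1, 1, 2, 1, 2]), ([3, 1, 2, 0, 2, 1, 2, 1, 2, 1], [3, 1, 2, 0, 2, 1, 2, 1, 2, 1]),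 ([1, 3, 1, 1, 1, 2, 1, 2], [1, 3, 1, 1, 1, 2, 1, 2]), ([3, 1, 2, 0, 2, 1, 2, 1, 2, 1], [3, 1, 2, 0, 2, 1, 2, 1, 2, 1])]⟩,
  ⟨[10, 8, 10, 8, 10, 10, 9, 10, 9, 10], [2, 0, 2, 0, 2, 2, 1, 2, 1, 2], [([1, 3, 1, 1, 1, 2, 1, 2], [1, 3, 1, 1, 1, 2, 1, 2]), ([0, 3, 0, 3, 0, 3, 1, 3, 0, 2], [0, 3, 0, 3, 0, 3, 1, 3, 0, 2]), ([1, 3, 1, 1, 1, 2, 1, 2], [1, 3, 1, 1, 1, 2, 1, 2]), ([0, 3, 0, 3, 0, 3, 1, 3, 0, 2], [0, 3, 0, 3, 0, 3, 1, 3, 0, 2]), ([1, 3, 1, 1, 1, 2, 1, 2], [1, 3, 1, 1, 1, 2, 1, 2]), ([1, 3, 1, 1, 1, 2, 1, 2], [1, 3, 1, 1, 1, 2, 1, 2]), ([3, 1, 2, 0, 2, 1, 2, 1, 2, 1], [3, 1, 2, 0, 2, 1, 2, 1, 2, 1]), ([1, 3, 1, 1, 1, 2, 1, 2], [1, 3, 1, 1, 1, 2, 1,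 2]), ([3, 1, 2, 0, 2, 1, 2, 1, 2, 1], [3, 1, 2, 0, 2, 1, 2, 1, 2, 1]), ([1, 3, 1, 1, 1, 2, 1, 2], [1, 3, 1, 1, 1, 2, 1, 2])]⟩,
  ⟨[10, 8, 11, 8, 10, 10, 9, 11, 9, 10], [2, 0, 3, 0, 2, 2, 1, 3, 1, 2], [([1, 3, 1, 1, 1, 2, 1, 2], [1, 3, 1, 1, 1, 2, 1, 2]), ([0, 3, 0, 3, 0, 3, 1, 3, 0, 2], [0, 3, 0, 3, 0, 3, 1, 3, 0, 2]), ([3, 0, 3, 0, 0, 0, 2, 0], [3, 0, 3, 0, 0, 0, 2, 0]), ([0, 3, 0, 3, 0, 3, 1, 3, 0, 2], [0, 3, 0, 3, 0, 3, 1, 3, 0, 2]), ([1, 3, 1, 1, 1, 2, 1, 2], [1, 3, 1, 1, 1, 2, 1, 2]), ([1, 3, 1, 1, 1, 2, 1, 2], [1, 3, 1, 1, 1, 2, 1, 2]), ([3, 1, 2, 0, 2, 1, 2, 1, 2, 1], [3, 1, 2, 0, 2, 1, 2, 1, 2, 1]), ([3, 0, 3, 0, 0, 0, 2, 0], [3, 0, 3, 0, 0, 0,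 2, 0]), ([3, 1, 2, 0, 2, 1, 2, 1, 2, 1], [3, 1, 2, 0, 2, 1, 2, 1, 2, 1]), ([1, 3, 1, 1, 1, 2, 1, 2], [1, 3, 1, 1, 1, 2, 1, 2])]⟩,
  ⟨[10, 10, 8, 10, 10, 10, 10, 9, 11, 11], [2, 2, 0, 2, 2, 2, 2, 1, 3, 3], [([1, 3, 1, 1, 1, 2, 1, 2], [1, 3, 1, 1, 1, 2, 1, 2]), ([1, 3, 1, 1, 1, 2, 1, 2], [1, 3, 1, 1, 1, 2, 1, 2]), ([0, 3, 0, 3, 0, 3, 1, 3, 0, 2], [0, 3, 0, 3, 0, 3, 1, 3, 0, 2]), ([1, 3, 1, 1, 1, 2, 1, 2], [1, 3, 1, 1, 1, 2, 1, 2]), ([1, 3, 1, 1, 1, 2, 1, 2], [1, 3, 1, 1, 1, 2, 1, 2]), ([1, 3, 1, 1, 1, 2, 1, 2], [1, 3, 1, 1, 1, 2, 1, 2]), ([1, 3, 1, 1, 1, 2, 1, 2], [1, 3, 1, 1, 1, 2, 1, 2]), ([3, 1, 2, 0, 2, 1, 2, 1, 2, 1], [3, 1, 2, 0, 2, 1, 2, 1, 2, 1]),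 ([3, 0, 3, 0, 0, 0, 2, 0], [3, 0, 3, 0, 0, 0, 2, 0]), ([3, 0, 3, 0, 0, 0, 2, 0], [3, 0, 3, 0, 0, 0, 2, 0])]⟩,
  ⟨[8, 11, 8, 10, 8, 10, 10, 9, 10, 9, 11, 9], [0, 3, 0, 2, 0, 2, 2, 1, 2, 1, 3, 1], [([0, 3, 0, 3, 0, 3, 1, 3, 0, 2], [0, 3, 0, 3, 0, 3, 1, 3, 0, 2]), ([3, 0, 3, 0, 0, 0, 2, 0], [3, 0, 3, 0, 0, 0, 2, 0]), ([0, 3, 0, 3, 0, 3, 1, 3, 0, 2], [0, 3, 0, 3, 0, 3, 1, 3, 0, 2]), ([1, 3, 1, 1, 1, 2, 1, 2], [1, 3, 1, 1, 1, 2, 1, 2]), ([0, 3, 0, 3, 0, 3, 1, 3, 0, 2], [0, 3, 0, 3, 0, 3, 1, 3, 0, 2]), ([1, 3, 1, 1, 1, 2, 1, 2], [1, 3, 1, 1, 1, 2, 1, 2]), ([1, 3, 1, 1, 1, 2, 1, 2], [1, 3, 1, 1, 1, 2, 1, 2]), ([3, 1, 2, 0, 2, 1, 2, 1, 2, 1], [3, 1, 2, 0, 2,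 1, 2, 1, 2, 1]), ([1, 3, 1, 1, 1, 2, 1, 2], [1, 3, 1, 1, 1, 2, 1, 2]), ([3, 1, 2, 0, 2, 1, 2, 1, 2, 1], [3, 1, 2, 0, 2, 1, 2, 1, 2, 1]), ([3, 0, 3, 0, 0, 0, 2, 0], [3, 0, 3, 0, 0, 0, 2, 0]), ([3, 1, 2, 0, 2, 1, 2, 1, 2, 1], [3, 1, 2, 0, 2, 1, 2, 1, 2, 1])]⟩,
  ⟨[8, 11, 8, 11, 8, 10, 10, 9, 11, 9, 11, 9], [0, 3, 0, 3, 0, 2, 2, 1, 3, 1, 3, 1], [([0, 3, 0, 3, 0, 3, 1, 3, 0, 2], [0, 3, 0, 3, 0, 3, 1, 3, 0, 2]), ([3, 0, 3, 0, 0, 0, 2, 0], [3, 0, 3, 0, 0, 0, 2, 0]), ([0, 3, 0, 3, 0, 3, 1, 3, 0, 2], [0, 3, 0, 3, 0, 3, 1, 3, 0, 2]), ([3, 0, 3, 0, 0, 0, 2, 0], [3, 0, 3, 0, 0, 0, 2, 0]), ([0, 3, 0, 3, 0, 3, 1, 3, 0, 2], [0, 3, 0, 3, 0, 3, 1, 3, 0, 2]), ([1, 3,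 1, 1, 1, 2, 1, 2], [1, 3, 1, 1, 1, 2, 1, 2]), ([1, 3, 1, 1, 1, 2, 1, 2], [1, 3, 1, 1, 1, 2, 1, 2]), ([3, 1, 2, 0, 2, 1, 2, 1, 2, 1], [3, 1, 2, 0, 2, 1, 2, 1, 2, 1]), ([3, 0, 3, 0, 0, 0, 2, 0], [3, 0, 3, 0, 0, 0, 2, 0]), ([3, 1, 2, 0, 2, 1, 2, 1, 2, 1], [3, 1, 2, 0, 2, 1, 2, 1, 2, 1]), ([3, 0, 3, 0, 0, 0, 2, 0], [3, 0, 3, 0, 0, 0, 2, 0]), ([3, 1, 2, 0, 2, 1, 2, 1, 2, 1], [3, 1, 2, 0, 2, 1, 2, 1, 2, 1])]⟩,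
  ⟨[10, 8, 10, 8, 10, 8, 11, 9, 11, 9, 11, 9], [2, 0, 2, 0, 2, 0, 3, 1, 3, 1, 3, 1], [([1, 3, 1, 1, 1, 2, 1, 2], [1, 3, 1, 1, 1, 2, 1, 2]), ([0, 3, 0, 3, 0, 3, 1, 3, 0, 2], [0, 3, 0, 3, 0, 3, 1, 3, 0, 2]), ([1, 3, 1, 1, 1, 2, 1, 2], [1, 3, 1, 1, 1, 2, 1, 2]), ([0, 3, 0, 3, 0, 3, 1, 3, 0, 2], [0, 3, 0, 3, 0, 3, 1, 3, 0, 2]), ([1, 3, 1, 1, 1, 2, 1, 2], [1, 3, 1, 1, 1, 2, 1, 2]), ([0, 3, 0, 3, 0, 3, 1, 3, 0, 2], [0, 3, 0, 3, 0, 3, 1, 3, 0, 2]), ([3, 0, 3, 0, 0, 0, 2, 0], [3, 0, 3, 0, 0, 0, 2, 0]), ([3, 1, 2, 0, 2, 1, 2, 1, 2, 1], [3, 1, 2, 0, 2, 1, 2, 1, 2, 1]), ([3, 0, 3, 0, 0, 0, 2, 0], [3, 0, 3, 0, 0, 0, 2, 0]), ([3, 1, 2, 0, 2, 1, 2, 1, 2, 1], [3, 1,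 2, 0, 2, 1, 2, 1, 2, 1]), ([3, 0, 3, 0, 0, 0, 2, 0], [3, 0, 3, 0, 0, 0, 2, 0]), ([3, 1, 2, 0, 2, 1, 2, 1, 2, 1], [3, 1, 2, 0, 2, 1, 2, 1, 2, 1])]⟩,
  ⟨[4, 12, 5, 17], [4, 6, 5, 10], [([4], [4]), ([0, 0, 2, 0, 3, 0, 2, 0, 0, 2, 0, 3, 0, 2], [0, 0, 2, 0, 3, 0, 2, 0, 0, 2, 0, 3, 0, 2]), ([5], [5]), ([1, 2, 1, 1, 2, 0, 0, 3, 0, 2], [3, 1, 2, 1, 1, 3, 0, 0, 3, 0])]⟩,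
  ⟨[4, 14, 5, 21], [4, 8, 5, 14], [([4], [4]), ([1, 1, 2, 1, 1, 3, 1, 2, 1, 1, 3, 0], [1, 1, 2, 1, 1, 3, 1, 2, 1, 1, 3, 0]), ([5], [5]), ([1, 1, 1, 2, 0, 3, 0, 2, 1, 2, 0, 2], [3, 1, 3, 0, 3, 1, 2, 1, 3, 0, 0, 0])]⟩,
  ⟨[4, 26, 5, 41], [4, 8, 10, 12, 5, 2, 8, 10, 3], [([4], [4]), ([1, 1, 2, 1, 1, 3, 1, 2, 1, 1, 3, 0, 1, 2, 1, 1, 2, 0, 0, 3, 0, 2, 0, 2, 1, 2, 0, 3, 0, 2, 1, 3, 0, 3], [2, 0, 0, 0, 3, 1, 2, 0, 2, 1, 1, 2]), ([5], [5]), ([1, 3, 1, 1, 1, 2, 1, 2, 1, 1, 2, 1, 1, 3, 1, 2, 1, 1, 3, 0, 1, 2, 1, 1, 2, 0, 0, 3, 0, 2, 3, 0, 3, 0, 0, 0, 2, 0], [3, 0, 0, 0, 3, 0, 2, 0, 0, 0, 3])]⟩,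
  ⟨[4, 12, 4, 4, 17], [4, 6, 4, 4, 10], [([4], [4]), ([0, 0, 2, 0, 3, 0, 2, 0, 0, 2, 0, 3, 0, 2], [0, 0, 2, 0, 3, 0, 2, 0, 0, 2, 0, 3, 0, 2]), ([4], [4]), ([4], [4]), ([1, 2, 1, 1, 2, 0, 0, 3, 0, 2], [3, 1, 2, 1, 1, 3, 0, 0, 3, 0])]⟩,
  ⟨[4, 14, 4, 4, 21], [4, 8, 4, 4, 14], [([4], [4]), ([1, 1, 2, 1, 1, 3, 1, 2, 1, 1, 3, 0], [1, 1, 2, 1, 1, 3, 1, 2, 1, 1, 3, 0]), ([4], [4]), ([4], [4]), ([1, 1, 1, 2, 0, 3, 0, 2, 1, 2, 0, 2], [3, 1, 3, 0, 3, 1, 2, 1, 3, 0, 0, 0])]⟩,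
  ⟨[22, 14, 4, 51, 5], [16, 8, 4, 0, 6, 12, 16, 0, 5], [([0, 2, 0, 2, 1, 2, 1, 3, 1, 1, 3], [0, 2, 0, 2, 1, 2, 1, 3, 1, 1, 3]), ([1, 1, 2, 1, 1, 3, 1, 2, 1, 1, 3, 0], [1, 1, 2, 1, 1, 3, 1, 2, 1, 1, 3, 0]), ([4], [4]), ([0, 3, 0, 3, 0, 3, 1, 3, 0, 2, 0, 0, 2, 0, 3, 0, 2, 0, 0, 2, 0, 3, 0, 2, 0, 2, 1, 2, 0, 3, 0, 2, 1, 3, 0, 3, 0, 2, 0, 2, 1, 2, 1, 3, 1, 1, 3, 0, 3, 0, 3, 0, 3, 1, 3, 0, 2], [1, 3, 1, 2, 1, 2, 1, 2, 1, 1, 3, 0, 0]), ([5], [5])]⟩,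
  ⟨[23, 14, 4, 51, 5], [16, 8, 4, 0, 6, 12, 16, 0, 5], [([0, 2, 0, 2, 1, 2, 1, 3, 1, 1, 3], [2, 0, 0, 2, 0, 3, 0, 3, 1, 3, 1]), ([1, 1, 2, 1, 1, 3, 1, 2, 1, 1, 3, 0], [1, 1, 2, 1, 1, 3, 1, 2, 1, 1, 3, 0]), ([4], [4]), ([0, 3, 0, 3, 0, 3, 1, 3, 0, 2, 0, 0, 2, 0, 3, 0, 2, 0, 0, 2, 0, 3, 0, 2, 0, 2, 1, 2, 0, 3, 0, 2, 1, 3, 0, 3, 0, 2, 0, 2, 1, 2, 1, 3, 1, 1, 3, 0, 3, 0, 3, 0, 3, 1, 3, 0, 2], [1, 3, 1, 2, 1, 2, 1, 2, 1, 1, 3, 0, 0]), ([5], [5])]⟩,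
  ⟨[5, 18, 4, 27, 41], [5, 12, 4, 8, 10, 12, 2, 8, 10, 3], [([5], [5]), ([0, 2, 1, 2, 0, 3, 0, 2, 1, 3, 0, 3], [0, 2, 1, 2, 0, 3, 0, 2, 1, 3, 0, 3]), ([4], [4]), ([1, 1, 2, 1, 1, 3, 1, 2, 1, 1, 3, 0, 1, 2, 1, 1, 2, 0, 0, 3, 0, 2, 0, 2, 1, 2, 0, 3, 0, 2, 1, 3, 0, 3], [3, 0, 0, 3, 1, 3, 0, 2, 1, 1, 1, 3]), ([1, 3, 1, 1, 1, 2, 1, 2, 1, 1, 2, 1, 1, 3, 1, 2, 1, 1, 3, 0, 1, 2, 1, 1, 2, 0, 0, 3, 0, 2, 3, 0, 3, 0, 0, 0, 2, 0], [3, 0, 0, 0, 3, 0, 2, 0, 0, 0, 3])]⟩,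
  ⟨[40, 18, 4, 41, 5], [2, 8, 10, 3, 12, 4, 2, 8, 10, 3, 5], [([1, 3, 1, 1, 1, 2, 1, 2, 1, 1, 2, 1, 1, 3, 1, 2, 1, 1, 3, 0, 1, 2, 1, 1, 2, 0, 0, 3, 0, 2, 3, 0, 3, 0, 0, 0, 2, 0], [2, 1, 1, 1, 3, 1, 2, 1, 1, 1, 2]), ([0, 2, 1, 2, 0, 3, 0, 2, 1, 3, 0, 3], [0, 2, 1, 2, 0, 3, 0, 2, 1, 3, 0, 3]), ([4], [4]), ([1, 3, 1, 1, 1, 2, 1, 2, 1, 1, 2, 1, 1, 3, 1, 2, 1, 1, 3, 0, 1, 2, 1, 1, 2, 0, 0, 3, 0, 2, 3, 0, 3, 0, 0, 0, 2, 0], [3, 0, 0, 0, 3, 0, 2, 0, 0, 0, 3]), ([5], [5])]⟩,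
  ⟨[41, 18, 4, 41, 5], [2, 8, 10, 3, 12, 4, 2, 8, 10, 3, 5], [([1, 3, 1, 1, 1, 2, 1, 2, 1, 1, 2, 1, 1, 3, 1, 2, 1, 1, 3, 0, 1, 2, 1, 1, 2, 0, 0, 3, 0, 2, 3, 0, 3, 0, 0, 0, 2, 0], [3, 0, 0, 0, 3, 0, 2, 0, 0, 0, 3]), ([0, 2, 1, 2, 0, 3, 0, 2, 1, 3, 0, 3], [0, 2, 1, 2, 0, 3, 0, 2, 1, 3, 0, 3]), ([4], [4]), ([1, 3, 1, 1, 1, 2, 1, 2, 1, 1, 2, 1, 1, 3, 1, 2, 1, 1, 3, 0, 1, 2, 1, 1, 2, 0, 0, 3, 0, 2, 3, 0, 3, 0, 0, 0, 2, 0], [3, 0, 0, 0, 3, 0, 2, 0, 0, 0, 3]), ([5], [5])]⟩,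
  ⟨[50, 20, 4, 19, 5], [0, 6, 12, 16, 0, 14, 4, 12, 5], [([0, 3, 0, 3, 0, 3, 1, 3, 0, 2, 0, 0, 2, 0, 3, 0, 2, 0, 0, 2, 0, 3, 0, 2, 0, 2, 1, 2, 0, 3, 0, 2, 1, 3, 0, 3, 0, 2, 0, 2, 1, 2, 1, 3, 1, 1, 3, 0, 3, 0, 3, 0, 3, 1, 3, 0, 2], [1, 1, 2, 0, 0, 3, 0, 3, 0, 3, 0, 2, 0]), ([1, 1, 1, 2, 0, 3, 0, 2, 1, 2, 0, 2], [1, 1, 1, 2, 0, 3, 0, 2, 1, 2, 0, 2]), ([4], [4]), ([0, 2, 1, 2, 0, 3, 0, 2, 1, 3, 0, 3], [2, 1, 2, 0, 3, 1, 2, 1, 3, 0, 3, 1]), ([5], [5])]⟩,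
  ⟨[51, 20, 4, 19, 5], [0, 6, 12, 16, 0, 14, 4, 12, 5], [([0, 3, 0, 3, 0, 3, 1, 3, 0, 2, 0, 0, 2, 0, 3, 0, 2, 0, 0, 2, 0, 3, 0, 2, 0, 2, 1, 2, 0, 3, 0, 2, 1, 3, 0, 3, 0, 2, 0, 2, 1, 2, 1, 3, 1, 1, 3, 0, 3, 0, 3, 0, 3, 1, 3, 0, 2], [1, 3, 1, 2, 1, 2, 1, 2, 1, 1, 3, 0, 0]), ([1, 1, 1, 2, 0, 3, 0, 2, 1, 2, 0, 2], [1, 1, 1, 2, 0, 3, 0, 2, 1, 2, 0, 2]), ([4], [4]), ([0, 2, 1, 2, 0, 3, 0, 2, 1, 3, 0, 3], [2, 1, 2, 0, 3, 1, 2, 1, 3, 0, 3, 1]), ([5], [5])]⟩,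
  ⟨[14, 22, 4, 51, 5], [8, 16, 4, 0, 6, 12, 16, 0, 5], [([1, 1, 2, 1, 1, 3, 1, 2, 1, 1, 3, 0], [1, 1, 2, 1, 1, 3, 1, 2, 1, 1, 3, 0]), ([0, 2, 0, 2, 1, 2, 1, 3, 1, 1, 3], [0, 2, 0, 2, 1, 2, 1, 3, 1, 1, 3]), ([4], [4]), ([0, 3, 0, 3, 0, 3, 1, 3, 0, 2, 0, 0, 2, 0, 3, 0, 2, 0, 0, 2, 0, 3, 0, 2, 0, 2, 1, 2, 0, 3, 0, 2, 1, 3, 0, 3, 0, 2, 0, 2, 1, 2, 1, 3, 1, 1, 3, 0, 3, 0, 3, 0, 3, 1, 3, 0, 2], [1, 3, 1, 2, 1, 2, 1, 2, 1, 1, 3, 0, 0]), ([5], [5])]⟩,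
  ⟨[15, 22, 4, 51, 5], [8, 16, 4, 0, 6, 12, 16, 0, 5], [([1, 1, 2, 1, 1, 3, 1, 2, 1, 1, 3, 0], [1, 2, 0, 0, 3, 0, 2, 0, 0, 3, 0, 0]), ([0, 2, 0, 2, 1, 2, 1, 3, 1, 1, 3], [0, 2, 0, 2, 1, 2, 1, 3, 1, 1, 3]), ([4], [4]), ([0, 3, 0, 3, 0, 3, 1, 3, 0, 2, 0, 0, 2, 0, 3, 0, 2, 0, 0, 2, 0, 3, 0, 2, 0, 2, 1, 2, 0, 3, 0, 2, 1, 3, 0, 3, 0, 2, 0, 2, 1, 2, 1, 3, 1, 1, 3, 0, 3, 0, 3, 0, 3, 1, 3, 0, 2], [1, 3, 1, 2, 1, 2, 1, 2, 1, 1, 3, 0, 0]), ([5], [5])]⟩,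
  ⟨[4, 26, 4, 4, 41], [4, 8, 10, 12, 4, 4, 2, 8, 10, 3], [([4], [4]), ([1, 1, 2, 1, 1, 3, 1, 2, 1, 1, 3, 0, 1, 2, 1, 1, 2, 0, 0, 3, 0, 2, 0, 2, 1, 2, 0, 3, 0, 2, 1, 3, 0, 3], [2, 0, 0, 0, 3, 1, 2, 0, 2, 1, 1, 2]), ([4], [4]), ([4], [4]), ([1, 3, 1, 1, 1, 2, 1, 2, 1, 1, 2, 1, 1, 3, 1, 2, 1, 1, 3, 0, 1, 2, 1, 1, 2, 0, 0, 3, 0, 2, 3, 0, 3, 0, 0, 0, 2, 0], [3, 0, 0, 0, 3, 0, 2, 0, 0, 0, 3])]⟩,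
  ⟨[5, 26, 4, 19, 41], [5, 8, 10, 12, 4, 12, 2, 8, 10, 3], [([5], [5]), ([1, 1, 2, 1, 1, 3, 1, 2, 1, 1, 3, 0, 1, 2, 1, 1, 2, 0, 0, 3, 0, 2, 0, 2, 1, 2, 0, 3, 0, 2, 1, 3, 0, 3], [2, 0, 0, 0, 3, 1, 2, 0, 2, 1, 1, 2]), ([4], [4]), ([0, 2, 1, 2, 0, 3, 0, 2, 1, 3, 0, 3], [2, 1, 2, 0, 3, 1, 2, 1, 3, 0, 3, 1]), ([1, 3, 1, 1, 1, 2, 1, 2, 1, 1, 2, 1, 1, 3, 1, 2, 1, 1, 3, 0, 1, 2, 1, 1, 2, 0, 0, 3, 0, 2, 3, 0, 3, 0, 0, 0, 2, 0], [3, 0, 0, 0, 3, 0, 2, 0, 0, 0, 3])]⟩,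
  ⟨[4, 40, 4, 27, 4], [4, 2, 8, 10, 3, 4, 8, 10, 12, 4], [([4], [4]), ([1, 3, 1, 1, 1, 2, 1, 2, 1, 1, 2, 1, 1, 3, 1, 2, 1, 1, 3, 0, 1, 2, 1, 1, 2, 0, 0, 3, 0, 2, 3, 0, 3, 0, 0, 0, 2, 0], [2, 1, 1, 1, 3, 1, 2, 1, 1, 1, 2]), ([4], [4]), ([1, 1, 2, 1, 1, 3, 1, 2, 1, 1, 3, 0, 1, 2, 1, 1, 2, 0, 0, 3, 0, 2, 0, 2, 1, 2, 0, 3, 0, 2, 1, 3, 0, 3], [3, 0, 0, 3, 1, 3, 0, 2, 1, 1, 1, 3]), ([4], [4])]⟩,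
  ⟨[18, 40, 4, 41, 5], [12, 2, 8, 10, 3, 4, 2, 8, 10, 3, 5], [([0, 2, 1, 2, 0, 3, 0, 2, 1, 3, 0, 3], [0, 2, 1, 2, 0, 3, 0, 2, 1, 3, 0, 3]), ([1, 3, 1, 1, 1, 2, 1, 2, 1, 1, 2, 1, 1, 3, 1, 2, 1, 1, 3, 0, 1, 2, 1, 1, 2, 0, 0, 3, 0, 2, 3, 0, 3, 0, 0, 0, 2, 0], [2, 1, 1, 1, 3, 1, 2, 1, 1, 1, 2]), ([4], [4]), ([1, 3, 1, 1, 1, 2, 1, 2, 1, 1, 2, 1, 1, 3, 1, 2, 1, 1, 3, 0, 1, 2, 1, 1, 2, 0, 0, 3, 0, 2, 3, 0, 3, 0, 0, 0, 2, 0], [3, 0, 0, 0, 3, 0, 2, 0, 0, 0, 3]), ([5], [5])]⟩,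
  ⟨[19, 40, 4, 41, 5], [12, 2, 8, 10, 3, 4, 2, 8, 10, 3, 5], [([0, 2, 1, 2, 0, 3, 0, 2, 1, 3, 0, 3], [2, 1, 2, 0, 3, 1, 2, 1, 3, 0, 3, 1]), ([1, 3, 1, 1, 1, 2, 1, 2, 1, 1, 2, 1, 1, 3, 1, 2, 1, 1, 3, 0, 1, 2, 1, 1, 2, 0, 0, 3, 0, 2, 3, 0, 3, 0, 0, 0, 2, 0], [2, 1, 1, 1, 3, 1, 2, 1, 1, 1, 2]), ([4], [4]), ([1, 3, 1, 1, 1, 2, 1, 2, 1, 1, 2, 1, 1, 3, 1, 2, 1, 1, 3, 0, 1, 2, 1, 1, 2, 0, 0, 3, 0, 2, 3, 0, 3, 0, 0, 0, 2, 0], [3, 0, 0, 0, 3, 0, 2, 0, 0, 0, 3]), ([5], [5])]⟩,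
  ⟨[5, 50, 4, 15, 19], [5, 0, 6, 12, 16, 0, 4, 8, 12], [([5], [5]), ([0, 3, 0, 3, 0, 3, 1, 3, 0, 2, 0, 0, 2, 0, 3, 0, 2, 0, 0, 2, 0, 3, 0, 2, 0, 2, 1, 2, 0, 3, 0, 2, 1, 3, 0, 3, 0, 2, 0, 2, 1, 2, 1, 3, 1, 1, 3, 0, 3, 0, 3, 0, 3, 1, 3, 0, 2], [1, 1, 2, 0, 0, 3, 0, 3, 0, 3, 0, 2, 0]), ([4], [4]), ([1, 1, 2, 1, 1, 3, 1, 2, 1, 1, 3, 0], [1, 2, 0, 0, 3, 0, 2, 0, 0, 3, 0, 0]), ([0, 2, 1, 2, 0, 3, 0, 2, 1, 3, 0, 3], [2, 1, 2, 0, 3, 1, 2, 1, 3, 0, 3, 1])]⟩,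
  ⟨[20, 50, 4, 19, 5], [14, 0, 6, 12, 16, 0, 4, 12, 5], [([1, 1, 1, 2, 0, 3, 0, 2, 1, 2, 0, 2], [1, 1, 1, 2, 0, 3, 0, 2, 1, 2, 0, 2]), ([0, 3, 0, 3, 0, 3, 1, 3, 0, 2, 0, 0, 2, 0, 3, 0, 2, 0, 0, 2, 0, 3, 0, 2, 0, 2, 1, 2, 0, 3, 0, 2, 1, 3, 0, 3, 0, 2, 0, 2, 1, 2, 1, 3, 1, 1, 3, 0, 3, 0, 3, 0, 3, 1, 3, 0, 2], [1, 1, 2, 0, 0, 3, 0, 3, 0, 3, 0, 2, 0]), ([4], [4]), ([0, 2, 1, 2, 0, 3, 0, 2, 1, 3, 0, 3], [2, 1, 2, 0, 3, 1, 2, 1, 3, 0, 3, 1]), ([5], [5])]⟩,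
  ⟨[21, 50, 4, 19, 5], [14, 0, 6, 12, 16, 0, 4, 12, 5], [([1, 1, 1, 2, 0, 3, 0, 2, 1, 2, 0, 2], [3, 1, 3, 0, 3, 1, 2, 1, 3, 0, 0, 0]), ([0, 3, 0, 3, 0, 3, 1, 3, 0, 2, 0, 0, 2, 0, 3, 0, 2, 0, 0, 2, 0, 3, 0, 2, 0, 2, 1, 2, 0, 3, 0, 2, 1, 3, 0, 3, 0, 2, 0, 2, 1, 2, 1, 3, 1, 1, 3, 0, 3, 0, 3, 0, 3, 1, 3, 0, 2], [1, 1, 2, 0, 0, 3, 0, 3, 0, 3, 0, 2, 0]), ([4], [4]), ([0, 2, 1, 2, 0, 3, 0, 2, 1, 3, 0, 3], [2, 1, 2, 0, 3, 1, 2, 1, 3, 0, 3, 1]), ([5], [5])]⟩,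
  ⟨[19, 14, 5, 51, 4], [12, 8, 5, 0, 6, 12, 16, 0, 4], [([0, 2, 1, 2, 0, 3, 0, 2, 1, 3, 0, 3], [2, 1, 2, 0, 3, 1, 2, 1, 3, 0, 3, 1]), ([1, 1, 2, 1, 1, 3, 1, 2, 1, 1, 3, 0], [1, 1, 2, 1, 1, 3, 1, 2, 1, 1, 3, 0]), ([5], [5]), ([0, 3, 0, 3, 0, 3, 1, 3, 0, 2, 0, 0, 2, 0, 3, 0, 2, 0, 0, 2, 0, 3, 0, 2, 0, 2, 1, 2, 0, 3, 0, 2, 1, 3, 0, 3, 0, 2, 0, 2, 1, 2, 1, 3, 1, 1, 3, 0, 3, 0, 3, 0, 3, 1, 3, 0, 2], [1, 3, 1, 2, 1, 2, 1, 2, 1, 1, 3, 0, 0]), ([4], [4])]⟩,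
  ⟨[26, 16, 5, 51, 4], [8, 10, 12, 10, 5, 0, 6, 12, 16, 0, 4], [([1, 1, 2, 1, 1, 3, 1, 2, 1, 1, 3, 0, 1, 2, 1, 1, 2, 0, 0, 3, 0, 2, 0, 2, 1, 2, 0, 3, 0, 2, 1, 3, 0, 3], [2, 0, 0, 0, 3, 1, 2, 0, 2, 1, 1, 2]), ([1, 2, 1, 1, 2, 0, 0, 3, 0, 2], [1, 2, 1, 1, 2, 0, 0, 3, 0, 2]), ([5], [5]), ([0, 3, 0, 3, 0, 3, 1, 3, 0, 2, 0, 0, 2, 0, 3, 0, 2, 0, 0, 2, 0, 3, 0, 2, 0, 2, 1, 2, 0, 3, 0, 2, 1, 3, 0, 3, 0, 2, 0, 2, 1, 2, 1, 3, 1, 1, 3, 0, 3, 0, 3, 0, 3, 1, 3, 0, 2], [1, 3, 1, 2, 1, 2, 1, 2, 1, 1, 3, 0, 0]), ([4], [4])]⟩,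
  ⟨[27, 16, 5, 51, 4], [8, 10, 12, 10, 5, 0, 6, 12, 16, 0, 4], [([1, 1, 2, 1, 1, 3, 1, 2, 1, 1, 3, 0, 1, 2, 1, 1, 2, 0, 0, 3, 0, 2, 0, 2, 1, 2, 0, 3, 0, 2, 1, 3, 0, 3], [3, 0, 0, 3, 1, 3, 0, 2, 1, 1, 1, 3]), ([1, 2, 1, 1, 2, 0, 0, 3, 0, 2], [1, 2, 1, 1, 2, 0, 0, 3, 0, 2]), ([5], [5]), ([0, 3, 0, 3, 0, 3, 1, 3, 0, 2, 0, 0, 2, 0, 3, 0, 2, 0, 0, 2, 0, 3, 0, 2, 0, 2, 1, 2, 0, 3, 0, 2, 1, 3, 0, 3, 0, 2, 0, 2, 1, 2, 1, 3, 1, 1, 3, 0, 3, 0, 3, 0, 3, 1, 3, 0, 2], [1, 3, 1, 2, 1, 2, 1, 2, 1, 1, 3, 0, 0]), ([4], [4])]⟩,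
  ⟨[14, 18, 5, 51, 4], [8, 12, 5, 0, 6, 12, 16, 0, 4], [([1, 1, 2, 1, 1, 3, 1, 2, 1, 1, 3, 0], [1, 1, 2, 1, 1, 3, 1, 2, 1, 1, 3, 0]), ([0, 2, 1, 2, 0, 3, 0, 2, 1, 3, 0, 3], [0, 2, 1, 2, 0, 3, 0, 2, 1, 3, 0, 3]), ([5], [5]), ([0, 3, 0, 3, 0, 3, 1, 3, 0, 2, 0, 0, 2, 0, 3, 0, 2, 0, 0, 2, 0, 3, 0, 2, 0, 2, 1, 2, 0, 3, 0, 2, 1, 3, 0, 3, 0, 2, 0, 2, 1, 2, 1, 3, 1, 1, 3, 0, 3, 0, 3, 0, 3, 1, 3, 0, 2], [1, 3, 1, 2, 1, 2, 1, 2, 1, 1, 3, 0, 0]), ([4], [4])]⟩,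
  ⟨[15, 18, 5, 51, 4], [8, 12, 5, 0, 6, 12, 16, 0, 4], [([1, 1, 2, 1, 1, 3, 1, 2, 1, 1, 3, 0], [1, 2, 0, 0, 3, 0, 2, 0, 0, 3, 0, 0]), ([0, 2, 1, 2, 0, 3, 0, 2, 1, 3, 0, 3], [0, 2, 1, 2, 0, 3, 0, 2, 1, 3, 0, 3]), ([5], [5]), ([0, 3, 0, 3, 0, 3, 1, 3, 0, 2, 0, 0, 2, 0, 3, 0, 2, 0, 0, 2, 0, 3, 0, 2, 0, 2, 1, 2, 0, 3, 0, 2, 1, 3, 0, 3, 0, 2, 0, 2, 1, 2, 1, 3, 1, 1, 3, 0, 3, 0, 3, 0, 3, 1, 3, 0, 2], [1, 3, 1, 2, 1, 2, 1, 2, 1, 1, 3, 0, 0]), ([4], [4])]⟩,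
  ⟨[41, 18, 5, 27, 4], [2, 8, 10, 3, 12, 5, 8, 10, 12, 4], [([1, 3, 1, 1, 1, 2, 1, 2, 1, 1, 2, 1, 1, 3, 1, 2, 1, 1, 3, 0, 1, 2, 1, 1, 2, 0, 0, 3, 0, 2, 3, 0, 3, 0, 0, 0, 2, 0], [3, 0, 0, 0, 3, 0, 2, 0, 0, 0, 3]), ([0, 2, 1, 2, 0, 3, 0, 2, 1, 3, 0, 3], [0, 2, 1, 2, 0, 3, 0, 2, 1, 3, 0, 3]), ([5], [5]), ([1, 1, 2, 1, 1, 3, 1, 2, 1, 1, 3, 0, 1, 2, 1, 1, 2, 0, 0, 3, 0, 2, 0, 2, 1, 2, 0, 3, 0, 2, 1, 3, 0, 3], [3, 0, 0, 3, 1, 3, 0, 2, 1, 1, 1, 3]), ([4], [4])]⟩,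
  ⟨[16, 26, 5, 51, 4], [10, 8, 10, 12, 5, 0, 6, 12, 16, 0, 4], [([1, 2, 1, 1, 2, 0, 0, 3, 0, 2], [1, 2, 1, 1, 2, 0, 0, 3, 0, 2]), ([1, 1, 2, 1, 1, 3, 1, 2, 1, 1, 3, 0, 1, 2, 1, 1, 2, 0, 0, 3, 0, 2, 0, 2, 1, 2, 0, 3, 0, 2, 1, 3, 0, 3], [2, 0, 0, 0, 3, 1, 2, 0, 2, 1, 1, 2]), ([5], [5]), ([0, 3, 0, 3, 0, 3, 1, 3, 0, 2, 0, 0, 2, 0, 3, 0, 2, 0, 0, 2, 0, 3, 0, 2, 0, 2, 1, 2, 0, 3, 0, 2, 1, 3, 0, 3, 0, 2, 0, 2, 1, 2, 1, 3, 1, 1, 3, 0, 3, 0, 3, 0, 3, 1, 3, 0, 2], [1, 3, 1, 2, 1, 2, 1, 2, 1, 1, 3, 0, 0]), ([4], [4])]⟩,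
  ⟨[17, 26, 5, 51, 4], [10, 8, 10, 12, 5, 0, 6, 12, 16, 0, 4], [([1, 2, 1, 1, 2, 0, 0, 3, 0, 2], [3, 1, 2, 1, 1, 3, 0, 0, 3, 0]), ([1, 1, 2, 1, 1, 3, 1, 2, 1, 1, 3, 0, 1, 2, 1, 1, 2, 0, 0, 3, 0, 2, 0, 2, 1, 2, 0, 3, 0, 2, 1, 3, 0, 3], [2, 0, 0, 0, 3, 1, 2, 0, 2, 1, 1, 2]), ([5], [5]), ([0, 3, 0, 3, 0, 3, 1, 3, 0, 2, 0, 0, 2, 0, 3, 0, 2, 0, 0, 2, 0, 3, 0, 2, 0, 2, 1, 2, 0, 3, 0, 2, 1, 3, 0, 3, 0, 2, 0, 2, 1, 2, 1, 3, 1, 1, 3, 0, 3, 0, 3, 0, 3, 1, 3, 0, 2], [1, 3, 1, 2, 1, 2, 1, 2, 1, 1, 3, 0, 0]), ([4], [4])]⟩,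
  ⟨[41, 26, 5, 19, 4], [2, 8, 10, 3, 8, 10, 12, 5, 12, 4], [([1, 3, 1, 1, 1, 2, 1, 2, 1, 1, 2, 1, 1, 3, 1, 2, 1, 1, 3, 0, 1, 2, 1, 1, 2, 0, 0, 3, 0, 2, 3, 0, 3, 0, 0, 0, 2, 0], [3, 0, 0, 0, 3, 0, 2, 0, 0, 0, 3]), ([1, 1, 2, 1, 1, 3, 1, 2, 1, 1, 3, 0, 1, 2, 1, 1, 2, 0, 0, 3, 0, 2, 0, 2, 1, 2, 0, 3, 0, 2, 1, 3, 0, 3], [2, 0, 0, 0, 3, 1, 2, 0, 2, 1, 1, 2]), ([5], [5]), ([0, 2, 1, 2, 0, 3, 0, 2, 1, 3, 0, 3], [2, 1, 2, 0, 3, 1, 2, 1, 3, 0, 3, 1]), ([4], [4])]⟩,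
  ⟨[18, 40, 5, 27, 4], [12, 2, 8, 10, 3, 5, 8, 10, 12, 4], [([0, 2, 1, 2, 0, 3, 0, 2, 1, 3, 0, 3], [0, 2, 1, 2, 0, 3, 0, 2, 1, 3, 0, 3]), ([1, 3, 1, 1, 1, 2, 1, 2, 1, 1, 2, 1, 1, 3, 1, 2, 1, 1, 3, 0, 1, 2, 1, 1, 2, 0, 0, 3, 0, 2, 3, 0, 3, 0, 0, 0, 2, 0], [2, 1, 1, 1, 3, 1, 2, 1, 1, 1, 2]), ([5], [5]), ([1, 1, 2, 1, 1, 3, 1, 2, 1, 1, 3, 0, 1, 2, 1, 1, 2, 0, 0, 3, 0, 2, 0, 2, 1, 2, 0, 3, 0, 2, 1, 3, 0, 3], [3, 0, 0, 3, 1, 3, 0, 2, 1, 1, 1, 3]), ([4], [4])]⟩,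
  ⟨[19, 40, 5, 27, 4], [12, 2, 8, 10, 3, 5, 8, 10, 12, 4], [([0, 2, 1, 2, 0, 3, 0, 2, 1, 3, 0, 3], [2, 1, 2, 0, 3, 1, 2, 1, 3, 0, 3, 1]), ([1, 3, 1, 1, 1, 2, 1, 2, 1, 1, 2, 1, 1, 3, 1, 2, 1, 1, 3, 0, 1, 2, 1, 1, 2, 0, 0, 3, 0, 2, 3, 0, 3, 0, 0, 0, 2, 0], [2, 1, 1, 1, 3, 1, 2, 1, 1, 1, 2]), ([5], [5]), ([1, 1, 2, 1, 1, 3, 1, 2, 1, 1, 3, 0, 1, 2, 1, 1, 2, 0, 0, 3, 0, 2, 0, 2, 1, 2, 0, 3, 0, 2, 1, 3, 0, 3], [3, 0, 0, 3, 1, 3, 0, 2, 1, 1, 1, 3]), ([4], [4])]⟩,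
  ⟨[26, 40, 5, 19, 4], [8, 10, 12, 2, 8, 10, 3, 5, 12, 4], [([1, 1, 2, 1, 1, 3, 1, 2, 1, 1, 3, 0, 1, 2, 1, 1, 2, 0, 0, 3, 0, 2, 0, 2, 1, 2, 0, 3, 0, 2, 1, 3, 0, 3], [2, 0, 0, 0, 3, 1, 2, 0, 2, 1, 1, 2]), ([1, 3, 1, 1, 1, 2, 1, 2, 1, 1, 2, 1, 1, 3, 1, 2, 1, 1, 3, 0, 1, 2, 1, 1, 2, 0, 0, 3, 0, 2, 3, 0, 3, 0, 0, 0, 2, 0], [2, 1, 1, 1, 3, 1, 2, 1, 1, 1, 2]), ([5], [5]), ([0, 2, 1, 2, 0, 3, 0, 2, 1, 3, 0, 3], [2, 1, 2, 0, 3, 1, 2, 1, 3, 0, 3, 1]), ([4], [4])]⟩,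
  ⟨[27, 40, 5, 19, 4], [8, 10, 12, 2, 8, 10, 3, 5, 12, 4], [([1, 1, 2, 1, 1, 3, 1, 2, 1, 1, 3, 0, 1, 2, 1, 1, 2, 0, 0, 3, 0, 2, 0, 2, 1, 2, 0, 3, 0, 2, 1, 3, 0, 3], [3, 0, 0, 3, 1, 3, 0, 2, 1, 1, 1, 3]), ([1, 3, 1, 1, 1, 2, 1, 2, 1, 1, 2, 1, 1, 3, 1, 2, 1, 1, 3, 0, 1, 2, 1, 1, 2, 0, 0, 3, 0, 2, 3, 0, 3, 0, 0, 0, 2, 0], [2, 1, 1, 1, 3, 1, 2, 1, 1, 1, 2]), ([5], [5]), ([0, 2, 1, 2, 0, 3, 0, 2, 1, 3, 0, 3], [2, 1, 2, 0, 3, 1, 2, 1, 3, 0, 3, 1]), ([4], [4])]⟩,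
  ⟨[20, 14, 8, 5, 37, 4], [14, 8, 0, 5, 2, 2, 0, 2, 8, 12, 2, 4], [([1, 1, 1, 2, 0, 3, 0, 2, 1, 2, 0, 2], [1, 1, 1, 2, 0, 3, 0, 2, 1, 2, 0, 2]), ([1, 1, 2, 1, 1, 3, 1, 2, 1, 1, 3, 0], [1, 1, 2, 1, 1, 3, 1, 2, 1, 1, 3, 0]), ([0, 3, 0, 3, 0, 3, 1, 3, 0, 2], [0, 3, 0, 3, 0, 3, 1, 3, 0, 2]), ([5], [5]), ([1, 3, 1, 1, 1, 2, 1, 2, 1, 3, 1, 1, 1, 2, 1, 2, 0, 3, 0, 3, 0, 3, 1, 3, 0, 2, 1, 3, 1, 1, 1, 2, 1, 2, 1, 1, 2, 1, 1, 3, 1, 2, 1, 1, 3, 0, 0, 2, 1, 2, 0, 3, 0, 2, 1, 3, 0, 3, 1, 3, 1, 1, 1, 2, 1, 2], [2, 0, 0, 0, 3, 0, 3, 1, 2, 0, 3, 0]), ([4], [4])]⟩,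
  ⟨[21, 14, 8, 5, 37, 4], [14, 8, 0, 5, 2, 2, 0, 2, 8, 12, 2, 4], [([1, 1, 1, 2, 0, 3, 0, 2, 1, 2, 0, 2], [3, 1, 3, 0, 3, 1, 2, 1, 3, 0, 0, 0]), ([1, 1, 2, 1, 1, 3, 1, 2, 1, 1, 3, 0], [1, 1, 2, 1, 1, 3, 1, 2, 1, 1, 3, 0]), ([0, 3, 0, 3, 0, 3, 1, 3, 0, 2], [0, 3, 0, 3, 0, 3, 1, 3, 0, 2]), ([5], [5]), ([1, 3, 1, 1, 1, 2, 1, 2, 1, 3, 1, 1, 1, 2, 1, 2, 0, 3, 0, 3, 0, 3, 1, 3, 0, 2, 1, 3, 1, 1, 1, 2, 1, 2, 1, 1, 2, 1, 1, 3, 1, 2, 1, 1, 3, 0, 0, 2, 1, 2, 0, 3, 0, 2, 1, 3, 0, 3, 1, 3, 1, 1, 1, 2, 1, 2], [2, 0, 0, 0, 3, 0, 3, 1, 2, 0, 3, 0]), ([4], [4])]⟩,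
  ⟨[4, 16, 8, 5, 13, 37], [4, 10, 0, 5, 6, 2, 2, 0, 2, 8, 12, 2], [([4], [4]), ([1, 2, 1, 1, 2, 0, 0, 3, 0, 2], [1, 2, 1, 1, 2, 0, 0, 3, 0, 2]), ([0, 3, 0, 3, 0, 3, 1, 3, 0, 2], [0, 3, 0, 3, 0, 3, 1, 3, 0, 2]), ([5], [5]), ([0, 0, 2, 0, 3, 0, 2, 0, 0, 2, 0, 3, 0, 2], [3, 1, 2, 1, 3, 1, 1, 3, 1, 2, 1, 3, 1, 1]), ([1, 3, 1, 1, 1, 2, 1, 2, 1, 3, 1, 1, 1, 2, 1, 2, 0, 3, 0, 3, 0, 3, 1, 3, 0, 2, 1, 3, 1, 1, 1, 2, 1, 2, 1, 1, 2, 1, 1, 3, 1, 2, 1, 1, 3, 0, 0, 2, 1, 2, 0, 3, 0, 2, 1, 3, 0, 3, 1, 3, 1, 1, 1, 2, 1, 2], [2, 0, 0, 0, 3, 0, 3, 1, 2, 0, 3, 0])]⟩,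
  ⟨[4, 20, 8, 5, 21, 37], [4, 14, 0, 5, 14, 2, 2, 0, 2, 8, 12, 2], [([4], [4]), ([1, 1, 1, 2, 0, 3, 0, 2, 1, 2, 0, 2], [1, 1, 1, 2, 0, 3, 0, 2, 1, 2, 0, 2]), ([0, 3, 0, 3, 0, 3, 1, 3, 0, 2], [0, 3, 0, 3, 0, 3, 1, 3, 0, 2]), ([5], [5]), ([1, 1, 1, 2, 0, 3, 0, 2, 1, 2, 0, 2], [3, 1, 3, 0, 3, 1, 2, 1, 3, 0, 0, 0]), ([1, 3, 1, 1, 1, 2, 1, 2, 1, 3, 1, 1, 1, 2, 1, 2, 0, 3, 0, 3, 0, 3, 1, 3, 0, 2, 1, 3, 1, 1, 1, 2, 1, 2, 1, 1, 2, 1, 1, 3, 1, 2, 1, 1, 3, 0, 0, 2, 1, 2, 0, 3, 0, 2, 1, 3, 0, 3, 1, 3, 1, 1, 1, 2, 1, 2], [2, 0, 0, 0, 3, 0, 3, 1, 2, 0, 3, 0])]⟩,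
  ⟨[14, 20, 8, 5, 37, 4], [8, 14, 0, 5, 2, 2, 0, 2, 8, 12, 2, 4], [([1, 1, 2, 1, 1, 3, 1, 2, 1, 1, 3, 0], [1, 1, 2, 1, 1, 3, 1, 2, 1, 1, 3, 0]), ([1, 1, 1, 2, 0, 3, 0, 2, 1, 2, 0, 2], [1, 1, 1, 2, 0, 3, 0, 2, 1, 2, 0, 2]), ([0, 3, 0, 3, 0, 3, 1, 3, 0, 2], [0, 3, 0, 3, 0, 3, 1, 3, 0, 2]), ([5], [5]), ([1, 3, 1, 1, 1, 2, 1, 2, 1, 3, 1, 1, 1, 2, 1, 2, 0, 3, 0, 3, 0, 3, 1, 3, 0, 2, 1, 3, 1, 1, 1, 2, 1, 2, 1, 1, 2, 1, 1, 3, 1, 2, 1, 1, 3, 0, 0, 2, 1, 2, 0, 3, 0, 2, 1, 3, 0, 3, 1, 3, 1, 1, 1, 2, 1, 2], [2, 0, 0, 0, 3, 0, 3, 1, 2, 0, 3, 0]), ([4], [4])]⟩,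
  ⟨[15, 20, 8, 5, 37, 4], [8, 14, 0, 5, 2, 2, 0, 2, 8, 12, 2, 4], [([1, 1, 2, 1, 1, 3, 1, 2, 1, 1, 3, 0], [1, 2, 0, 0, 3, 0, 2, 0, 0, 3, 0, 0]), ([1, 1, 1, 2, 0, 3, 0, 2, 1, 2, 0, 2], [1, 1, 1, 2, 0, 3, 0, 2, 1, 2, 0, 2]), ([0, 3, 0, 3, 0, 3, 1, 3, 0, 2], [0, 3, 0, 3, 0, 3, 1, 3, 0, 2]), ([5], [5]), ([1, 3, 1, 1, 1, 2, 1, 2, 1, 3, 1, 1, 1, 2, 1, 2, 0, 3, 0, 3, 0, 3, 1, 3, 0, 2, 1, 3, 1, 1, 1, 2, 1, 2, 1, 1, 2, 1, 1, 3, 1, 2, 1, 1, 3, 0, 0, 2, 1, 2, 0, 3, 0, 2, 1, 3, 0, 3, 1, 3, 1, 1, 1, 2, 1, 2], [2, 0, 0, 0, 3, 0, 3, 1, 2, 0, 3, 0]), ([4], [4])]⟩,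
  ⟨[5, 14, 12, 4, 13, 21], [5, 8, 6, 4, 6, 14], [([5], [5]), ([1, 1, 2, 1, 1, 3, 1, 2, 1, 1, 3, 0], [1, 1, 2, 1, 1, 3, 1, 2, 1, 1, 3, 0]), ([0, 0, 2, 0, 3, 0, 2, 0, 0, 2, 0, 3, 0, 2], [0, 0, 2, 0, 3, 0, 2, 0, 0, 2, 0, 3, 0, 2]), ([4], [4]), ([0, 0, 2, 0, 3, 0, 2, 0, 0, 2, 0, 3, 0, 2], [3, 1, 2, 1, 3, 1, 1, 3, 1, 2, 1, 3, 1, 1]), ([1, 1, 1, 2, 0, 3, 0, 2, 1, 2, 0, 2], [3, 1, 3, 0, 3, 1, 2, 1, 3, 0, 0, 0])]⟩,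
  ⟨[4, 16, 12, 5, 15, 21], [4, 10, 6, 5, 8, 14], [([4], [4]), ([1, 2, 1, 1, 2, 0, 0, 3, 0, 2], [1, 2, 1, 1, 2, 0, 0, 3, 0, 2]), ([0, 0, 2, 0, 3, 0, 2, 0, 0, 2, 0, 3, 0, 2], [0, 0, 2, 0, 3, 0, 2, 0, 0, 2, 0, 3, 0, 2]), ([5], [5]), ([1, 1, 2, 1, 1, 3, 1, 2, 1, 1, 3, 0], [1, 2, 0, 0, 3, 0, 2, 0, 0, 3, 0, 0]), ([1, 1, 1, 2, 0, 3, 0, 2, 1, 2, 0, 2], [3, 1, 3, 0, 3, 1, 2, 1, 3, 0, 0, 0])]⟩,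
  ⟨[4, 18, 12, 5, 15, 41], [4, 12, 6, 5, 8, 2, 8, 10, 3], [([4], [4]), ([0, 2, 1, 2, 0, 3, 0, 2, 1, 3, 0, 3], [0, 2, 1, 2, 0, 3, 0, 2, 1, 3, 0, 3]), ([0, 0, 2, 0, 3, 0, 2, 0, 0, 2, 0, 3, 0, 2], [0, 0, 2, 0, 3, 0, 2, 0, 0, 2, 0, 3, 0, 2]), ([5], [5]), ([1, 1, 2, 1, 1, 3, 1, 2, 1, 1, 3, 0], [1, 2, 0, 0, 3, 0, 2, 0, 0, 3, 0, 0]), ([1, 3, 1, 1, 1, 2, 1, 2, 1, 1, 2, 1, 1, 3, 1, 2, 1, 1, 3, 0, 1, 2, 1, 1, 2, 0, 0, 3, 0, 2, 3, 0, 3, 0, 0, 0, 2, 0], [3, 0, 0, 0, 3, 0, 2, 0, 0, 0, 3])]⟩,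
  ⟨[5, 18, 12, 4, 27, 51], [5, 12, 6, 4, 8, 10, 12, 0, 6, 12, 16, 0], [([5], [5]), ([0, 2, 1, 2, 0, 3, 0, 2, 1, 3, 0, 3], [0, 2, 1, 2, 0, 3, 0, 2, 1, 3, 0, 3]), ([0, 0, 2, 0, 3, 0, 2, 0, 0, 2, 0, 3, 0, 2], [0, 0, 2, 0, 3, 0, 2, 0, 0, 2, 0, 3, 0, 2]), ([4], [4]), ([1, 1, 2, 1, 1, 3, 1, 2, 1, 1, 3, 0, 1, 2, 1, 1, 2, 0, 0, 3, 0, 2, 0, 2, 1, 2, 0, 3, 0, 2, 1, 3, 0, 3], [3, 0, 0, 3, 1, 3, 0, 2, 1, 1, 1, 3]), ([0, 3, 0, 3, 0, 3, 1, 3, 0, 2, 0, 0, 2, 0, 3, 0, 2, 0, 0, 2, 0, 3, 0, 2, 0, 2, 1, 2, 0, 3, 0, 2, 1, 3, 0, 3, 0, 2, 0, 2, 1, 2, 1, 3, 1, 1, 3, 0, 3, 0, 3, 0, 3, 1, 3, 0, 2], [1, 3, 1, 2, 1, 2, 1, 2, 1, 1, 3, 0, 0])]⟩,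
  ⟨[4, 26, 12, 5, 17, 41], [4, 8, 10, 12, 6, 5, 10, 2, 8, 10, 3], [([4], [4]), ([1, 1, 2, 1, 1, 3, 1, 2, 1, 1, 3, 0, 1, 2, 1, 1, 2, 0, 0, 3, 0, 2, 0, 2, 1, 2, 0, 3, 0, 2, 1, 3, 0, 3], [2, 0, 0, 0, 3, 1, 2, 0, 2, 1, 1, 2]), ([0, 0, 2, 0, 3, 0, 2, 0, 0, 2, 0, 3, 0, 2], [0, 0, 2, 0, 3, 0, 2, 0, 0, 2, 0, 3, 0, 2]), ([5], [5]), ([1, 2, 1, 1, 2, 0, 0, 3, 0, 2], [3, 1, 2, 1, 1, 3, 0, 0, 3, 0]), ([1, 3, 1, 1, 1, 2, 1, 2, 1, 1, 2, 1, 1, 3, 1, 2, 1, 1, 3, 0, 1, 2, 1, 1, 2, 0, 0, 3, 0, 2, 3, 0, 3, 0, 0, 0, 2, 0], [3, 0, 0, 0, 3, 0, 2, 0, 0, 0, 3])]⟩,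
  ⟨[5, 26, 12, 4, 19, 51], [5, 8, 10, 12, 6, 4, 12, 0, 6, 12, 16, 0], [([5], [5]), ([1, 1, 2, 1, 1, 3, 1, 2, 1, 1, 3, 0, 1, 2, 1, 1, 2, 0, 0, 3, 0, 2, 0, 2, 1, 2, 0, 3, 0, 2, 1, 3, 0, 3], [2, 0, 0, 0, 3, 1, 2, 0, 2, 1, 1, 2]), ([0, 0, 2, 0, 3, 0, 2, 0, 0, 2, 0, 3, 0, 2], [0, 0, 2, 0, 3, 0, 2, 0, 0, 2, 0, 3, 0, 2]), ([4], [4]), ([0, 2, 1, 2, 0, 3, 0, 2, 1, 3, 0, 3], [2, 1, 2, 0, 3, 1, 2, 1, 3, 0, 3, 1]), ([0, 3, 0, 3, 0, 3, 1, 3, 0, 2, 0, 0, 2, 0, 3, 0, 2, 0, 0, 2, 0, 3, 0, 2, 0, 2, 1, 2, 0, 3, 0, 2, 1, 3, 0, 3, 0, 2, 0, 2, 1, 2, 1, 3, 1, 1, 3, 0, 3, 0, 3, 0, 3, 1, 3, 0, 2], [1, 3, 1, 2, 1, 2, 1, 2, 1, 1, 3, 0, 0])]⟩,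
  ⟨[5, 40, 12, 4, 19, 21], [5, 2, 8, 10, 3, 6, 4, 12, 14], [([5], [5]), ([1, 3, 1, 1, 1, 2, 1, 2, 1, 1, 2, 1, 1, 3, 1, 2, 1, 1, 3, 0, 1, 2, 1, 1, 2, 0, 0, 3, 0, 2, 3, 0, 3, 0, 0, 0, 2, 0], [2, 1, 1, 1, 3, 1, 2, 1, 1, 1, 2]), ([0, 0, 2, 0, 3, 0, 2, 0, 0, 2, 0, 3, 0, 2], [0, 0, 2, 0, 3, 0, 2, 0, 0, 2, 0, 3, 0, 2]), ([4], [4]), ([0, 2, 1, 2, 0, 3, 0, 2, 1, 3, 0, 3], [2, 1, 2, 0, 3, 1, 2, 1, 3, 0, 3, 1]), ([1, 1, 1, 2, 0, 3, 0, 2, 1, 2, 0, 2], [3, 1, 3, 0, 3, 1, 2, 1, 3, 0, 0, 0])]⟩,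
  ⟨[5, 18, 14, 5, 51, 5], [5, 12, 8, 5, 0, 6, 12, 16, 0, 5], [([5], [5]), ([0, 2, 1, 2, 0, 3, 0, 2, 1, 3, 0, 3], [0, 2, 1, 2, 0, 3, 0, 2, 1, 3, 0, 3]), ([1, 1, 2, 1, 1, 3, 1, 2, 1, 1, 3, 0], [1, 1, 2, 1, 1, 3, 1, 2, 1, 1, 3, 0]), ([5], [5]), ([0, 3, 0, 3, 0, 3, 1, 3, 0, 2, 0, 0, 2, 0, 3, 0, 2, 0, 0, 2, 0, 3, 0, 2, 0, 2, 1, 2, 0, 3, 0, 2, 1, 3, 0, 3, 0, 2, 0, 2, 1, 2, 1, 3, 1, 1, 3, 0, 3, 0, 3, 0, 3, 1, 3, 0, 2], [1, 3, 1, 2, 1, 2, 1, 2, 1, 1, 3, 0, 0]), ([5], [5])]⟩,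
  ⟨[20, 18, 14, 4, 23, 5], [14, 12, 8, 4, 16, 5], [([1, 1, 1, 2, 0, 3, 0, 2, 1, 2, 0, 2], [1, 1, 1, 2, 0, 3, 0, 2, 1, 2, 0, 2]), ([0, 2, 1, 2, 0, 3, 0, 2, 1, 3, 0, 3], [0, 2, 1, 2, 0, 3, 0, 2, 1, 3, 0, 3]), ([1, 1, 2, 1, 1, 3, 1, 2, 1, 1, 3, 0], [1, 1, 2, 1, 1, 3, 1, 2, 1, 1, 3, 0]), ([4], [4]), ([0, 2, 0, 2, 1, 2, 1, 3, 1, 1, 3], [2, 0, 0, 2, 0, 3, 0, 3, 1, 3, 1]), ([5], [5])]⟩,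
  ⟨[21, 18, 14, 4, 23, 5], [14, 12, 8, 4, 16, 5], [([1, 1, 1, 2, 0, 3, 0, 2, 1, 2, 0, 2], [3, 1, 3, 0, 3, 1, 2, 1, 3, 0, 0, 0]), ([0, 2, 1, 2, 0, 3, 0, 2, 1, 3, 0, 3], [0, 2, 1, 2, 0, 3, 0, 2, 1, 3, 0, 3]), ([1, 1, 2, 1, 1, 3, 1, 2, 1, 1, 3, 0], [1, 1, 2, 1, 1, 3, 1, 2, 1, 1, 3, 0]), ([4], [4]), ([0, 2, 0, 2, 1, 2, 1, 3, 1, 1, 3], [2, 0, 0, 2, 0, 3, 0, 3, 1, 3, 1]), ([5], [5])]⟩,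
  ⟨[8, 20, 14, 5, 37, 4], [0, 14, 8, 5, 2, 2, 0, 2, 8, 12, 2, 4], [([0, 3, 0, 3, 0, 3, 1, 3, 0, 2], [0, 3, 0, 3, 0, 3, 1, 3, 0, 2]), ([1, 1, 1, 2, 0, 3, 0, 2, 1, 2, 0, 2], [1, 1, 1, 2, 0, 3, 0, 2, 1, 2, 0, 2]), ([1, 1, 2, 1, 1, 3, 1, 2, 1, 1, 3, 0], [1, 1, 2, 1, 1, 3, 1, 2, 1, 1, 3, 0]), ([5], [5]), ([1, 3, 1, 1, 1, 2, 1, 2, 1, 3, 1, 1, 1, 2, 1, 2, 0, 3, 0, 3, 0, 3, 1, 3, 0, 2, 1, 3, 1, 1, 1, 2, 1, 2, 1, 1, 2, 1, 1, 3, 1, 2, 1, 1, 3, 0, 0, 2, 1, 2, 0, 3, 0, 2, 1, 3, 0, 3, 1, 3, 1, 1, 1, 2, 1, 2], [2, 0, 0, 0, 3, 0, 3, 1, 2, 0, 3, 0]), ([4], [4])]⟩,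
  ⟨[9, 20, 14, 5, 37, 4], [0, 14, 8, 5, 2, 2, 0, 2, 8, 12, 2, 4], [([0, 3, 0, 3, 0, 3, 1, 3, 0, 2], [3, 1, 2, 0, 2, 1, 2, 1, 2, 1]), ([1, 1, 1, 2, 0, 3, 0, 2, 1, 2, 0, 2], [1, 1, 1, 2, 0, 3, 0, 2, 1, 2, 0, 2]), ([1, 1, 2, 1, 1, 3, 1, 2, 1, 1, 3, 0], [1, 1, 2, 1, 1, 3, 1, 2, 1, 1, 3, 0]), ([5], [5]), ([1, 3, 1, 1, 1, 2, 1, 2, 1, 3, 1, 1, 1, 2, 1, 2, 0, 3, 0, 3, 0, 3, 1, 3, 0, 2, 1, 3, 1, 1, 1, 2, 1, 2, 1, 1, 2, 1, 1, 3, 1, 2, 1, 1, 3, 0, 0, 2, 1, 2, 0, 3, 0, 2, 1, 3, 0, 3, 1, 3, 1, 1, 1, 2, 1, 2], [2, 0, 0, 0, 3, 0, 3, 1, 2, 0, 3, 0]), ([4], [4])]⟩,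
  ⟨[18, 20, 14, 4, 23, 5], [12, 14, 8, 4, 16, 5], [([0, 2, 1, 2, 0, 3, 0, 2, 1, 3, 0, 3], [0, 2, 1, 2, 0, 3, 0, 2, 1, 3, 0, 3]), ([1, 1, 1, 2, 0, 3, 0, 2, 1, 2, 0, 2], [1, 1, 1, 2, 0, 3, 0, 2, 1, 2, 0, 2]), ([1, 1, 2, 1, 1, 3, 1, 2, 1, 1, 3, 0], [1, 1, 2, 1, 1, 3, 1, 2, 1, 1, 3, 0]), ([4], [4]), ([0, 2, 0, 2, 1, 2, 1, 3, 1, 1, 3], [2, 0, 0, 2, 0, 3, 0, 3, 1, 3, 1]), ([5], [5])]⟩,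
  ⟨[19, 20, 14, 4, 23, 5], [12, 14, 8, 4, 16, 5], [([0, 2, 1, 2, 0, 3, 0, 2, 1, 3, 0, 3], [2, 1, 2, 0, 3, 1, 2, 1, 3, 0, 3, 1]), ([1, 1, 1, 2, 0, 3, 0, 2, 1, 2, 0, 2], [1, 1, 1, 2, 0, 3, 0, 2, 1, 2, 0, 2]), ([1, 1, 2, 1, 1, 3, 1, 2, 1, 1, 3, 0], [1, 1, 2, 1, 1, 3, 1, 2, 1, 1, 3, 0]), ([4], [4]), ([0, 2, 0, 2, 1, 2, 1, 3, 1, 1, 3], [2, 0, 0, 2, 0, 3, 0, 3, 1, 3, 1]), ([5], [5])]⟩,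
  ⟨[4, 22, 14, 5, 15, 19], [4, 16, 8, 5, 8, 12], [([4], [4]), ([0, 2, 0, 2, 1, 2, 1, 3, 1, 1, 3], [0, 2, 0, 2, 1, 2, 1, 3, 1, 1, 3]), ([1, 1, 2, 1, 1, 3, 1, 2, 1, 1, 3, 0], [1, 1, 2, 1, 1, 3, 1, 2, 1, 1, 3, 0]), ([5], [5]), ([1, 1, 2, 1, 1, 3, 1, 2, 1, 1, 3, 0], [1, 2, 0, 0, 3, 0, 2, 0, 0, 3, 0, 0]), ([0, 2, 1, 2, 0, 3, 0, 2, 1, 3, 0, 3], [2, 1, 2, 0, 3, 1, 2, 1, 3, 0, 3, 1])]⟩,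
  ⟨[5, 26, 14, 4, 17, 23], [5, 8, 10, 12, 8, 4, 10, 16], [([5], [5]), ([1, 1, 2, 1, 1, 3, 1, 2, 1, 1, 3, 0, 1, 2, 1, 1, 2, 0, 0, 3, 0, 2, 0, 2, 1, 2, 0, 3, 0, 2, 1, 3, 0, 3], [2, 0, 0, 0, 3, 1, 2, 0, 2, 1, 1, 2]), ([1, 1, 2, 1, 1, 3, 1, 2, 1, 1, 3, 0], [1, 1, 2, 1, 1, 3, 1, 2, 1, 1, 3, 0]), ([4], [4]), ([1, 2, 1, 1, 2, 0, 0, 3, 0, 2], [3, 1, 2, 1, 1, 3, 0, 0, 3, 0]), ([0, 2, 0, 2, 1, 2, 1, 3, 1, 1, 3], [2, 0, 0, 2, 0, 3, 0, 3, 1, 3, 1])]⟩,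
  ⟨[4, 40, 14, 5, 27, 51], [4, 2, 8, 10, 3, 8, 5, 8, 10, 12, 0, 6, 12, 16, 0], [([4], [4]), ([1, 3, 1, 1, 1, 2, 1, 2, 1, 1, 2, 1, 1, 3, 1, 2, 1, 1, 3, 0, 1, 2, 1, 1, 2, 0, 0, 3, 0, 2, 3, 0, 3, 0, 0, 0, 2, 0], [2, 1, 1, 1, 3, 1, 2, 1, 1, 1, 2]), ([1, 1, 2, 1, 1, 3, 1, 2, 1, 1, 3, 0], [1, 1, 2, 1, 1, 3, 1, 2, 1, 1, 3, 0]), ([5], [5]), ([1, 1, 2, 1, 1, 3, 1, 2, 1, 1, 3, 0, 1, 2, 1, 1, 2, 0, 0, 3, 0, 2, 0, 2, 1, 2, 0, 3, 0, 2, 1, 3, 0, 3], [3, 0, 0, 3, 1, 3, 0, 2, 1, 1, 1, 3]), ([0, 3, 0, 3, 0, 3, 1, 3, 0, 2, 0, 0, 2, 0, 3, 0, 2, 0, 0, 2, 0, 3, 0, 2, 0, 2, 1, 2, 0, 3, 0, 2, 1, 3, 0, 3, 0, 2, 0, 2, 1, 2, 1, 3, 1, 1, 3, 0, 3, 0, 3, 0, 3, 1, 3, 0, 2], [1, 3,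 1, 2, 1, 2, 1, 2, 1, 1, 3, 0, 0])]⟩,
  ⟨[5, 22, 16, 4, 21, 41], [5, 16, 10, 4, 14, 2, 8, 10, 3], [([5], [5]), ([0, 2, 0, 2, 1, 2, 1, 3, 1, 1, 3], [0, 2, 0, 2, 1, 2, 1, 3, 1, 1, 3]), ([1, 2, 1, 1, 2, 0, 0, 3, 0, 2], [1, 2, 1, 1, 2, 0, 0, 3, 0, 2]), ([4], [4]), ([1, 1, 1, 2, 0, 3, 0, 2, 1, 2, 0, 2], [3, 1, 3, 0, 3, 1, 2, 1, 3, 0, 0, 0]), ([1, 3, 1, 1, 1, 2, 1, 2, 1, 1, 2, 1, 1, 3, 1, 2, 1, 1, 3, 0, 1, 2, 1, 1, 2, 0, 0, 3, 0, 2, 3, 0, 3, 0, 0, 0, 2, 0], [3, 0, 0, 0, 3, 0, 2, 0, 0, 0, 3])]⟩,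
  ⟨[4, 40, 16, 5, 19, 51], [4, 2, 8, 10, 3, 10, 5, 12, 0, 6, 12, 16, 0], [([4], [4]), ([1, 3, 1, 1, 1, 2, 1, 2, 1, 1, 2, 1, 1, 3, 1, 2, 1, 1, 3, 0, 1, 2, 1, 1, 2, 0, 0, 3, 0, 2, 3, 0, 3, 0, 0, 0, 2, 0], [2, 1, 1, 1, 3, 1, 2, 1, 1, 1, 2]), ([1, 2, 1, 1, 2, 0, 0, 3, 0, 2], [1, 2, 1, 1, 2, 0, 0, 3, 0, 2]), ([5], [5]), ([0, 2, 1, 2, 0, 3, 0, 2, 1, 3, 0, 3], [2, 1, 2, 0, 3, 1, 2, 1, 3, 0, 3, 1]), ([0, 3, 0, 3, 0, 3, 1, 3, 0, 2, 0, 0, 2, 0, 3, 0, 2, 0, 0, 2, 0, 3, 0, 2, 0, 2, 1, 2, 0, 3, 0, 2, 1, 3, 0, 3, 0, 2, 0, 2, 1, 2, 1, 3, 1, 1, 3, 0, 3, 0, 3, 0, 3, 1, 3, 0, 2], [1, 3, 1, 2, 1, 2, 1, 2, 1, 1, 3, 0, 0])]⟩,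
  ⟨[5, 50, 16, 4, 23, 41], [5, 0, 6, 12, 16, 0, 10, 4, 16, 2, 8, 10, 3], [([5], [5]), ([0, 3, 0, 3, 0, 3, 1, 3, 0, 2, 0, 0, 2, 0, 3, 0, 2, 0, 0, 2, 0, 3, 0, 2, 0, 2, 1, 2, 0, 3, 0, 2, 1, 3, 0, 3, 0, 2, 0, 2, 1, 2, 1, 3, 1, 1, 3, 0, 3, 0, 3, 0, 3, 1, 3, 0, 2], [1, 1, 2, 0, 0, 3, 0, 3, 0, 3, 0, 2, 0]), ([1, 2, 1, 1, 2, 0, 0, 3, 0, 2], [1, 2, 1, 1, 2, 0, 0, 3, 0, 2]), ([4], [4]), ([0, 2, 0, 2, 1, 2, 1, 3, 1, 1, 3], [2, 0, 0, 2, 0, 3, 0, 3, 1, 3, 1]), ([1, 3, 1, 1, 1, 2, 1, 2, 1, 1, 2, 1, 1, 3, 1, 2, 1, 1, 3, 0, 1, 2, 1, 1, 2, 0, 0, 3, 0, 2, 3, 0, 3, 0, 0, 0, 2, 0], [3, 0, 0, 0, 3, 0, 2, 0, 0, 0, 3])]⟩,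
  ⟨[14, 4, 18, 5, 17, 41], [8, 4, 12, 5, 10, 2, 8, 10, 3], [([1, 1, 2, 1, 1, 3, 1, 2, 1, 1, 3, 0], [1, 1, 2, 1, 1, 3, 1, 2, 1, 1, 3, 0]), ([4], [4]), ([0, 2, 1, 2, 0, 3, 0, 2, 1, 3, 0, 3], [0, 2, 1, 2, 0, 3, 0, 2, 1, 3, 0, 3]), ([5], [5]), ([1, 2, 1, 1, 2, 0, 0, 3, 0, 2], [3, 1, 2, 1, 1, 3, 0, 0, 3, 0]), ([1, 3, 1, 1, 1, 2, 1, 2, 1, 1, 2, 1, 1, 3, 1, 2, 1, 1, 3, 0, 1, 2, 1, 1, 2, 0, 0, 3, 0, 2, 3, 0, 3, 0, 0, 0, 2, 0], [3, 0, 0, 0, 3, 0, 2, 0, 0, 0, 3])]⟩,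
  ⟨[15, 4, 18, 5, 17, 41], [8, 4, 12, 5, 10, 2, 8, 10, 3], [([1, 1, 2, 1, 1, 3, 1, 2, 1, 1, 3, 0], [1, 2, 0, 0, 3, 0, 2, 0, 0, 3, 0, 0]), ([4], [4]), ([0, 2, 1, 2, 0, 3, 0, 2, 1, 3, 0, 3], [0, 2, 1, 2, 0, 3, 0, 2, 1, 3, 0, 3]), ([5], [5]), ([1, 2, 1, 1, 2, 0, 0, 3, 0, 2], [3, 1, 2, 1, 1, 3, 0, 0, 3, 0]), ([1, 3, 1, 1, 1, 2, 1, 2, 1, 1, 2, 1, 1, 3, 1, 2, 1, 1, 3, 0, 1, 2, 1, 1, 2, 0, 0, 3, 0, 2, 3, 0, 3, 0, 0, 0, 2, 0], [3, 0, 0, 0, 3, 0, 2, 0, 0, 0, 3])]⟩,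
  ⟨[16, 4, 18, 5, 15, 41], [10, 4, 12, 5, 8, 2, 8, 10, 3], [([1, 2, 1, 1, 2, 0, 0, 3, 0, 2], [1, 2, 1, 1, 2, 0, 0, 3, 0, 2]), ([4], [4]), ([0, 2, 1, 2, 0, 3, 0, 2, 1, 3, 0, 3], [0, 2, 1, 2, 0, 3, 0, 2, 1, 3, 0, 3]), ([5], [5]), ([1, 1, 2, 1, 1, 3, 1, 2, 1, 1, 3, 0], [1, 2, 0, 0, 3, 0, 2, 0, 0, 3, 0, 0]), ([1, 3, 1, 1, 1, 2, 1, 2, 1, 1, 2, 1, 1, 3, 1, 2, 1, 1, 3, 0, 1, 2, 1, 1, 2, 0, 0, 3, 0, 2, 3, 0, 3, 0, 0, 0, 2, 0], [3, 0, 0, 0, 3, 0, 2, 0, 0, 0, 3])]⟩,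
  ⟨[17, 4, 18, 5, 15, 41], [10, 4, 12, 5, 8, 2, 8, 10, 3], [([1, 2, 1, 1, 2, 0, 0, 3, 0, 2], [3, 1, 2, 1, 1, 3, 0, 0, 3, 0]), ([4], [4]), ([0, 2, 1, 2, 0, 3, 0, 2, 1, 3, 0, 3], [0, 2, 1, 2, 0, 3, 0, 2, 1, 3, 0, 3]), ([5], [5]), ([1, 1, 2, 1, 1, 3, 1, 2, 1, 1, 3, 0], [1, 2, 0, 0, 3, 0, 2, 0, 0, 3, 0, 0]), ([1, 3, 1, 1, 1, 2, 1, 2, 1, 1, 2, 1, 1, 3, 1, 2, 1, 1, 3, 0, 1, 2, 1, 1, 2, 0, 0, 3, 0, 2, 3, 0, 3, 0, 0, 0, 2, 0], [3, 0, 0, 0, 3, 0, 2, 0, 0, 0, 3])]⟩,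
  ⟨[18, 4, 18, 5, 27, 41], [12, 4, 12, 5, 8, 10, 12, 2, 8, 10, 3], [([0, 2, 1, 2, 0, 3, 0, 2, 1, 3, 0, 3], [0, 2, 1, 2, 0, 3, 0, 2, 1, 3, 0, 3]), ([4], [4]), ([0, 2, 1, 2, 0, 3, 0, 2, 1, 3, 0, 3], [0, 2, 1, 2, 0, 3, 0, 2, 1, 3, 0, 3]), ([5], [5]), ([1, 1, 2, 1, 1, 3, 1, 2, 1, 1, 3, 0, 1, 2, 1, 1, 2, 0, 0, 3, 0, 2, 0, 2, 1, 2, 0, 3, 0, 2, 1, 3, 0, 3], [3, 0, 0, 3, 1, 3, 0, 2, 1, 1, 1, 3]), ([1, 3, 1, 1, 1, 2, 1, 2, 1, 1, 2, 1, 1, 3, 1, 2, 1, 1, 3, 0, 1, 2, 1, 1, 2, 0, 0, 3, 0, 2, 3, 0, 3, 0, 0, 0, 2, 0], [3, 0, 0, 0, 3, 0, 2, 0, 0, 0, 3])]⟩,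
  ⟨[19, 4, 18, 5, 27, 41], [12, 4, 12, 5, 8, 10, 12, 2, 8, 10, 3], [([0, 2, 1, 2, 0, 3, 0, 2, 1, 3, 0, 3], [2, 1, 2, 0, 3, 1, 2, 1, 3, 0, 3, 1]), ([4], [4]), ([0, 2, 1, 2, 0, 3, 0, 2, 1, 3, 0, 3], [0, 2, 1, 2, 0, 3, 0, 2, 1, 3, 0, 3]), ([5], [5]), ([1, 1, 2, 1, 1, 3, 1, 2, 1, 1, 3, 0, 1, 2, 1, 1, 2, 0, 0, 3, 0, 2, 0, 2, 1, 2, 0, 3, 0, 2, 1, 3, 0, 3], [3, 0, 0, 3, 1, 3, 0, 2, 1, 1, 1, 3]), ([1, 3, 1, 1, 1, 2, 1, 2, 1, 1, 2, 1, 1, 3, 1, 2, 1, 1, 3, 0, 1, 2, 1, 1, 2, 0, 0, 3, 0, 2, 3, 0, 3, 0, 0, 0, 2, 0], [3, 0, 0, 0, 3, 0, 2, 0, 0, 0, 3])]⟩,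
  ⟨[26, 4, 18, 41, 5], [8, 10, 12, 4, 12, 2, 8, 10, 3, 5], [([1, 1, 2, 1, 1, 3, 1, 2, 1, 1, 3, 0, 1, 2, 1, 1, 2, 0, 0, 3, 0, 2, 0, 2, 1, 2, 0, 3, 0, 2, 1, 3, 0, 3], [2, 0, 0, 0, 3, 1, 2, 0, 2, 1, 1, 2]), ([4], [4]), ([0, 2, 1, 2, 0, 3, 0, 2, 1, 3, 0, 3], [0, 2, 1, 2, 0, 3, 0, 2, 1, 3, 0, 3]), ([1, 3, 1, 1, 1, 2, 1, 2, 1, 1, 2, 1, 1, 3, 1, 2, 1, 1, 3, 0, 1, 2, 1, 1, 2, 0, 0, 3, 0, 2, 3, 0, 3, 0, 0, 0, 2, 0], [3, 0, 0, 0, 3, 0, 2, 0, 0, 0, 3]), ([5], [5])]⟩,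
  ⟨[27, 4, 18, 41, 5], [8, 10, 12, 4, 12, 2, 8, 10, 3, 5], [([1, 1, 2, 1, 1, 3, 1, 2, 1, 1, 3, 0, 1, 2, 1, 1, 2, 0, 0, 3, 0, 2, 0, 2, 1, 2, 0, 3, 0, 2, 1, 3, 0, 3], [3, 0, 0, 3, 1, 3, 0, 2, 1, 1, 1, 3]), ([4], [4]), ([0, 2, 1, 2, 0, 3, 0, 2, 1, 3, 0, 3], [0, 2, 1, 2, 0, 3, 0, 2, 1, 3, 0, 3]), ([1, 3, 1, 1, 1, 2, 1, 2, 1, 1, 2, 1, 1, 3, 1, 2, 1, 1, 3, 0, 1, 2, 1, 1, 2, 0, 0, 3, 0, 2, 3, 0, 3, 0, 0, 0, 2, 0], [3, 0, 0, 0, 3, 0, 2, 0, 0, 0, 3]), ([5], [5])]⟩,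
  ⟨[12, 5, 18, 4, 17, 23], [6, 5, 12, 4, 10, 16], [([0, 0, 2, 0, 3, 0, 2, 0, 0, 2, 0, 3, 0, 2], [0, 0, 2, 0, 3, 0, 2, 0, 0, 2, 0, 3, 0, 2]), ([5], [5]), ([0, 2, 1, 2, 0, 3, 0, 2, 1, 3, 0, 3], [0, 2, 1, 2, 0, 3, 0, 2, 1, 3, 0, 3]), ([4], [4]), ([1, 2, 1, 1, 2, 0, 0, 3, 0, 2], [3, 1, 2, 1, 1, 3, 0, 0, 3, 0]), ([0, 2, 0, 2, 1, 2, 1, 3, 1, 1, 3], [2, 0, 0, 2, 0, 3, 0, 3, 1, 3, 1])]⟩,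
  ⟨[13, 5, 18, 4, 17, 23], [6, 5, 12, 4, 10, 16], [([0, 0, 2, 0, 3, 0, 2, 0, 0, 2, 0, 3, 0, 2], [3, 1, 2, 1, 3, 1, 1, 3, 1, 2, 1, 3, 1, 1]), ([5], [5]), ([0, 2, 1, 2, 0, 3, 0, 2, 1, 3, 0, 3], [0, 2, 1, 2, 0, 3, 0, 2, 1, 3, 0, 3]), ([4], [4]), ([1, 2, 1, 1, 2, 0, 0, 3, 0, 2], [3, 1, 2, 1, 1, 3, 0, 0, 3, 0]), ([0, 2, 0, 2, 1, 2, 1, 3, 1, 1, 3], [2, 0, 0, 2, 0, 3, 0, 3, 1, 3, 1])]⟩,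
  ⟨[16, 5, 18, 4, 13, 23], [10, 5, 12, 4, 6, 16], [([1, 2, 1, 1, 2, 0, 0, 3, 0, 2], [1, 2, 1, 1, 2, 0, 0, 3, 0, 2]), ([5], [5]), ([0, 2, 1, 2, 0, 3, 0, 2, 1, 3, 0, 3], [0, 2, 1, 2, 0, 3, 0, 2, 1, 3, 0, 3]), ([4], [4]), ([0, 0, 2, 0, 3, 0, 2, 0, 0, 2, 0, 3, 0, 2], [3, 1, 2, 1, 3, 1, 1, 3, 1, 2, 1, 3, 1, 1]), ([0, 2, 0, 2, 1, 2, 1, 3, 1, 1, 3], [2, 0, 0, 2, 0, 3, 0, 3, 1, 3, 1])]⟩,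
  ⟨[17, 5, 18, 4, 13, 23], [10, 5, 12, 4, 6, 16], [([1, 2, 1, 1, 2, 0, 0, 3, 0, 2], [3, 1, 2, 1, 1, 3, 0, 0, 3, 0]), ([5], [5]), ([0, 2, 1, 2, 0, 3, 0, 2, 1, 3, 0, 3], [0, 2, 1, 2, 0, 3, 0, 2, 1, 3, 0, 3]), ([4], [4]), ([0, 0, 2, 0, 3, 0, 2, 0, 0, 2, 0, 3, 0, 2], [3, 1, 2, 1, 3, 1, 1, 3, 1, 2, 1, 3, 1, 1]), ([0, 2, 0, 2, 1, 2, 1, 3, 1, 1, 3], [2, 0, 0, 2, 0, 3, 0, 3, 1, 3, 1])]⟩,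
  ⟨[18, 5, 18, 5, 19, 5], [12, 5, 12, 5, 12, 5], [([0, 2, 1, 2, 0, 3, 0, 2, 1, 3, 0, 3], [0, 2, 1, 2, 0, 3, 0, 2, 1, 3, 0, 3]), ([5], [5]), ([0, 2, 1, 2, 0, 3, 0, 2, 1, 3, 0, 3], [0, 2, 1, 2, 0, 3, 0, 2, 1, 3, 0, 3]), ([5], [5]), ([0, 2, 1, 2, 0, 3, 0, 2, 1, 3, 0, 3], [2, 1, 2, 0, 3, 1, 2, 1, 3, 0, 3, 1]), ([5], [5])]⟩,
  ⟨[19, 5, 18, 5, 19, 5], [12, 5, 12, 5, 12, 5], [([0, 2, 1, 2, 0, 3, 0, 2, 1, 3, 0, 3], [2, 1, 2, 0, 3, 1, 2, 1, 3, 0, 3, 1]), ([5], [5]), ([0, 2, 1, 2, 0, 3, 0, 2, 1, 3, 0, 3], [0, 2, 1, 2, 0, 3, 0, 2, 1, 3, 0, 3]), ([5], [5]), ([0, 2, 1, 2, 0, 3, 0, 2, 1, 3, 0, 3], [2, 1, 2, 0, 3, 1, 2, 1, 3, 0, 3, 1]), ([5], [5])]⟩,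
  ⟨[20, 5, 18, 4, 19, 51], [14, 5, 12, 4, 12, 0, 6, 12, 16, 0], [([1, 1, 1, 2, 0, 3, 0, 2, 1, 2, 0, 2], [1, 1, 1, 2, 0, 3, 0, 2, 1, 2, 0, 2]), ([5], [5]), ([0, 2, 1, 2, 0, 3, 0, 2, 1, 3, 0, 3], [0, 2, 1, 2, 0, 3, 0, 2, 1, 3, 0, 3]), ([4], [4]), ([0, 2, 1, 2, 0, 3, 0, 2, 1, 3, 0, 3], [2, 1, 2, 0, 3, 1, 2, 1, 3, 0, 3, 1]), ([0, 3, 0, 3, 0, 3, 1, 3, 0, 2, 0, 0, 2, 0, 3, 0, 2, 0, 0, 2, 0, 3, 0, 2, 0, 2, 1, 2, 0, 3, 0, 2, 1, 3, 0, 3, 0, 2, 0, 2, 1, 2, 1, 3, 1, 1, 3, 0, 3, 0, 3, 0, 3, 1, 3, 0, 2], [1, 3, 1, 2, 1, 2, 1, 2, 1, 1, 3, 0, 0])]⟩,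
  ⟨[21, 5, 18, 4, 19, 51], [14, 5, 12, 4, 12, 0, 6, 12, 16, 0], [([1, 1, 1, 2, 0, 3, 0, 2, 1, 2, 0, 2], [3, 1, 3, 0, 3, 1, 2, 1, 3, 0, 0, 0]), ([5], [5]), ([0, 2, 1, 2, 0, 3, 0, 2, 1, 3, 0, 3], [0, 2, 1, 2, 0, 3, 0, 2, 1, 3, 0, 3]), ([4], [4]), ([0, 2, 1, 2, 0, 3, 0, 2, 1, 3, 0, 3], [2, 1, 2, 0, 3, 1, 2, 1, 3, 0, 3, 1]), ([0, 3, 0, 3, 0, 3, 1, 3, 0, 2, 0, 0, 2, 0, 3, 0, 2, 0, 0, 2, 0, 3, 0, 2, 0, 2, 1, 2, 0, 3, 0, 2, 1, 3, 0, 3, 0, 2, 0, 2, 1, 2, 1, 3, 1, 1, 3, 0, 3, 0, 3, 0, 3, 1, 3, 0, 2], [1, 3, 1, 2, 1, 2, 1, 2, 1, 1, 3, 0, 0])]⟩,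
  ⟨[22, 5, 18, 4, 13, 17], [16, 5, 12, 4, 6, 10], [([0, 2, 0, 2, 1, 2, 1, 3, 1, 1, 3], [0, 2, 0, 2, 1, 2, 1, 3, 1, 1, 3]), ([5], [5]), ([0, 2, 1, 2, 0, 3, 0, 2, 1, 3, 0, 3], [0, 2, 1, 2, 0, 3, 0, 2, 1, 3, 0, 3]), ([4], [4]), ([0, 0, 2, 0, 3, 0, 2, 0, 0, 2, 0, 3, 0, 2], [3, 1, 2, 1, 3, 1, 1, 3, 1, 2, 1, 3, 1, 1]), ([1, 2, 1, 1, 2, 0, 0, 3, 0, 2], [3, 1, 2, 1, 1, 3, 0, 0, 3, 0])]⟩,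
  ⟨[23, 5, 18, 4, 13, 17], [16, 5, 12, 4, 6, 10], [([0, 2, 0, 2, 1, 2, 1, 3, 1, 1, 3], [2, 0, 0, 2, 0, 3, 0, 3, 1, 3, 1]), ([5], [5]), ([0, 2, 1, 2, 0, 3, 0, 2, 1, 3, 0, 3], [0, 2, 1, 2, 0, 3, 0, 2, 1, 3, 0, 3]), ([4], [4]), ([0, 0, 2, 0, 3, 0, 2, 0, 0, 2, 0, 3, 0, 2], [3, 1, 2, 1, 3, 1, 1, 3, 1, 2, 1, 3, 1, 1]), ([1, 2, 1, 1, 2, 0, 0, 3, 0, 2], [3, 1, 2, 1, 1, 3, 0, 0, 3, 0])]⟩,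
  ⟨[50, 5, 18, 4, 19, 21], [0, 6, 12, 16, 0, 5, 12, 4, 12, 14], [([0, 3, 0, 3, 0, 3, 1, 3, 0, 2, 0, 0, 2, 0, 3, 0, 2, 0, 0, 2, 0, 3, 0, 2, 0, 2, 1, 2, 0, 3, 0, 2, 1, 3, 0, 3, 0, 2, 0, 2, 1, 2, 1, 3, 1, 1, 3, 0, 3, 0, 3, 0, 3, 1, 3, 0, 2], [1, 1, 2, 0, 0, 3, 0, 3, 0, 3, 0, 2, 0]), ([5], [5]), ([0, 2, 1, 2, 0, 3, 0, 2, 1, 3, 0, 3], [0, 2, 1, 2, 0, 3, 0, 2, 1, 3, 0, 3]), ([4], [4]), ([0, 2, 1, 2, 0, 3, 0, 2, 1, 3, 0, 3], [2, 1, 2, 0, 3, 1, 2, 1, 3, 0, 3, 1]), ([1, 1, 1, 2, 0, 3, 0, 2, 1, 2, 0, 2], [3, 1, 3, 0, 3, 1, 2, 1, 3, 0, 0, 0])]⟩,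
  ⟨[51, 5, 18, 4, 19, 21], [0, 6, 12, 16, 0, 5, 12, 4, 12, 14], [([0, 3, 0, 3, 0, 3, 1, 3, 0, 2, 0, 0, 2, 0, 3, 0, 2, 0, 0, 2, 0, 3, 0, 2, 0, 2, 1, 2, 0, 3, 0, 2, 1, 3, 0, 3, 0, 2, 0, 2, 1, 2, 1, 3, 1, 1, 3, 0, 3, 0, 3, 0, 3, 1, 3, 0, 2], [1, 3, 1, 2, 1, 2, 1, 2, 1, 1, 3, 0, 0]), ([5], [5]), ([0, 2, 1, 2, 0, 3, 0, 2, 1, 3, 0, 3], [0, 2, 1, 2, 0, 3, 0, 2, 1, 3, 0, 3]), ([4], [4]), ([0, 2, 1, 2, 0, 3, 0, 2, 1, 3, 0, 3], [2, 1, 2, 0, 3, 1, 2, 1, 3, 0, 3, 1]), ([1, 1, 1, 2, 0, 3, 0, 2, 1, 2, 0, 2], [3, 1, 3, 0, 3, 1, 2, 1, 3, 0, 0, 0])]⟩,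
  ⟨[14, 20, 18, 4, 23, 5], [8, 14, 12, 4, 16, 5], [([1, 1, 2, 1, 1, 3, 1, 2, 1, 1, 3, 0], [1, 1, 2, 1, 1, 3, 1, 2, 1, 1, 3, 0]), ([1, 1, 1, 2, 0, 3, 0, 2, 1, 2, 0, 2], [1, 1, 1, 2, 0, 3, 0, 2, 1, 2, 0, 2]), ([0, 2, 1, 2, 0, 3, 0, 2, 1, 3, 0, 3], [0, 2, 1, 2, 0, 3, 0, 2, 1, 3, 0, 3]), ([4], [4]), ([0, 2, 0, 2, 1, 2, 1, 3, 1, 1, 3], [2, 0, 0, 2, 0, 3, 0, 3, 1, 3, 1]), ([5], [5])]⟩,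
  ⟨[15, 20, 18, 4, 23, 5], [8, 14, 12, 4, 16, 5], [([1, 1, 2, 1, 1, 3, 1, 2, 1, 1, 3, 0], [1, 2, 0, 0, 3, 0, 2, 0, 0, 3, 0, 0]), ([1, 1, 1, 2, 0, 3, 0, 2, 1, 2, 0, 2], [1, 1, 1, 2, 0, 3, 0, 2, 1, 2, 0, 2]), ([0, 2, 1, 2, 0, 3, 0, 2, 1, 3, 0, 3], [0, 2, 1, 2, 0, 3, 0, 2, 1, 3, 0, 3]), ([4], [4]), ([0, 2, 0, 2, 1, 2, 1, 3, 1, 1, 3], [2, 0, 0, 2, 0, 3, 0, 3, 1, 3, 1]), ([5], [5])]⟩,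
  ⟨[4, 22, 20, 5, 23, 51], [4, 16, 14, 5, 16, 0, 6, 12, 16, 0], [([4], [4]), ([0, 2, 0, 2, 1, 2, 1, 3, 1, 1, 3], [0, 2, 0, 2, 1, 2, 1, 3, 1, 1, 3]), ([1, 1, 1, 2, 0, 3, 0, 2, 1, 2, 0, 2], [1, 1, 1, 2, 0, 3, 0, 2, 1, 2, 0, 2]), ([5], [5]), ([0, 2, 0, 2, 1, 2, 1, 3, 1, 1, 3], [2, 0, 0, 2, 0, 3, 0, 3, 1, 3, 1]), ([0, 3, 0, 3, 0, 3, 1, 3, 0, 2, 0, 0, 2, 0, 3, 0, 2, 0, 0, 2, 0, 3, 0, 2, 0, 2, 1, 2, 0, 3, 0, 2, 1, 3, 0, 3, 0, 2, 0, 2, 1, 2, 1, 3, 1, 1, 3, 0, 3, 0, 3, 0, 3, 1, 3, 0, 2], [1, 3, 1, 2, 1, 2, 1, 2, 1, 1, 3, 0, 0])]⟩,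
  ⟨[4, 50, 20, 5, 27, 41], [4, 0, 6, 12, 16, 0, 14, 5, 8, 10, 12, 2, 8, 10, 3], [([4], [4]), ([0, 3, 0, 3, 0, 3, 1, 3, 0, 2, 0, 0, 2, 0, 3, 0, 2, 0, 0, 2, 0, 3, 0, 2, 0, 2, 1, 2, 0, 3, 0, 2, 1, 3, 0, 3, 0, 2, 0, 2, 1, 2, 1, 3, 1, 1, 3, 0, 3, 0, 3, 0, 3, 1, 3, 0, 2], [1, 1, 2, 0, 0, 3, 0, 3, 0, 3, 0, 2, 0]), ([1, 1, 1, 2, 0, 3, 0, 2, 1, 2, 0, 2], [1, 1, 1, 2, 0, 3, 0, 2, 1, 2, 0, 2]), ([5], [5]), ([1, 1, 2, 1, 1, 3, 1, 2, 1, 1, 3, 0, 1, 2, 1, 1, 2, 0, 0, 3, 0, 2, 0, 2, 1, 2, 0, 3, 0, 2, 1, 3, 0, 3], [3, 0, 0, 3, 1, 3, 0, 2, 1, 1, 1, 3]), ([1, 3, 1, 1, 1, 2, 1, 2, 1, 1, 2, 1, 1, 3, 1, 2, 1, 1, 3, 0, 1, 2, 1, 1, 2, 0, 0, 3, 0, 2, 3, 0, 3, 0, 0, 0, 2, 0],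 [3, 0, 0, 0, 3, 0, 2, 0, 0, 0, 3])]⟩,
  ⟨[12, 5, 22, 4, 21, 41], [6, 5, 16, 4, 14, 2, 8, 10, 3], [([0, 0, 2, 0, 3, 0, 2, 0, 0, 2, 0, 3, 0, 2], [0, 0, 2, 0, 3, 0, 2, 0, 0, 2, 0, 3, 0, 2]), ([5], [5]), ([0, 2, 0, 2, 1, 2, 1, 3, 1, 1, 3], [0, 2, 0, 2, 1, 2, 1, 3, 1, 1, 3]), ([4], [4]), ([1, 1, 1, 2, 0, 3, 0, 2, 1, 2, 0, 2], [3, 1, 3, 0, 3, 1, 2, 1, 3, 0, 0, 0]), ([1, 3, 1, 1, 1, 2, 1, 2, 1, 1, 2, 1, 1, 3, 1, 2, 1, 1, 3, 0, 1, 2, 1, 1, 2, 0, 0, 3, 0, 2, 3, 0, 3, 0, 0, 0, 2, 0], [3, 0, 0, 0, 3, 0, 2, 0, 0, 0, 3])]⟩,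
  ⟨[13, 5, 22, 4, 21, 41], [6, 5, 16, 4, 14, 2, 8, 10, 3], [([0, 0, 2, 0, 3, 0, 2, 0, 0, 2, 0, 3, 0, 2], [3, 1, 2, 1, 3, 1, 1, 3, 1, 2, 1, 3, 1, 1]), ([5], [5]), ([0, 2, 0, 2, 1, 2, 1, 3, 1, 1, 3], [0, 2, 0, 2, 1, 2, 1, 3, 1, 1, 3]), ([4], [4]), ([1, 1, 1, 2, 0, 3, 0, 2, 1, 2, 0, 2], [3, 1, 3, 0, 3, 1, 2, 1, 3, 0, 0, 0]), ([1, 3, 1, 1, 1, 2, 1, 2, 1, 1, 2, 1, 1, 3, 1, 2, 1, 1, 3, 0, 1, 2, 1, 1, 2, 0, 0, 3, 0, 2, 3, 0, 3, 0, 0, 0, 2, 0], [3, 0, 0, 0, 3, 0, 2, 0, 0, 0, 3])]⟩,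
  ⟨[14, 5, 22, 21, 23, 4], [8, 5, 16, 14, 16, 4], [([1, 1, 2, 1, 1, 3, 1, 2, 1, 1, 3, 0], [1, 1, 2, 1, 1, 3, 1, 2, 1, 1, 3, 0]), ([5], [5]), ([0, 2, 0, 2, 1, 2, 1, 3, 1, 1, 3], [0, 2, 0, 2, 1, 2, 1, 3, 1, 1, 3]), ([1, 1, 1, 2, 0, 3, 0, 2, 1, 2, 0, 2], [3, 1, 3, 0, 3, 1, 2, 1, 3, 0, 0, 0]), ([0, 2, 0, 2, 1, 2, 1, 3, 1, 1, 3], [2, 0, 0, 2, 0, 3, 0, 3, 1, 3, 1]), ([4], [4])]⟩,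
  ⟨[15, 5, 22, 21, 23, 4], [8, 5, 16, 14, 16, 4], [([1, 1, 2, 1, 1, 3, 1, 2, 1, 1, 3, 0], [1, 2, 0, 0, 3, 0, 2, 0, 0, 3, 0, 0]), ([5], [5]), ([0, 2, 0, 2, 1, 2, 1, 3, 1, 1, 3], [0, 2, 0, 2, 1, 2, 1, 3, 1, 1, 3]), ([1, 1, 1, 2, 0, 3, 0, 2, 1, 2, 0, 2], [3, 1, 3, 0, 3, 1, 2, 1, 3, 0, 0, 0]), ([0, 2, 0, 2, 1, 2, 1, 3, 1, 1, 3], [2, 0, 0, 2, 0, 3, 0, 3, 1, 3, 1]), ([4], [4])]⟩,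
  ⟨[20, 5, 22, 4, 13, 41], [14, 5, 16, 4, 6, 2, 8, 10, 3], [([1, 1, 1, 2, 0, 3, 0, 2, 1, 2, 0, 2], [1, 1, 1, 2, 0, 3, 0, 2, 1, 2, 0, 2]), ([5], [5]), ([0, 2, 0, 2, 1, 2, 1, 3, 1, 1, 3], [0, 2, 0, 2, 1, 2, 1, 3, 1, 1, 3]), ([4], [4]), ([0, 0, 2, 0, 3, 0, 2, 0, 0, 2, 0, 3, 0, 2], [3, 1, 2, 1, 3, 1, 1, 3, 1, 2, 1, 3, 1, 1]), ([1, 3, 1, 1, 1, 2, 1, 2, 1, 1, 2, 1, 1, 3, 1, 2, 1, 1, 3, 0, 1, 2, 1, 1, 2, 0, 0, 3, 0, 2, 3, 0, 3, 0, 0, 0, 2, 0], [3, 0, 0, 0, 3, 0, 2, 0, 0, 0, 3])]⟩,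
  ⟨[21, 5, 22, 4, 13, 41], [14, 5, 16, 4, 6, 2, 8, 10, 3], [([1, 1, 1, 2, 0, 3, 0, 2, 1, 2, 0, 2], [3, 1, 3, 0, 3, 1, 2, 1, 3, 0, 0, 0]), ([5], [5]), ([0, 2, 0, 2, 1, 2, 1, 3, 1, 1, 3], [0, 2, 0, 2, 1, 2, 1, 3, 1, 1, 3]), ([4], [4]), ([0, 0, 2, 0, 3, 0, 2, 0, 0, 2, 0, 3, 0, 2], [3, 1, 2, 1, 3, 1, 1, 3, 1, 2, 1, 3, 1, 1]), ([1, 3, 1, 1, 1, 2, 1, 2, 1, 1, 2, 1, 1, 3, 1, 2, 1, 1, 3, 0, 1, 2, 1, 1, 2, 0, 0, 3, 0, 2, 3, 0, 3, 0, 0, 0, 2, 0], [3, 0, 0, 0, 3, 0, 2, 0, 0, 0, 3])]⟩,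
  ⟨[22, 5, 22, 5, 23, 5], [16, 5, 16, 5, 16, 5], [([0, 2, 0, 2, 1, 2, 1, 3, 1, 1, 3], [0, 2, 0, 2, 1, 2, 1, 3, 1, 1, 3]), ([5], [5]), ([0, 2, 0, 2, 1, 2, 1, 3, 1, 1, 3], [0, 2, 0, 2, 1, 2, 1, 3, 1, 1, 3]), ([5], [5]), ([0, 2, 0, 2, 1, 2, 1, 3, 1, 1, 3], [2, 0, 0, 2, 0, 3, 0, 3, 1, 3, 1]), ([5], [5])]⟩,
  ⟨[23, 5, 22, 5, 23, 5], [16, 5, 16, 5, 16, 5], [([0, 2, 0, 2, 1, 2, 1, 3, 1, 1, 3], [2, 0, 0, 2, 0, 3, 0, 3, 1, 3, 1]), ([5], [5]), ([0, 2, 0, 2, 1, 2, 1, 3, 1, 1, 3], [0, 2, 0, 2, 1, 2, 1, 3, 1, 1, 3]), ([5], [5]), ([0, 2, 0, 2, 1, 2, 1, 3, 1, 1, 3], [2, 0, 0, 2, 0, 3, 0, 3, 1, 3, 1]), ([5], [5])]⟩,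
  ⟨[40, 5, 22, 4, 13, 21], [2, 8, 10, 3, 5, 16, 4, 6, 14], [([1, 3, 1, 1, 1, 2, 1, 2, 1, 1, 2, 1, 1, 3, 1, 2, 1, 1, 3, 0, 1, 2, 1, 1, 2, 0, 0, 3, 0, 2, 3, 0, 3, 0, 0, 0, 2, 0], [2, 1, 1, 1, 3, 1, 2, 1, 1, 1, 2]), ([5], [5]), ([0, 2, 0, 2, 1, 2, 1, 3, 1, 1, 3], [0, 2, 0, 2, 1, 2, 1, 3, 1, 1, 3]), ([4], [4]), ([0, 0, 2, 0, 3, 0, 2, 0, 0, 2, 0, 3, 0, 2], [3, 1, 2, 1, 3, 1, 1, 3, 1, 2, 1, 3, 1, 1]), ([1, 1, 1, 2, 0, 3, 0, 2, 1, 2, 0, 2], [3, 1, 3, 0, 3, 1, 2, 1, 3, 0, 0, 0])]⟩,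
  ⟨[41, 5, 22, 4, 13, 21], [2, 8, 10, 3, 5, 16, 4, 6, 14], [([1, 3, 1, 1, 1, 2, 1, 2, 1, 1, 2, 1, 1, 3, 1, 2, 1, 1, 3, 0, 1, 2, 1, 1, 2, 0, 0, 3, 0, 2, 3, 0, 3, 0, 0, 0, 2, 0], [3, 0, 0, 0, 3, 0, 2, 0, 0, 0, 3]), ([5], [5]), ([0, 2, 0, 2, 1, 2, 1, 3, 1, 1, 3], [0, 2, 0, 2, 1, 2, 1, 3, 1, 1, 3]), ([4], [4]), ([0, 0, 2, 0, 3, 0, 2, 0, 0, 2, 0, 3, 0, 2], [3, 1, 2, 1, 3, 1, 1, 3, 1, 2, 1, 3, 1, 1]), ([1, 1, 1, 2, 0, 3, 0, 2, 1, 2, 0, 2], [3, 1, 3, 0, 3, 1, 2, 1, 3, 0, 0, 0])]⟩,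
  ⟨[16, 4, 24, 13, 25, 5], [10, 4, 2, 0, 2, 0, 2, 6, 2, 0, 2, 0, 2, 5], [([1, 2, 1, 1, 2, 0, 0, 3, 0, 2], [1, 2, 1, 1, 2, 0, 0, 3, 0, 2]), ([4], [4]), ([1, 3, 1, 1, 1, 2, 1, 2, 0, 3, 0, 3, 0, 3, 1, 3, 0, 2, 1, 3, 1, 1, 1, 2, 1, 2, 0, 3, 0, 3, 0, 3, 1, 3, 0, 2, 1, 3, 1, 1, 1, 2, 1, 2], [0, 0, 3, 1, 1, 3, 0, 2, 1, 2, 0, 2]), ([0, 0, 2, 0, 3, 0, 2, 0, 0, 2, 0, 3, 0, 2], [3, 1, 2, 1, 3, 1, 1, 3, 1, 2, 1, 3, 1, 1]), ([1, 3, 1, 1, 1, 2, 1, 2, 0, 3, 0, 3, 0, 3, 1, 3, 0, 2, 1, 3, 1, 1, 1, 2, 1, 2, 0, 3, 0, 3, 0, 3, 1, 3, 0, 2, 1, 3, 1, 1, 1, 2, 1, 2], [3, 1, 3, 0, 3, 1, 2, 0, 0, 2, 1, 1]), ([5], [5])]⟩,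
  ⟨[17, 4, 24, 13, 25, 5], [10, 4, 2, 0, 2, 0, 2, 6, 2, 0, 2, 0, 2, 5], [([1, 2, 1, 1, 2, 0, 0, 3, 0, 2], [3, 1, 2, 1, 1, 3, 0, 0, 3, 0]), ([4], [4]), ([1, 3, 1, 1, 1, 2, 1, 2, 0, 3, 0, 3, 0, 3, 1, 3, 0, 2, 1, 3, 1, 1, 1, 2, 1, 2, 0, 3, 0, 3, 0, 3, 1, 3, 0, 2, 1, 3, 1, 1, 1, 2, 1, 2], [0, 0, 3, 1, 1, 3, 0, 2, 1, 2, 0, 2]), ([0, 0, 2, 0, 3, 0, 2, 0, 0, 2, 0, 3, 0, 2], [3, 1, 2, 1, 3, 1, 1, 3, 1, 2, 1, 3, 1, 1]), ([1, 3, 1, 1, 1, 2, 1, 2, 0, 3, 0, 3, 0, 3, 1, 3, 0, 2, 1, 3, 1, 1, 1, 2, 1, 2, 0, 3, 0, 3, 0, 3, 1, 3, 0, 2, 1, 3, 1, 1, 1, 2, 1, 2], [3, 1, 3, 0, 3, 1, 2, 0, 0, 2, 1, 1]), ([5], [5])]⟩,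
  ⟨[14, 5, 24, 21, 25, 4], [8, 5, 2, 0, 2, 0, 2, 14, 2, 0, 2, 0, 2, 4], [([1, 1, 2, 1, 1, 3, 1, 2, 1, 1, 3, 0], [1, 1, 2, 1, 1, 3, 1, 2, 1, 1, 3, 0]), ([5], [5]), ([1, 3, 1, 1, 1, 2, 1, 2, 0, 3, 0, 3, 0, 3, 1, 3, 0, 2, 1, 3, 1, 1, 1, 2, 1, 2, 0, 3, 0, 3, 0, 3, 1, 3, 0, 2, 1, 3, 1, 1, 1, 2, 1, 2], [0, 0, 3, 1, 1, 3, 0, 2, 1, 2, 0, 2]), ([1, 1, 1, 2, 0, 3, 0, 2, 1, 2, 0, 2], [3, 1, 3, 0, 3, 1, 2, 1, 3, 0, 0, 0]), ([1, 3, 1, 1, 1, 2, 1, 2, 0, 3, 0, 3, 0, 3, 1, 3, 0, 2, 1, 3, 1, 1, 1, 2, 1, 2, 0, 3, 0, 3, 0, 3, 1, 3, 0, 2, 1, 3, 1, 1, 1, 2, 1, 2], [3, 1, 3, 0, 3, 1, 2, 0, 0, 2, 1, 1]), ([4], [4])]⟩,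
  ⟨[15, 5, 24, 21, 25, 4], [8, 5, 2, 0, 2, 0, 2, 14, 2, 0, 2, 0, 2, 4], [([1, 1, 2, 1, 1, 3, 1, 2, 1, 1, 3, 0], [1, 2, 0, 0, 3, 0, 2, 0, 0, 3, 0, 0]), ([5], [5]), ([1, 3, 1, 1, 1, 2, 1, 2, 0, 3, 0, 3, 0, 3, 1, 3, 0, 2, 1, 3, 1, 1, 1, 2, 1, 2, 0, 3, 0, 3, 0, 3, 1, 3, 0, 2, 1, 3, 1, 1, 1, 2, 1, 2], [0, 0, 3, 1, 1, 3, 0, 2, 1, 2, 0, 2]), ([1, 1, 1, 2, 0, 3, 0, 2, 1, 2, 0, 2], [3, 1, 3, 0, 3, 1, 2, 1, 3, 0, 0, 0]), ([1, 3, 1, 1, 1, 2, 1, 2, 0, 3, 0, 3, 0, 3, 1, 3, 0, 2, 1, 3, 1, 1, 1, 2, 1, 2, 0, 3, 0, 3, 0, 3, 1, 3, 0, 2, 1, 3, 1, 1, 1, 2, 1, 2], [3, 1, 3, 0, 3, 1, 2, 0, 0, 2, 1, 1]), ([4], [4])]⟩,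
  ⟨[12, 5, 26, 5, 51, 5], [6, 5, 8, 10, 12, 5, 0, 6, 12, 16, 0, 5], [([0, 0, 2, 0, 3, 0, 2, 0, 0, 2, 0, 3, 0, 2], [0, 0, 2, 0, 3, 0, 2, 0, 0, 2, 0, 3, 0, 2]), ([5], [5]), ([1, 1, 2, 1, 1, 3, 1, 2, 1, 1, 3, 0, 1, 2, 1, 1, 2, 0, 0, 3, 0, 2, 0, 2, 1, 2, 0, 3, 0, 2, 1, 3, 0, 3], [2, 0, 0, 0, 3, 1, 2, 0, 2, 1, 1, 2]), ([5], [5]), ([0, 3, 0, 3, 0, 3, 1, 3, 0, 2, 0, 0, 2, 0, 3, 0, 2, 0, 0, 2, 0, 3, 0, 2, 0, 2, 1, 2, 0, 3, 0, 2, 1, 3, 0, 3, 0, 2, 0, 2, 1, 2, 1, 3, 1, 1, 3, 0, 3, 0, 3, 0, 3, 1, 3, 0, 2], [1, 3, 1, 2, 1, 2, 1, 2, 1, 1, 3, 0, 0]), ([5], [5])]⟩,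
  ⟨[13, 5, 26, 5, 51, 5], [6, 5, 8, 10, 12, 5, 0, 6, 12, 16, 0, 5], [([0, 0, 2, 0, 3, 0, 2, 0, 0, 2, 0, 3, 0, 2], [3, 1, 2, 1, 3, 1, 1, 3, 1, 2, 1, 3, 1, 1]), ([5], [5]), ([1, 1, 2, 1, 1, 3, 1, 2, 1, 1, 3, 0, 1, 2, 1, 1, 2, 0, 0, 3, 0, 2, 0, 2, 1, 2, 0, 3, 0, 2, 1, 3, 0, 3], [2, 0, 0, 0, 3, 1, 2, 0, 2, 1, 1, 2]), ([5], [5]), ([0, 3, 0, 3, 0, 3, 1, 3, 0, 2, 0, 0, 2, 0, 3, 0, 2, 0, 0, 2, 0, 3, 0, 2, 0, 2, 1, 2, 0, 3, 0, 2, 1, 3, 0, 3, 0, 2, 0, 2, 1, 2, 1, 3, 1, 1, 3, 0, 3, 0, 3, 0, 3, 1, 3, 0, 2], [1, 3, 1, 2, 1, 2, 1, 2, 1, 1, 3, 0, 0]), ([5], [5])]⟩,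
  ⟨[14, 5, 26, 4, 13, 23], [8, 5, 8, 10, 12, 4, 6, 16], [([1, 1, 2, 1, 1, 3, 1, 2, 1, 1, 3, 0], [1, 1, 2, 1, 1, 3, 1, 2, 1, 1, 3, 0]), ([5], [5]), ([1, 1, 2, 1, 1, 3, 1, 2, 1, 1, 3, 0, 1, 2, 1, 1, 2, 0, 0, 3, 0, 2, 0, 2, 1, 2, 0, 3, 0, 2, 1, 3, 0, 3], [2, 0, 0, 0, 3, 1, 2, 0, 2, 1, 1, 2]), ([4], [4]), ([0, 0, 2, 0, 3, 0, 2, 0, 0, 2, 0, 3, 0, 2], [3, 1, 2, 1, 3, 1, 1, 3, 1, 2, 1, 3, 1, 1]), ([0, 2, 0, 2, 1, 2, 1, 3, 1, 1, 3], [2, 0, 0, 2, 0, 3, 0, 3, 1, 3, 1])]⟩,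
  ⟨[15, 5, 26, 4, 13, 23], [8, 5, 8, 10, 12, 4, 6, 16], [([1, 1, 2, 1, 1, 3, 1, 2, 1, 1, 3, 0], [1, 2, 0, 0, 3, 0, 2, 0, 0, 3, 0, 0]), ([5], [5]), ([1, 1, 2, 1, 1, 3, 1, 2, 1, 1, 3, 0, 1, 2, 1, 1, 2, 0, 0, 3, 0, 2, 0, 2, 1, 2, 0, 3, 0, 2, 1, 3, 0, 3], [2, 0, 0, 0, 3, 1, 2, 0, 2, 1, 1, 2]), ([4], [4]), ([0, 0, 2, 0, 3, 0, 2, 0, 0, 2, 0, 3, 0, 2], [3, 1, 2, 1, 3, 1, 1, 3, 1, 2, 1, 3, 1, 1]), ([0, 2, 0, 2, 1, 2, 1, 3, 1, 1, 3], [2, 0, 0, 2, 0, 3, 0, 3, 1, 3, 1])]⟩,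
  ⟨[20, 5, 26, 4, 27, 51], [14, 5, 8, 10, 12, 4, 8, 10, 12, 0, 6, 12, 16, 0], [([1, 1, 1, 2, 0, 3, 0, 2, 1, 2, 0, 2], [1, 1, 1, 2, 0, 3, 0, 2, 1, 2, 0, 2]), ([5], [5]), ([1, 1, 2, 1, 1, 3, 1, 2, 1, 1, 3, 0, 1, 2, 1, 1, 2, 0, 0, 3, 0, 2, 0, 2, 1, 2, 0, 3, 0, 2, 1, 3, 0, 3], [2, 0, 0, 0, 3, 1, 2, 0, 2, 1, 1, 2]), ([4], [4]), ([1, 1, 2, 1, 1, 3, 1, 2, 1, 1, 3, 0, 1, 2, 1, 1, 2, 0, 0, 3, 0, 2, 0, 2, 1, 2, 0, 3, 0, 2, 1, 3, 0, 3], [3, 0, 0, 3, 1, 3, 0, 2, 1, 1, 1, 3]), ([0, 3, 0, 3, 0, 3, 1, 3, 0, 2, 0, 0, 2, 0, 3, 0, 2, 0, 0, 2, 0, 3, 0, 2, 0, 2, 1, 2, 0, 3, 0, 2, 1, 3, 0, 3, 0, 2, 0, 2, 1, 2, 1, 3, 1, 1, 3, 0, 3, 0, 3, 0, 3, 1, 3, 0, 2], [1, 3, 1, 2, 1,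 2, 1, 2, 1, 1, 3, 0, 0])]⟩,
  ⟨[21, 5, 26, 4, 27, 51], [14, 5, 8, 10, 12, 4, 8, 10, 12, 0, 6, 12, 16, 0], [([1, 1, 1, 2, 0, 3, 0, 2, 1, 2, 0, 2], [3, 1, 3, 0, 3, 1, 2, 1, 3, 0, 0, 0]), ([5], [5]), ([1, 1, 2, 1, 1, 3, 1, 2, 1, 1, 3, 0, 1, 2, 1, 1, 2, 0, 0, 3, 0, 2, 0, 2, 1, 2, 0, 3, 0, 2, 1, 3, 0, 3], [2, 0, 0, 0, 3, 1, 2, 0, 2, 1, 1, 2]), ([4], [4]), ([1, 1, 2, 1, 1, 3, 1, 2, 1, 1, 3, 0, 1, 2, 1, 1, 2, 0, 0, 3, 0, 2, 0, 2, 1, 2, 0, 3, 0, 2, 1, 3, 0, 3], [3, 0, 0, 3, 1, 3, 0, 2, 1, 1, 1, 3]), ([0, 3, 0, 3, 0, 3, 1, 3, 0, 2, 0, 0, 2, 0, 3, 0, 2, 0, 0, 2, 0, 3, 0, 2, 0, 2, 1, 2, 0, 3, 0, 2, 1, 3, 0, 3, 0, 2, 0, 2, 1, 2, 1, 3, 1, 1, 3, 0, 3, 0, 3, 0, 3, 1,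 3, 0, 2], [1, 3, 1, 2, 1, 2, 1, 2, 1, 1, 3, 0, 0])]⟩,
  ⟨[22, 5, 26, 4, 13, 15], [16, 5, 8, 10, 12, 4, 6, 8], [([0, 2, 0, 2, 1, 2, 1, 3, 1, 1, 3], [0, 2, 0, 2, 1, 2, 1, 3, 1, 1, 3]), ([5], [5]), ([1, 1, 2, 1, 1, 3, 1, 2, 1, 1, 3, 0, 1, 2, 1, 1, 2, 0, 0, 3, 0, 2, 0, 2, 1, 2, 0, 3, 0, 2, 1, 3, 0, 3], [2, 0, 0, 0, 3, 1, 2, 0, 2, 1, 1, 2]), ([4], [4]), ([0, 0, 2, 0, 3, 0, 2, 0, 0, 2, 0, 3, 0, 2], [3, 1, 2, 1, 3, 1, 1, 3, 1, 2, 1, 3, 1, 1]), ([1, 1, 2, 1, 1, 3, 1, 2, 1, 1, 3, 0], [1, 2, 0, 0, 3, 0, 2, 0, 0, 3, 0, 0])]⟩,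
  ⟨[23, 5, 26, 4, 13, 15], [16, 5, 8, 10, 12, 4, 6, 8], [([0, 2, 0, 2, 1, 2, 1, 3, 1, 1, 3], [2, 0, 0, 2, 0, 3, 0, 3, 1, 3, 1]), ([5], [5]), ([1, 1, 2, 1, 1, 3, 1, 2, 1, 1, 3, 0, 1, 2, 1, 1, 2, 0, 0, 3, 0, 2, 0, 2, 1, 2, 0, 3, 0, 2, 1, 3, 0, 3], [2, 0, 0, 0, 3, 1, 2, 0, 2, 1, 1, 2]), ([4], [4]), ([0, 0, 2, 0, 3, 0, 2, 0, 0, 2, 0, 3, 0, 2], [3, 1, 2, 1, 3, 1, 1, 3, 1, 2, 1, 3, 1, 1]), ([1, 1, 2, 1, 1, 3, 1, 2, 1, 1, 3, 0], [1, 2, 0, 0, 3, 0, 2, 0, 0, 3, 0, 0])]⟩,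
  ⟨[26, 5, 26, 5, 19, 5], [8, 10, 12, 5, 8, 10, 12, 5, 12, 5], [([1, 1, 2, 1, 1, 3, 1, 2, 1, 1, 3, 0, 1, 2, 1, 1, 2, 0, 0, 3, 0, 2, 0, 2, 1, 2, 0, 3, 0, 2, 1, 3, 0, 3], [2, 0, 0, 0, 3, 1, 2, 0, 2, 1, 1, 2]), ([5], [5]), ([1, 1, 2, 1, 1, 3, 1, 2, 1, 1, 3, 0, 1, 2, 1, 1, 2, 0, 0, 3, 0, 2, 0, 2, 1, 2, 0, 3, 0, 2, 1, 3, 0, 3], [2, 0, 0, 0, 3, 1, 2, 0, 2, 1, 1, 2]), ([5], [5]), ([0, 2, 1, 2, 0, 3, 0, 2, 1, 3, 0, 3], [2, 1, 2, 0, 3, 1, 2, 1, 3, 0, 3, 1]), ([5], [5])]⟩,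
  ⟨[27, 5, 26, 5, 19, 5], [8, 10, 12, 5, 8, 10, 12, 5, 12, 5], [([1, 1, 2, 1, 1, 3, 1, 2, 1, 1, 3, 0, 1, 2, 1, 1, 2, 0, 0, 3, 0, 2, 0, 2, 1, 2, 0, 3, 0, 2, 1, 3, 0, 3], [3, 0, 0, 3, 1, 3, 0, 2, 1, 1, 1, 3]), ([5], [5]), ([1, 1, 2, 1, 1, 3, 1, 2, 1, 1, 3, 0, 1, 2, 1, 1, 2, 0, 0, 3, 0, 2, 0, 2, 1, 2, 0, 3, 0, 2, 1, 3, 0, 3], [2, 0, 0, 0, 3, 1, 2, 0, 2, 1, 1, 2]), ([5], [5]), ([0, 2, 1, 2, 0, 3, 0, 2, 1, 3, 0, 3], [2, 1, 2, 0, 3, 1, 2, 1, 3, 0, 3, 1]), ([5], [5])]⟩,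
  ⟨[5, 40, 26, 5, 19, 5], [5, 2, 8, 10, 3, 8, 10, 12, 5, 12, 5], [([5], [5]), ([1, 3, 1, 1, 1, 2, 1, 2, 1, 1, 2, 1, 1, 3, 1, 2, 1, 1, 3, 0, 1, 2, 1, 1, 2, 0, 0, 3, 0, 2, 3, 0, 3, 0, 0, 0, 2, 0], [2, 1, 1, 1, 3, 1, 2, 1, 1, 1, 2]), ([1, 1, 2, 1, 1, 3, 1, 2, 1, 1, 3, 0, 1, 2, 1, 1, 2, 0, 0, 3, 0, 2, 0, 2, 1, 2, 0, 3, 0, 2, 1, 3, 0, 3], [2, 0, 0, 0, 3, 1, 2, 0, 2, 1, 1, 2]), ([5], [5]), ([0, 2, 1, 2, 0, 3, 0, 2, 1, 3, 0, 3], [2, 1, 2, 0, 3, 1, 2, 1, 3, 0, 3, 1]), ([5], [5])]⟩,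
  ⟨[14, 4, 28, 17, 29, 5], [8, 4, 0, 2, 2, 0, 12, 10, 0, 2, 2, 0, 12, 5], [([1, 1, 2, 1, 1, 3, 1, 2, 1, 1, 3, 0], [1, 1, 2, 1, 1, 3, 1, 2, 1, 1, 3, 0]), ([4], [4]), ([0, 3, 0, 3, 0, 3, 1, 3, 0, 2, 1, 3, 1, 1, 1, 2, 1, 2, 1, 3, 1, 1, 1, 2, 1, 2, 0, 3, 0, 3, 0, 3, 1, 3, 0, 2, 0, 2, 1, 2, 0, 3, 0, 2, 1, 3, 0, 3], [1, 1, 1, 2, 1, 3, 0, 0, 3, 1, 2, 0]), ([1, 2, 1, 1, 2, 0, 0, 3, 0, 2], [3, 1, 2, 1, 1, 3, 0, 0, 3, 0]), ([0, 3, 0, 3, 0, 3, 1, 3, 0, 2, 1, 3, 1, 1, 1, 2, 1, 2, 1, 3, 1, 1, 1, 2, 1, 2, 0, 3, 0, 3, 0, 3, 1, 3, 0, 2, 0, 2, 1, 2, 0, 3, 0, 2, 1, 3, 0, 3], [1, 3, 0, 2, 1, 1, 2, 0, 3, 0, 0, 0]), ([5], [5])]⟩,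
  ⟨[15, 4, 28, 17, 29, 5], [8, 4, 0, 2, 2, 0, 12, 10, 0, 2, 2, 0, 12, 5], [([1, 1, 2, 1, 1, 3, 1, 2, 1, 1, 3, 0], [1, 2, 0, 0, 3, 0, 2, 0, 0, 3, 0, 0]), ([4], [4]), ([0, 3, 0, 3, 0, 3, 1, 3, 0, 2, 1, 3, 1, 1, 1, 2, 1, 2, 1, 3, 1, 1, 1, 2, 1, 2, 0, 3, 0, 3, 0, 3, 1, 3, 0, 2, 0, 2, 1, 2, 0, 3, 0, 2, 1, 3, 0, 3], [1, 1, 1, 2, 1, 3, 0, 0, 3, 1, 2, 0]), ([1, 2, 1, 1, 2, 0, 0, 3, 0, 2], [3, 1, 2, 1, 1, 3, 0, 0, 3, 0]), ([0, 3, 0, 3, 0, 3, 1, 3, 0, 2, 1, 3, 1, 1, 1, 2, 1, 2, 1, 3, 1, 1, 1, 2, 1, 2, 0, 3, 0, 3, 0, 3, 1, 3, 0, 2, 0, 2, 1, 2, 0, 3, 0, 2, 1, 3, 0, 3], [1, 3, 0, 2, 1, 1, 2, 0, 3, 0, 0, 0]), ([5], [5])]⟩,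
  ⟨[16, 4, 28, 13, 29, 5], [10, 4, 0, 2, 2, 0, 12, 6, 0, 2, 2, 0, 12, 5], [([1, 2, 1, 1, 2, 0, 0, 3, 0, 2], [1, 2, 1, 1, 2, 0, 0, 3, 0, 2]), ([4], [4]), ([0, 3, 0, 3, 0, 3, 1, 3, 0, 2, 1, 3, 1, 1, 1, 2, 1, 2, 1, 3, 1, 1, 1, 2, 1, 2, 0, 3, 0, 3, 0, 3, 1, 3, 0, 2, 0, 2, 1, 2, 0, 3, 0, 2, 1, 3, 0, 3], [1, 1, 1, 2, 1, 3, 0, 0, 3, 1, 2, 0]), ([0, 0, 2, 0, 3, 0, 2, 0, 0, 2, 0, 3, 0, 2], [3, 1, 2, 1, 3, 1, 1, 3, 1, 2, 1, 3, 1, 1]), ([0, 3, 0, 3, 0, 3, 1, 3, 0, 2, 1, 3, 1, 1, 1, 2, 1, 2, 1, 3, 1, 1, 1, 2, 1, 2, 0, 3, 0, 3, 0, 3, 1, 3, 0, 2, 0, 2, 1, 2, 0, 3, 0, 2, 1, 3, 0, 3], [1, 3, 0, 2, 1, 1, 2, 0, 3, 0, 0, 0]), ([5], [5])]⟩,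
  ⟨[17, 4, 28, 13, 29, 5], [10, 4, 0, 2, 2, 0, 12, 6, 0, 2, 2, 0, 12, 5], [([1, 2, 1, 1, 2, 0, 0, 3, 0, 2], [3, 1, 2, 1, 1, 3, 0, 0, 3, 0]), ([4], [4]), ([0, 3, 0, 3, 0, 3, 1, 3, 0, 2, 1, 3, 1, 1, 1, 2, 1, 2, 1, 3, 1, 1, 1, 2, 1, 2, 0, 3, 0, 3, 0, 3, 1, 3, 0, 2, 0, 2, 1, 2, 0, 3, 0, 2, 1, 3, 0, 3], [1, 1, 1, 2, 1, 3, 0, 0, 3, 1, 2, 0]), ([0, 0, 2, 0, 3, 0, 2, 0, 0, 2, 0, 3, 0, 2], [3, 1, 2, 1, 3, 1, 1, 3, 1, 2, 1, 3, 1, 1]), ([0, 3, 0, 3, 0, 3, 1, 3, 0, 2, 1, 3, 1, 1, 1, 2, 1, 2, 1, 3, 1, 1, 1, 2, 1, 2, 0, 3, 0, 3, 0, 3, 1, 3, 0, 2, 0, 2, 1, 2, 0, 3, 0, 2, 1, 3, 0, 3], [1, 3, 0, 2, 1, 1, 2, 0, 3, 0, 0, 0]), ([5], [5])]⟩,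
  ⟨[20, 4, 28, 15, 29, 5], [14, 4, 0, 2, 2, 0, 12, 8, 0, 2, 2, 0, 12, 5], [([1, 1, 1, 2, 0, 3, 0, 2, 1, 2, 0, 2], [1, 1, 1, 2, 0, 3, 0, 2, 1, 2, 0, 2]), ([4], [4]), ([0, 3, 0, 3, 0, 3, 1, 3, 0, 2, 1, 3, 1, 1, 1, 2, 1, 2, 1, 3, 1, 1, 1, 2, 1, 2, 0, 3, 0, 3, 0, 3, 1, 3, 0, 2, 0, 2, 1, 2, 0, 3, 0, 2, 1, 3, 0, 3], [1, 1, 1, 2, 1, 3, 0, 0, 3, 1, 2, 0]), ([1, 1, 2, 1, 1, 3, 1, 2, 1, 1, 3, 0], [1, 2, 0, 0, 3, 0, 2, 0, 0, 3, 0, 0]), ([0, 3, 0, 3, 0, 3, 1, 3, 0, 2, 1, 3, 1, 1, 1, 2, 1, 2, 1, 3, 1, 1, 1, 2, 1, 2, 0, 3, 0, 3, 0, 3, 1, 3, 0, 2, 0, 2, 1, 2, 0, 3, 0, 2, 1, 3, 0, 3], [1, 3, 0, 2, 1, 1, 2, 0, 3, 0, 0, 0]), ([5], [5])]⟩,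
  ⟨[21, 4, 28, 15, 29, 5], [14, 4, 0, 2, 2, 0, 12, 8, 0, 2, 2, 0, 12, 5], [([1, 1, 1, 2, 0, 3, 0, 2, 1, 2, 0, 2], [3, 1, 3, 0, 3, 1, 2, 1, 3, 0, 0, 0]), ([4], [4]), ([0, 3, 0, 3, 0, 3, 1, 3, 0, 2, 1, 3, 1, 1, 1, 2, 1, 2, 1, 3, 1, 1, 1, 2, 1, 2, 0, 3, 0, 3, 0, 3, 1, 3, 0, 2, 0, 2, 1, 2, 0, 3, 0, 2, 1, 3, 0, 3], [1, 1, 1, 2, 1, 3, 0, 0, 3, 1, 2, 0]), ([1, 1, 2, 1, 1, 3, 1, 2, 1, 1, 3, 0], [1, 2, 0, 0, 3, 0, 2, 0, 0, 3, 0, 0]), ([0, 3, 0, 3, 0, 3, 1, 3, 0, 2, 1, 3, 1, 1, 1, 2, 1, 2, 1, 3, 1, 1, 1, 2, 1, 2, 0, 3, 0, 3, 0, 3, 1, 3, 0, 2, 0, 2, 1, 2, 0, 3, 0, 2, 1, 3, 0, 3], [1, 3, 0, 2, 1, 1, 2, 0, 3, 0, 0, 0]), ([5], [5])]⟩,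
  ⟨[20, 5, 28, 17, 29, 4], [14, 5, 0, 2, 2, 0, 12, 10, 0, 2, 2, 0, 12, 4], [([1, 1, 1, 2, 0, 3, 0, 2, 1, 2, 0, 2], [1, 1, 1, 2, 0, 3, 0, 2, 1, 2, 0, 2]), ([5], [5]), ([0, 3, 0, 3, 0, 3, 1, 3, 0, 2, 1, 3, 1, 1, 1, 2, 1, 2, 1, 3, 1, 1, 1, 2, 1, 2, 0, 3, 0, 3, 0, 3, 1, 3, 0, 2, 0, 2, 1, 2, 0, 3, 0, 2, 1, 3, 0, 3], [1, 1, 1, 2, 1, 3, 0, 0, 3, 1, 2, 0]), ([1, 2, 1, 1, 2, 0, 0, 3, 0, 2], [3, 1, 2, 1, 1, 3, 0, 0, 3, 0]), ([0, 3, 0, 3, 0, 3, 1, 3, 0, 2, 1, 3, 1, 1, 1, 2, 1, 2, 1, 3, 1, 1, 1, 2, 1, 2, 0, 3, 0, 3, 0, 3, 1, 3, 0, 2, 0, 2, 1, 2, 0, 3, 0, 2, 1, 3, 0, 3], [1, 3, 0, 2, 1, 1, 2, 0, 3, 0, 0, 0]), ([4], [4])]⟩,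
  ⟨[21, 5, 28, 17, 29, 4], [14, 5, 0, 2, 2, 0, 12, 10, 0, 2, 2, 0, 12, 4], [([1, 1, 1, 2, 0, 3, 0, 2, 1, 2, 0, 2], [3, 1, 3, 0, 3, 1, 2, 1, 3, 0, 0, 0]), ([5], [5]), ([0, 3, 0, 3, 0, 3, 1, 3, 0, 2, 1, 3, 1, 1, 1, 2, 1, 2, 1, 3, 1, 1, 1, 2, 1, 2, 0, 3, 0, 3, 0, 3, 1, 3, 0, 2, 0, 2, 1, 2, 0, 3, 0, 2, 1, 3, 0, 3], [1, 1, 1, 2, 1, 3, 0, 0, 3, 1, 2, 0]), ([1, 2, 1, 1, 2, 0, 0, 3, 0, 2], [3, 1, 2, 1, 1, 3, 0, 0, 3, 0]), ([0, 3, 0, 3, 0, 3, 1, 3, 0, 2, 1, 3, 1, 1, 1, 2, 1, 2, 1, 3, 1, 1, 1, 2, 1, 2, 0, 3, 0, 3, 0, 3, 1, 3, 0, 2, 0, 2, 1, 2, 0, 3, 0, 2, 1, 3, 0, 3], [1, 3, 0, 2, 1, 1, 2, 0, 3, 0, 0, 0]), ([4], [4])]⟩,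
  ⟨[20, 4, 36, 15, 37, 5], [14, 4, 2, 2, 0, 2, 8, 12, 2, 8, 2, 2, 0, 2, 8, 12, 2, 5], [([1, 1, 1, 2, 0, 3, 0, 2, 1, 2, 0, 2], [1, 1, 1, 2, 0, 3, 0, 2, 1, 2, 0, 2]), ([4], [4]), ([1, 3, 1, 1, 1, 2, 1, 2, 1, 3, 1, 1, 1, 2, 1, 2, 0, 3, 0, 3, 0, 3, 1, 3, 0, 2, 1, 3, 1, 1, 1, 2, 1, 2, 1, 1, 2, 1, 1, 3, 1, 2, 1, 1, 3, 0, 0, 2, 1, 2, 0, 3, 0, 2, 1, 3, 0, 3, 1, 3, 1, 1, 1, 2, 1, 2], [1, 2, 1, 3, 0, 2, 1, 2, 1, 1, 1, 3]), ([1, 1, 2, 1, 1, 3, 1, 2, 1, 1, 3, 0], [1, 2, 0, 0, 3, 0, 2, 0, 0, 3, 0, 0]), ([1, 3, 1, 1, 1, 2, 1, 2, 1, 3, 1, 1, 1, 2, 1, 2, 0, 3, 0, 3, 0, 3, 1, 3, 0, 2, 1, 3, 1, 1, 1, 2, 1, 2, 1, 1, 2, 1, 1, 3, 1, 2, 1, 1, 3, 0, 0, 2, 1, 2, 0, 3, 0, 2,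 1, 3, 0, 3, 1, 3, 1, 1, 1, 2, 1, 2], [2, 0, 0, 0, 3, 0, 3, 1, 2, 0, 3, 0]), ([5], [5])]⟩,
  ⟨[21, 4, 36, 15, 37, 5], [14, 4, 2, 2, 0, 2, 8, 12, 2, 8, 2, 2, 0, 2, 8, 12, 2, 5], [([1, 1, 1, 2, 0, 3, 0, 2, 1, 2, 0, 2], [3, 1, 3, 0, 3, 1, 2, 1, 3, 0, 0, 0]), ([4], [4]), ([1, 3, 1, 1, 1, 2, 1, 2, 1, 3, 1, 1, 1, 2, 1, 2, 0, 3, 0, 3, 0, 3, 1, 3, 0, 2, 1, 3, 1, 1, 1, 2, 1, 2, 1, 1, 2, 1, 1, 3, 1, 2, 1, 1, 3, 0, 0, 2, 1, 2, 0, 3, 0, 2, 1, 3, 0, 3, 1, 3, 1, 1, 1, 2, 1, 2], [1, 2, 1, 3, 0, 2, 1, 2, 1, 1, 1, 3]), ([1, 1, 2, 1, 1, 3, 1, 2, 1, 1, 3, 0], [1, 2, 0, 0, 3, 0, 2, 0, 0, 3, 0, 0]), ([1, 3, 1, 1, 1, 2, 1, 2, 1, 3, 1, 1, 1, 2, 1, 2, 0, 3, 0, 3, 0, 3, 1, 3,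 0, 2, 1, 3, 1, 1, 1, 2, 1, 2, 1, 1, 2, 1, 1, 3, 1, 2, 1, 1, 3, 0, 0, 2, 1, 2, 0, 3, 0, 2, 1, 3, 0, 3, 1, 3, 1, 1, 1, 2, 1, 2], [2, 0, 0, 0, 3, 0, 3, 1, 2, 0, 3, 0]), ([5], [5])]⟩,
  ⟨[36, 4, 36, 4, 37, 4], [2, 2, 0, 2, 8, 12, 2, 4, 2, 2, 0, 2, 8, 12, 2, 4, 2, 2, 0, 2, 8, 12, 2, 4], [([1, 3, 1, 1, 1, 2, 1, 2, 1, 3, 1, 1, 1, 2, 1, 2, 0, 3, 0, 3, 0, 3, 1, 3, 0, 2, 1, 3, 1, 1, 1, 2, 1, 2, 1, 1, 2, 1, 1, 3, 1, 2, 1, 1, 3, 0, 0, 2, 1, 2, 0, 3, 0, 2, 1, 3, 0, 3, 1, 3, 1, 1, 1, 2, 1, 2], [1, 2, 1, 3, 0, 2, 1, 2, 1, 1, 1, 3]), ([4], [4]), ([1, 3, 1, 1, 1, 2, 1, 2, 1, 3, 1, 1, 1, 2, 1, 2, 0, 3, 0, 3, 0, 3, 1, 3, 0, 2, 1, 3, 1, 1, 1, 2, 1, 2, 1, 1, 2, 1, 1, 3, 1,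 2, 1, 1, 3, 0, 0, 2, 1, 2, 0, 3, 0, 2, 1, 3, 0, 3, 1, 3, 1, 1, 1, 2, 1, 2], [1, 2, 1, 3, 0, 2, 1, 2, 1, 1, 1, 3]), ([4], [4]), ([1, 3, 1, 1, 1, 2, 1, 2, 1, 3, 1, 1, 1, 2, 1, 2, 0, 3, 0, 3, 0, 3, 1, 3, 0, 2, 1, 3, 1, 1, 1, 2, 1, 2, 1, 1, 2, 1, 1, 3, 1, 2, 1, 1, 3, 0, 0, 2, 1, 2, 0, 3, 0, 2, 1, 3, 0, 3, 1, 3, 1, 1, 1, 2, 1, 2], [2, 0, 0, 0, 3, 0, 3, 1, 2, 0, 3, 0]), ([4], [4])]⟩,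
  ⟨[37, 4, 36, 4, 37, 4], [2, 2, 0, 2, 8, 12, 2, 4, 2, 2, 0, 2, 8, 12, 2, 4, 2, 2, 0, 2, 8, 12, 2, 4], [([1, 3, 1, 1, 1, 2, 1, 2, 1, 3, 1, 1, 1, 2, 1, 2, 0, 3, 0, 3, 0, 3, 1, 3, 0, 2, 1, 3, 1, 1, 1, 2, 1, 2, 1, 1, 2, 1, 1, 3, 1, 2, 1, 1, 3, 0, 0, 2, 1, 2, 0, 3, 0, 2, 1, 3, 0, 3, 1, 3, 1, 1, 1, 2, 1, 2], [2, 0, 0, 0, 3, 0, 3, 1, 2, 0, 3, 0]), ([4], [4]), ([1, 3, 1, 1, 1, 2, 1, 2, 1, 3, 1, 1, 1, 2, 1, 2, 0, 3, 0, 3, 0, 3, 1, 3, 0, 2, 1, 3, 1, 1, 1, 2, 1, 2, 1, 1, 2, 1, 1, 3, 1, 2, 1, 1, 3, 0, 0, 2, 1, 2, 0, 3, 0, 2, 1, 3, 0, 3, 1, 3, 1, 1, 1, 2, 1, 2], [1, 2, 1, 3, 0, 2, 1, 2, 1, 1, 1, 3]), ([4], [4]), ([1, 3, 1, 1, 1, 2, 1, 2, 1, 3, 1, 1, 1, 2, 1, 2, 0,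 3, 0, 3, 0, 3, 1, 3, 0, 2, 1, 3, 1, 1, 1, 2, 1, 2, 1, 1, 2, 1, 1, 3, 1, 2, 1, 1, 3, 0, 0, 2, 1, 2, 0, 3, 0, 2, 1, 3, 0, 3, 1, 3, 1, 1, 1, 2, 1, 2], [2, 0, 0, 0, 3, 0, 3, 1, 2, 0, 3, 0]), ([4], [4])]⟩,
  ⟨[12, 5, 36, 17, 37, 4], [6, 5, 2, 2, 0, 2, 8, 12, 2, 10, 2, 2, 0, 2, 8, 12, 2, 4], [([0, 0, 2, 0, 3, 0, 2, 0, 0, 2, 0, 3, 0, 2], [0, 0, 2, 0, 3, 0, 2, 0, 0, 2, 0, 3, 0, 2]), ([5], [5]), ([1, 3, 1, 1, 1, 2, 1, 2, 1, 3, 1, 1, 1, 2, 1, 2, 0, 3, 0, 3, 0, 3, 1, 3, 0, 2, 1, 3, 1, 1, 1, 2, 1, 2, 1, 1, 2, 1, 1, 3, 1, 2, 1, 1, 3, 0, 0, 2, 1, 2, 0, 3, 0, 2, 1, 3, 0, 3, 1, 3, 1, 1, 1, 2, 1, 2], [1, 2, 1, 3, 0, 2, 1, 2, 1, 1, 1, 3]), ([1, 2, 1, 1, 2, 0, 0, 3, 0,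 2], [3, 1, 2, 1, 1, 3, 0, 0, 3, 0]), ([1, 3, 1, 1, 1, 2, 1, 2, 1, 3, 1, 1, 1, 2, 1, 2, 0, 3, 0, 3, 0, 3, 1, 3, 0, 2, 1, 3, 1, 1, 1, 2, 1, 2, 1, 1, 2, 1, 1, 3, 1, 2, 1, 1, 3, 0, 0, 2, 1, 2, 0, 3, 0, 2, 1, 3, 0, 3, 1, 3, 1, 1, 1, 2, 1, 2], [2, 0, 0, 0, 3, 0, 3, 1, 2, 0, 3, 0]), ([4], [4])]⟩,
  ⟨[13, 5, 36, 17, 37, 4], [6, 5, 2, 2, 0, 2, 8, 12, 2, 10, 2, 2, 0, 2, 8, 12, 2, 4], [([0, 0, 2, 0, 3, 0, 2, 0, 0, 2, 0, 3, 0, 2], [3, 1, 2, 1, 3, 1, 1, 3, 1, 2, 1, 3, 1, 1]), ([5], [5]), ([1, 3, 1, 1, 1, 2, 1, 2, 1, 3, 1, 1, 1, 2, 1, 2, 0, 3, 0, 3, 0, 3, 1, 3, 0, 2, 1, 3, 1, 1, 1, 2, 1, 2, 1, 1, 2, 1, 1, 3, 1, 2, 1, 1, 3, 0, 0, 2, 1, 2, 0, 3, 0, 2, 1, 3, 0, 3, 1,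 3, 1, 1, 1, 2, 1, 2], [1, 2, 1, 3, 0, 2, 1, 2, 1, 1, 1, 3]), ([1, 2, 1, 1, 2, 0, 0, 3, 0, 2], [3, 1, 2, 1, 1, 3, 0, 0, 3, 0]), ([1, 3, 1, 1, 1, 2, 1, 2, 1, 3, 1, 1, 1, 2, 1, 2, 0, 3, 0, 3, 0, 3, 1, 3, 0, 2, 1, 3, 1, 1, 1, 2, 1, 2, 1, 1, 2, 1, 1, 3, 1, 2, 1, 1, 3, 0, 0, 2, 1, 2, 0, 3, 0, 2, 1, 3, 0, 3, 1, 3, 1, 1, 1, 2, 1, 2], [2, 0, 0, 0, 3, 0, 3, 1, 2, 0, 3, 0]), ([4], [4])]⟩,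
  ⟨[12, 4, 40, 51, 5], [6, 4, 2, 8, 10, 3, 0, 6, 12, 16, 0, 5], [([0, 0, 2, 0, 3, 0, 2, 0, 0, 2, 0, 3, 0, 2], [0, 0, 2, 0, 3, 0, 2, 0, 0, 2, 0, 3, 0, 2]), ([4], [4]), ([1, 3, 1, 1, 1, 2, 1, 2, 1, 1, 2, 1, 1, 3, 1, 2, 1, 1, 3, 0, 1, 2, 1, 1, 2, 0, 0, 3, 0, 2, 3, 0, 3, 0, 0, 0, 2, 0], [2, 1, 1, 1, 3, 1, 2, 1, 1, 1, 2]), ([0, 3, 0, 3, 0, 3, 1, 3, 0, 2, 0, 0, 2, 0, 3, 0, 2, 0, 0, 2, 0, 3, 0, 2, 0, 2, 1, 2, 0, 3, 0, 2, 1, 3, 0, 3, 0, 2, 0, 2, 1, 2, 1, 3, 1, 1, 3, 0, 3, 0, 3, 0, 3, 1, 3, 0, 2], [1, 3, 1, 2, 1, 2, 1, 2, 1, 1, 3, 0, 0]), ([5], [5])]⟩,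
  ⟨[13, 4, 40, 51, 5], [6, 4, 2, 8, 10, 3, 0, 6, 12, 16, 0, 5], [([0, 0, 2, 0, 3, 0, 2, 0, 0, 2, 0, 3, 0, 2], [3, 1, 2, 1, 3, 1, 1, 3, 1, 2, 1, 3, 1, 1]), ([4], [4]), ([1, 3, 1, 1, 1, 2, 1, 2, 1, 1, 2, 1, 1, 3, 1, 2, 1, 1, 3, 0, 1, 2, 1, 1, 2, 0, 0, 3, 0, 2, 3, 0, 3, 0, 0, 0, 2, 0], [2, 1, 1, 1, 3, 1, 2, 1, 1, 1, 2]), ([0, 3, 0, 3, 0, 3, 1, 3, 0, 2, 0, 0, 2, 0, 3, 0, 2, 0, 0, 2, 0, 3, 0, 2, 0, 2, 1, 2, 0, 3, 0, 2, 1, 3, 0, 3, 0, 2, 0, 2, 1, 2, 1, 3, 1, 1, 3, 0, 3, 0, 3, 0, 3, 1, 3, 0, 2], [1, 3, 1, 2, 1, 2, 1, 2, 1, 1, 3, 0, 0]), ([5], [5])]⟩,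
  ⟨[14, 4, 40, 5, 13, 23], [8, 4, 2, 8, 10, 3, 5, 6, 16], [([1, 1, 2, 1, 1, 3, 1, 2, 1, 1, 3, 0], [1, 1, 2, 1, 1, 3, 1, 2, 1, 1, 3, 0]), ([4], [4]), ([1, 3, 1, 1, 1, 2, 1, 2, 1, 1, 2, 1, 1, 3, 1, 2, 1, 1, 3, 0, 1, 2, 1, 1, 2, 0, 0, 3, 0, 2, 3, 0, 3, 0, 0, 0, 2, 0], [2, 1, 1, 1, 3, 1, 2, 1, 1, 1, 2]), ([5], [5]), ([0, 0, 2, 0, 3, 0, 2, 0, 0, 2, 0, 3, 0, 2], [3, 1, 2, 1, 3, 1, 1, 3, 1, 2, 1, 3, 1, 1]), ([0, 2, 0, 2, 1, 2, 1, 3, 1, 1, 3], [2, 0, 0, 2, 0, 3, 0, 3, 1, 3, 1])]⟩,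
  ⟨[15, 4, 40, 5, 13, 23], [8, 4, 2, 8, 10, 3, 5, 6, 16], [([1, 1, 2, 1, 1, 3, 1, 2, 1, 1, 3, 0], [1, 2, 0, 0, 3, 0, 2, 0, 0, 3, 0, 0]), ([4], [4]), ([1, 3, 1, 1, 1, 2, 1, 2, 1, 1, 2, 1, 1, 3, 1, 2, 1, 1, 3, 0, 1, 2, 1, 1, 2, 0, 0, 3, 0, 2, 3, 0, 3, 0, 0, 0, 2, 0], [2, 1, 1, 1, 3, 1, 2, 1, 1, 1, 2]), ([5], [5]), ([0, 0, 2, 0, 3, 0, 2, 0, 0, 2, 0, 3, 0, 2], [3, 1, 2, 1, 3, 1, 1, 3, 1, 2, 1, 3, 1, 1]), ([0, 2, 0, 2, 1, 2, 1, 3, 1, 1, 3], [2, 0, 0, 2, 0, 3, 0, 3, 1, 3, 1])]⟩,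
  ⟨[20, 4, 40, 5, 27, 51], [14, 4, 2, 8, 10, 3, 5, 8, 10, 12, 0, 6, 12, 16, 0], [([1, 1, 1, 2, 0, 3, 0, 2, 1, 2, 0, 2], [1, 1, 1, 2, 0, 3, 0, 2, 1, 2, 0, 2]), ([4], [4]), ([1, 3, 1, 1, 1, 2, 1, 2, 1, 1, 2, 1, 1, 3, 1, 2, 1, 1, 3, 0, 1, 2, 1, 1, 2, 0, 0, 3, 0, 2, 3, 0, 3, 0, 0, 0, 2, 0], [2, 1, 1, 1, 3, 1, 2, 1, 1, 1, 2]), ([5], [5]), ([1, 1, 2, 1, 1, 3, 1, 2, 1, 1, 3, 0, 1, 2, 1, 1, 2, 0, 0, 3, 0, 2, 0, 2, 1, 2, 0, 3, 0, 2, 1, 3, 0, 3], [3, 0, 0, 3, 1, 3, 0, 2, 1, 1, 1, 3]), ([0, 3, 0, 3, 0, 3, 1, 3, 0, 2, 0, 0, 2, 0, 3, 0, 2, 0, 0, 2, 0, 3, 0, 2, 0, 2, 1, 2, 0, 3, 0, 2, 1, 3, 0, 3, 0, 2, 0, 2, 1, 2, 1, 3, 1, 1, 3, 0, 3, 0, 3, 0, 3, 1, 3, 0, 2], [1, 3,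 1, 2, 1, 2, 1, 2, 1, 1, 3, 0, 0])]⟩,
  ⟨[21, 4, 40, 5, 27, 51], [14, 4, 2, 8, 10, 3, 5, 8, 10, 12, 0, 6, 12, 16, 0], [([1, 1, 1, 2, 0, 3, 0, 2, 1, 2, 0, 2], [3, 1, 3, 0, 3, 1, 2, 1, 3, 0, 0, 0]), ([4], [4]), ([1, 3, 1, 1, 1, 2, 1, 2, 1, 1, 2, 1, 1, 3, 1, 2, 1, 1, 3, 0, 1, 2, 1, 1, 2, 0, 0, 3, 0, 2, 3, 0, 3, 0, 0, 0, 2, 0], [2, 1, 1, 1, 3, 1, 2, 1, 1, 1, 2]), ([5], [5]), ([1, 1, 2, 1, 1, 3, 1, 2, 1, 1, 3, 0, 1, 2, 1, 1, 2, 0, 0, 3, 0, 2, 0, 2, 1, 2, 0, 3, 0, 2, 1, 3, 0, 3], [3, 0, 0, 3, 1, 3, 0, 2, 1, 1, 1, 3]), ([0, 3, 0, 3, 0, 3, 1, 3, 0, 2, 0, 0, 2, 0, 3, 0, 2, 0, 0, 2, 0, 3, 0, 2, 0, 2, 1, 2, 0, 3, 0, 2, 1, 3, 0, 3, 0, 2, 0, 2, 1, 2, 1, 3, 1, 1, 3,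 0, 3, 0, 3, 0, 3, 1, 3, 0, 2], [1, 3, 1, 2, 1, 2, 1, 2, 1, 1, 3, 0, 0])]⟩,
  ⟨[22, 4, 40, 5, 13, 15], [16, 4, 2, 8, 10, 3, 5, 6, 8], [([0, 2, 0, 2, 1, 2, 1, 3, 1, 1, 3], [0, 2, 0, 2, 1, 2, 1, 3, 1, 1, 3]), ([4], [4]), ([1, 3, 1, 1, 1, 2, 1, 2, 1, 1, 2, 1, 1, 3, 1, 2, 1, 1, 3, 0, 1, 2, 1, 1, 2, 0, 0, 3, 0, 2, 3, 0, 3, 0, 0, 0, 2, 0], [2, 1, 1, 1, 3, 1, 2, 1, 1, 1, 2]), ([5], [5]), ([0, 0, 2, 0, 3, 0, 2, 0, 0, 2, 0, 3, 0, 2], [3, 1, 2, 1, 3, 1, 1, 3, 1, 2, 1, 3, 1, 1]), ([1, 1, 2, 1, 1, 3, 1, 2, 1, 1, 3, 0], [1, 2, 0, 0, 3, 0, 2, 0, 0, 3, 0, 0])]⟩,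
  ⟨[23, 4, 40, 5, 13, 15], [16, 4, 2, 8, 10, 3, 5, 6, 8], [([0, 2, 0, 2, 1, 2, 1, 3, 1, 1, 3], [2, 0, 0, 2, 0, 3, 0, 3, 1, 3, 1]), ([4], [4]), ([1, 3, 1, 1, 1, 2, 1, 2, 1, 1, 2, 1, 1, 3, 1, 2, 1, 1, 3, 0, 1, 2, 1, 1, 2, 0, 0, 3, 0, 2, 3, 0, 3, 0, 0, 0, 2, 0], [2, 1, 1, 1, 3, 1, 2, 1, 1, 1, 2]), ([5], [5]), ([0, 0, 2, 0, 3, 0, 2, 0, 0, 2, 0, 3, 0, 2], [3, 1, 2, 1, 3, 1, 1, 3, 1, 2, 1, 3, 1, 1]), ([1, 1, 2, 1, 1, 3, 1, 2, 1, 1, 3, 0], [1, 2, 0, 0, 3, 0, 2, 0, 0, 3, 0, 0])]⟩,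
  ⟨[16, 4, 50, 13, 51, 5], [10, 4, 0, 6, 12, 16, 0, 6, 0, 6, 12, 16, 0, 5], [([1, 2, 1, 1, 2, 0, 0, 3, 0, 2], [1, 2, 1, 1, 2, 0, 0, 3, 0, 2]), ([4], [4]), ([0, 3, 0, 3, 0, 3, 1, 3, 0, 2, 0, 0, 2, 0, 3, 0, 2, 0, 0, 2, 0, 3, 0, 2, 0, 2, 1, 2, 0, 3, 0, 2, 1, 3, 0, 3, 0, 2, 0, 2, 1, 2, 1, 3, 1, 1, 3, 0, 3, 0, 3, 0, 3, 1, 3, 0, 2], [1, 1, 2, 0, 0, 3, 0, 3, 0, 3, 0, 2, 0]), ([0, 0, 2, 0, 3, 0, 2, 0, 0, 2, 0, 3, 0, 2], [3, 1, 2, 1, 3, 1, 1, 3, 1, 2, 1, 3, 1, 1]), ([0, 3, 0, 3, 0, 3, 1, 3, 0, 2, 0, 0, 2, 0, 3, 0, 2, 0, 0, 2, 0, 3, 0, 2, 0, 2, 1, 2, 0, 3, 0, 2, 1, 3, 0, 3, 0, 2, 0, 2, 1, 2, 1, 3, 1, 1, 3, 0, 3, 0, 3, 0, 3, 1, 3, 0, 2], [1, 3, 1, 2, 1, 2, 1, 2,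 1, 1, 3, 0, 0]), ([5], [5])]⟩,
  ⟨[17, 4, 50, 13, 51, 5], [10, 4, 0, 6, 12, 16, 0, 6, 0, 6, 12, 16, 0, 5], [([1, 2, 1, 1, 2, 0, 0, 3, 0, 2], [3, 1, 2, 1, 1, 3, 0, 0, 3, 0]), ([4], [4]), ([0, 3, 0, 3, 0, 3, 1, 3, 0, 2, 0, 0, 2, 0, 3, 0, 2, 0, 0, 2, 0, 3, 0, 2, 0, 2, 1, 2, 0, 3, 0, 2, 1, 3, 0, 3, 0, 2, 0, 2, 1, 2, 1, 3, 1, 1, 3, 0, 3, 0, 3, 0, 3, 1, 3, 0, 2], [1, 1, 2, 0, 0, 3, 0, 3, 0, 3, 0, 2, 0]), ([0, 0, 2, 0, 3, 0, 2, 0, 0, 2, 0, 3, 0, 2], [3, 1, 2, 1, 3, 1, 1, 3, 1, 2, 1, 3, 1, 1]), ([0, 3, 0, 3, 0, 3, 1, 3, 0, 2, 0, 0, 2, 0, 3, 0, 2, 0, 0, 2, 0, 3, 0, 2, 0, 2, 1, 2, 0, 3, 0, 2, 1, 3, 0, 3, 0, 2, 0, 2, 1, 2, 1, 3, 1, 1, 3, 0, 3, 0, 3, 0, 3, 1, 3,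 0, 2], [1, 3, 1, 2, 1, 2, 1, 2, 1, 1, 3, 0, 0]), ([5], [5])]⟩,
  ⟨[18, 4, 50, 5, 13, 41], [12, 4, 0, 6, 12, 16, 0, 5, 6, 2, 8, 10, 3], [([0, 2, 1, 2, 0, 3, 0, 2, 1, 3, 0, 3], [0, 2, 1, 2, 0, 3, 0, 2, 1, 3, 0, 3]), ([4], [4]), ([0, 3, 0, 3, 0, 3, 1, 3, 0, 2, 0, 0, 2, 0, 3, 0, 2, 0, 0, 2, 0, 3, 0, 2, 0, 2, 1, 2, 0, 3, 0, 2, 1, 3, 0, 3, 0, 2, 0, 2, 1, 2, 1, 3, 1, 1, 3, 0, 3, 0, 3, 0, 3, 1, 3, 0, 2], [1, 1, 2, 0, 0, 3, 0, 3, 0, 3, 0, 2, 0]), ([5], [5]), ([0, 0, 2, 0, 3, 0, 2, 0, 0, 2, 0, 3, 0, 2], [3, 1, 2, 1, 3, 1, 1, 3, 1, 2, 1, 3, 1, 1]), ([1, 3, 1, 1, 1, 2, 1, 2, 1, 1, 2, 1, 1, 3, 1, 2, 1, 1, 3, 0, 1, 2, 1, 1, 2, 0, 0, 3, 0, 2, 3, 0, 3, 0, 0, 0, 2, 0],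 [3, 0, 0, 0, 3, 0, 2, 0, 0, 0, 3])]⟩,
  ⟨[19, 4, 50, 5, 13, 41], [12, 4, 0, 6, 12, 16, 0, 5, 6, 2, 8, 10, 3], [([0, 2, 1, 2, 0, 3, 0, 2, 1, 3, 0, 3], [2, 1, 2, 0, 3, 1, 2, 1, 3, 0, 3, 1]), ([4], [4]), ([0, 3, 0, 3, 0, 3, 1, 3, 0, 2, 0, 0, 2, 0, 3, 0, 2, 0, 0, 2, 0, 3, 0, 2, 0, 2, 1, 2, 0, 3, 0, 2, 1, 3, 0, 3, 0, 2, 0, 2, 1, 2, 1, 3, 1, 1, 3, 0, 3, 0, 3, 0, 3, 1, 3, 0, 2], [1, 1, 2, 0, 0, 3, 0, 3, 0, 3, 0, 2, 0]), ([5], [5]), ([0, 0, 2, 0, 3, 0, 2, 0, 0, 2, 0, 3, 0, 2], [3, 1, 2, 1, 3, 1, 1, 3, 1, 2, 1, 3, 1, 1]), ([1, 3, 1, 1, 1, 2, 1, 2, 1, 1, 2, 1, 1, 3, 1, 2, 1, 1, 3, 0, 1, 2, 1, 1, 2, 0, 0, 3, 0, 2, 3, 0, 3, 0, 0, 0, 2, 0], [3, 0, 0, 0, 3, 0, 2, 0,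 0, 0, 3])]⟩,
  ⟨[20, 4, 50, 15, 51, 5], [14, 4, 0, 6, 12, 16, 0, 8, 0, 6, 12, 16, 0, 5], [([1, 1, 1, 2, 0, 3, 0, 2, 1, 2, 0, 2], [1, 1, 1, 2, 0, 3, 0, 2, 1, 2, 0, 2]), ([4], [4]), ([0, 3, 0, 3, 0, 3, 1, 3, 0, 2, 0, 0, 2, 0, 3, 0, 2, 0, 0, 2, 0, 3, 0, 2, 0, 2, 1, 2, 0, 3, 0, 2, 1, 3, 0, 3, 0, 2, 0, 2, 1, 2, 1, 3, 1, 1, 3, 0, 3, 0, 3, 0, 3, 1, 3, 0, 2], [1, 1, 2, 0, 0, 3, 0, 3, 0, 3, 0, 2, 0]), ([1, 1, 2, 1, 1, 3, 1, 2, 1, 1, 3, 0], [1, 2, 0, 0, 3, 0, 2, 0, 0, 3, 0, 0]), ([0, 3, 0, 3, 0, 3, 1, 3, 0, 2, 0, 0, 2, 0, 3, 0, 2, 0, 0, 2, 0, 3, 0, 2, 0, 2, 1, 2, 0, 3, 0, 2, 1, 3, 0, 3, 0, 2, 0, 2, 1, 2, 1, 3, 1, 1, 3, 0, 3, 0, 3, 0, 3, 1, 3, 0, 2], [1, 3, 1, 2,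 1, 2, 1, 2, 1, 1, 3, 0, 0]), ([5], [5])]⟩,
  ⟨[21, 4, 50, 15, 51, 5], [14, 4, 0, 6, 12, 16, 0, 8, 0, 6, 12, 16, 0, 5], [([1, 1, 1, 2, 0, 3, 0, 2, 1, 2, 0, 2], [3, 1, 3, 0, 3, 1, 2, 1, 3, 0, 0, 0]), ([4], [4]), ([0, 3, 0, 3, 0, 3, 1, 3, 0, 2, 0, 0, 2, 0, 3, 0, 2, 0, 0, 2, 0, 3, 0, 2, 0, 2, 1, 2, 0, 3, 0, 2, 1, 3, 0, 3, 0, 2, 0, 2, 1, 2, 1, 3, 1, 1, 3, 0, 3, 0, 3, 0, 3, 1, 3, 0, 2], [1, 1, 2, 0, 0, 3, 0, 3, 0, 3, 0, 2, 0]), ([1, 1, 2, 1, 1, 3, 1, 2, 1, 1, 3, 0], [1, 2, 0, 0, 3, 0, 2, 0, 0, 3, 0, 0]), ([0, 3, 0, 3, 0, 3, 1, 3, 0, 2, 0, 0, 2, 0, 3, 0, 2, 0, 0, 2, 0, 3, 0, 2, 0, 2, 1, 2, 0, 3, 0, 2, 1, 3, 0, 3, 0, 2, 0, 2, 1, 2, 1, 3, 1, 1, 3, 0, 3, 0, 3,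 0, 3, 1, 3, 0, 2], [1, 3, 1, 2, 1, 2, 1, 2, 1, 1, 3, 0, 0]), ([5], [5])]⟩,
  ⟨[40, 4, 50, 5, 13, 19], [2, 8, 10, 3, 4, 0, 6, 12, 16, 0, 5, 6, 12], [([1, 3, 1, 1, 1, 2, 1, 2, 1, 1, 2, 1, 1, 3, 1, 2, 1, 1, 3, 0, 1, 2, 1, 1, 2, 0, 0, 3, 0, 2, 3, 0, 3, 0, 0, 0, 2, 0], [2, 1, 1, 1, 3, 1, 2, 1, 1, 1, 2]), ([4], [4]), ([0, 3, 0, 3, 0, 3, 1, 3, 0, 2, 0, 0, 2, 0, 3, 0, 2, 0, 0, 2, 0, 3, 0, 2, 0, 2, 1, 2, 0, 3, 0, 2, 1, 3, 0, 3, 0, 2, 0, 2, 1, 2, 1, 3, 1, 1, 3, 0, 3, 0, 3, 0, 3, 1, 3, 0, 2], [1, 1, 2, 0, 0, 3, 0, 3, 0, 3, 0, 2, 0]), ([5], [5]), ([0, 0, 2, 0, 3, 0, 2, 0, 0, 2, 0, 3, 0, 2], [3, 1, 2, 1, 3, 1, 1, 3, 1, 2, 1, 3, 1, 1]), ([0, 2, 1, 2, 0, 3, 0, 2, 1,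 3, 0, 3], [2, 1, 2, 0, 3, 1, 2, 1, 3, 0, 3, 1])]⟩,
  ⟨[41, 4, 50, 5, 13, 19], [2, 8, 10, 3, 4, 0, 6, 12, 16, 0, 5, 6, 12], [([1, 3, 1, 1, 1, 2, 1, 2, 1, 1, 2, 1, 1, 3, 1, 2, 1, 1, 3, 0, 1, 2, 1, 1, 2, 0, 0, 3, 0, 2, 3, 0, 3, 0, 0, 0, 2, 0], [3, 0, 0, 0, 3, 0, 2, 0, 0, 0, 3]), ([4], [4]), ([0, 3, 0, 3, 0, 3, 1, 3, 0, 2, 0, 0, 2, 0, 3, 0, 2, 0, 0, 2, 0, 3, 0, 2, 0, 2, 1, 2, 0, 3, 0, 2, 1, 3, 0, 3, 0, 2, 0, 2, 1, 2, 1, 3, 1, 1, 3, 0, 3, 0, 3, 0, 3, 1, 3, 0, 2], [1, 1, 2, 0, 0, 3, 0, 3, 0, 3, 0, 2, 0]), ([5], [5]), ([0, 0, 2, 0, 3, 0, 2, 0, 0, 2, 0, 3, 0, 2], [3, 1, 2, 1, 3, 1, 1, 3, 1, 2, 1, 3, 1, 1]), ([0, 2, 1, 2, 0, 3, 0, 2, 1, 3, 0, 3], [2, 1, 2, 0,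 3, 1, 2, 1, 3, 0, 3, 1])]⟩,
  ⟨[8, 5, 50, 4, 9, 27], [0, 5, 0, 6, 12, 16, 0, 4, 0, 8, 10, 12], [([0, 3, 0, 3, 0, 3, 1, 3, 0, 2], [0, 3, 0, 3, 0, 3, 1, 3, 0, 2]), ([5], [5]), ([0, 3, 0, 3, 0, 3, 1, 3, 0, 2, 0, 0, 2, 0, 3, 0, 2, 0, 0, 2, 0, 3, 0, 2, 0, 2, 1, 2, 0, 3, 0, 2, 1, 3, 0, 3, 0, 2, 0, 2, 1, 2, 1, 3, 1, 1, 3, 0, 3, 0, 3, 0, 3, 1, 3, 0, 2], [1, 1, 2, 0, 0, 3, 0, 3, 0, 3, 0, 2, 0]), ([4], [4]), ([0, 3, 0, 3, 0, 3, 1, 3, 0, 2], [3, 1, 2, 0, 2, 1, 2, 1, 2, 1]), ([1, 1, 2, 1, 1, 3, 1, 2, 1, 1, 3, 0, 1, 2, 1, 1, 2, 0, 0, 3, 0, 2, 0, 2, 1, 2, 0, 3, 0, 2, 1, 3, 0, 3], [3, 0, 0, 3, 1, 3, 0, 2, 1, 1, 1, 3])]⟩,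
  ⟨[9, 5, 50, 4, 9, 27], [0, 5, 0, 6, 12, 16, 0, 4, 0, 8, 10, 12], [([0, 3, 0, 3, 0, 3, 1, 3, 0, 2], [3, 1, 2, 0, 2, 1, 2, 1, 2, 1]), ([5], [5]), ([0, 3, 0, 3, 0, 3, 1, 3, 0, 2, 0, 0, 2, 0, 3, 0, 2, 0, 0, 2, 0, 3, 0, 2, 0, 2, 1, 2, 0, 3, 0, 2, 1, 3, 0, 3, 0, 2, 0, 2, 1, 2, 1, 3, 1, 1, 3, 0, 3, 0, 3, 0, 3, 1, 3, 0, 2], [1, 1, 2, 0, 0, 3, 0, 3, 0, 3, 0, 2, 0]), ([4], [4]), ([0, 3, 0, 3, 0, 3, 1, 3, 0, 2], [3, 1, 2, 0, 2, 1, 2, 1, 2, 1]), ([1, 1, 2, 1, 1, 3, 1, 2, 1, 1, 3, 0, 1, 2, 1, 1, 2, 0, 0, 3, 0, 2, 0, 2, 1, 2, 0, 3, 0, 2, 1, 3, 0, 3], [3, 0, 0, 3, 1, 3, 0, 2, 1, 1, 1, 3])]⟩,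
  ⟨[12, 5, 50, 4, 23, 41], [6, 5, 0, 6, 12, 16, 0, 4, 16, 2, 8, 10, 3], [([0, 0, 2, 0, 3, 0, 2, 0, 0, 2, 0, 3, 0, 2], [0, 0, 2, 0, 3, 0, 2, 0, 0, 2, 0, 3, 0, 2]), ([5], [5]), ([0, 3, 0, 3, 0, 3, 1, 3, 0, 2, 0, 0, 2, 0, 3, 0, 2, 0, 0, 2, 0, 3, 0, 2, 0, 2, 1, 2, 0, 3, 0, 2, 1, 3, 0, 3, 0, 2, 0, 2, 1, 2, 1, 3, 1, 1, 3, 0, 3, 0, 3, 0, 3, 1, 3, 0, 2], [1, 1, 2, 0, 0, 3, 0, 3, 0, 3, 0, 2, 0]), ([4], [4]), ([0, 2, 0, 2, 1, 2, 1, 3, 1, 1, 3], [2, 0, 0, 2, 0, 3, 0, 3, 1, 3, 1]), ([1, 3, 1, 1, 1, 2, 1, 2, 1, 1, 2, 1, 1, 3, 1, 2, 1, 1, 3, 0, 1, 2, 1, 1, 2, 0, 0, 3, 0, 2, 3, 0, 3, 0, 0, 0, 2, 0], [3, 0, 0, 0, 3, 0, 2, 0, 0, 0, 3])]⟩,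
  ⟨[13, 5, 50, 4, 23, 41], [6, 5, 0, 6, 12, 16, 0, 4, 16, 2, 8, 10, 3], [([0, 0, 2, 0, 3, 0, 2, 0, 0, 2, 0, 3, 0, 2], [3, 1, 2, 1, 3, 1, 1, 3, 1, 2, 1, 3, 1, 1]), ([5], [5]), ([0, 3, 0, 3, 0, 3, 1, 3, 0, 2, 0, 0, 2, 0, 3, 0, 2, 0, 0, 2, 0, 3, 0, 2, 0, 2, 1, 2, 0, 3, 0, 2, 1, 3, 0, 3, 0, 2, 0, 2, 1, 2, 1, 3, 1, 1, 3, 0, 3, 0, 3, 0, 3, 1, 3, 0, 2], [1, 1, 2, 0, 0, 3, 0, 3, 0, 3, 0, 2, 0]), ([4], [4]), ([0, 2, 0, 2, 1, 2, 1, 3, 1, 1, 3], [2, 0, 0, 2, 0, 3, 0, 3, 1, 3, 1]), ([1, 3, 1, 1, 1, 2, 1, 2, 1, 1, 2, 1, 1, 3, 1, 2, 1, 1, 3, 0, 1, 2, 1, 1, 2, 0, 0, 3, 0, 2, 3, 0, 3, 0, 0, 0, 2, 0], [3, 0, 0, 0, 3, 0, 2, 0, 0, 0, 3])]⟩,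
  ⟨[20, 5, 50, 5, 23, 5], [14, 5, 0, 6, 12, 16, 0, 5, 16, 5], [([1, 1, 1, 2, 0, 3, 0, 2, 1, 2, 0, 2], [1, 1, 1, 2, 0, 3, 0, 2, 1, 2, 0, 2]), ([5], [5]), ([0, 3, 0, 3, 0, 3, 1, 3, 0, 2, 0, 0, 2, 0, 3, 0, 2, 0, 0, 2, 0, 3, 0, 2, 0, 2, 1, 2, 0, 3, 0, 2, 1, 3, 0, 3, 0, 2, 0, 2, 1, 2, 1, 3, 1, 1, 3, 0, 3, 0, 3, 0, 3, 1, 3, 0, 2], [1, 1, 2, 0, 0, 3, 0, 3, 0, 3, 0, 2, 0]), ([5], [5]), ([0, 2, 0, 2, 1, 2, 1, 3, 1, 1, 3], [2, 0, 0, 2, 0, 3, 0, 3, 1, 3, 1]), ([5], [5])]⟩,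
  ⟨[21, 5, 50, 5, 23, 5], [14, 5, 0, 6, 12, 16, 0, 5, 16, 5], [([1, 1, 1, 2, 0, 3, 0, 2, 1, 2, 0, 2], [3, 1, 3, 0, 3, 1, 2, 1, 3, 0, 0, 0]), ([5], [5]), ([0, 3, 0, 3, 0, 3, 1, 3, 0, 2, 0, 0, 2, 0, 3, 0, 2, 0, 0, 2, 0, 3, 0, 2, 0, 2, 1, 2, 0, 3, 0, 2, 1, 3, 0, 3, 0, 2, 0, 2, 1, 2, 1, 3, 1, 1, 3, 0, 3, 0, 3, 0, 3, 1, 3, 0, 2], [1, 1, 2, 0, 0, 3, 0, 3, 0, 3, 0, 2, 0]), ([5], [5]), ([0, 2, 0, 2, 1, 2, 1, 3, 1, 1, 3], [2, 0, 0, 2, 0, 3, 0, 3, 1, 3, 1]), ([5], [5])]⟩,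
  ⟨[22, 5, 50, 4, 13, 41], [16, 5, 0, 6, 12, 16, 0, 4, 6, 2, 8, 10, 3], [([0, 2, 0, 2, 1, 2, 1, 3, 1, 1, 3], [0, 2, 0, 2, 1, 2, 1, 3, 1, 1, 3]), ([5], [5]), ([0, 3, 0, 3, 0, 3, 1, 3, 0, 2, 0, 0, 2, 0, 3, 0, 2, 0, 0, 2, 0, 3, 0, 2, 0, 2, 1, 2, 0, 3, 0, 2, 1, 3, 0, 3, 0, 2, 0, 2, 1, 2, 1, 3, 1, 1, 3, 0, 3, 0, 3, 0, 3, 1, 3, 0, 2], [1, 1, 2, 0, 0, 3, 0, 3, 0, 3, 0, 2, 0]), ([4], [4]), ([0, 0, 2, 0, 3, 0, 2, 0, 0, 2, 0, 3, 0, 2], [3, 1, 2, 1, 3, 1, 1, 3, 1, 2, 1, 3, 1, 1]), ([1, 3, 1, 1, 1, 2, 1, 2, 1, 1, 2, 1, 1, 3, 1, 2, 1, 1, 3, 0, 1, 2, 1, 1, 2, 0, 0, 3, 0, 2, 3, 0, 3, 0, 0, 0, 2, 0], [3, 0, 0, 0, 3, 0, 2, 0, 0, 0, 3])]⟩,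
  ⟨[23, 5, 50, 4, 13, 41], [16, 5, 0, 6, 12, 16, 0, 4, 6, 2, 8, 10, 3], [([0, 2, 0, 2, 1, 2, 1, 3, 1, 1, 3], [2, 0, 0, 2, 0, 3, 0, 3, 1, 3, 1]), ([5], [5]), ([0, 3, 0, 3, 0, 3, 1, 3, 0, 2, 0, 0, 2, 0, 3, 0, 2, 0, 0, 2, 0, 3, 0, 2, 0, 2, 1, 2, 0, 3, 0, 2, 1, 3, 0, 3, 0, 2, 0, 2, 1, 2, 1, 3, 1, 1, 3, 0, 3, 0, 3, 0, 3, 1, 3, 0, 2], [1, 1, 2, 0, 0, 3, 0, 3, 0, 3, 0, 2, 0]), ([4], [4]), ([0, 0, 2, 0, 3, 0, 2, 0, 0, 2, 0, 3, 0, 2], [3, 1, 2, 1, 3, 1, 1, 3, 1, 2, 1, 3, 1, 1]), ([1, 3, 1, 1, 1, 2, 1, 2, 1, 1, 2, 1, 1, 3, 1, 2, 1, 1, 3, 0, 1, 2, 1, 1, 2, 0, 0, 3, 0, 2, 3, 0, 3, 0, 0, 0, 2, 0], [3, 0, 0, 0, 3, 0, 2, 0, 0, 0, 3])]⟩,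
  ⟨[40, 5, 50, 4, 13, 23], [2, 8, 10, 3, 5, 0, 6, 12, 16, 0, 4, 6, 16], [([1, 3, 1, 1, 1, 2, 1, 2, 1, 1, 2, 1, 1, 3, 1, 2, 1, 1, 3, 0, 1, 2, 1, 1, 2, 0, 0, 3, 0, 2, 3, 0, 3, 0, 0, 0, 2, 0], [2, 1, 1, 1, 3, 1, 2, 1, 1, 1, 2]), ([5], [5]), ([0, 3, 0, 3, 0, 3, 1, 3, 0, 2, 0, 0, 2, 0, 3, 0, 2, 0, 0, 2, 0, 3, 0, 2, 0, 2, 1, 2, 0, 3, 0, 2, 1, 3, 0, 3, 0, 2, 0, 2, 1, 2, 1, 3, 1, 1, 3, 0, 3, 0, 3, 0, 3, 1, 3, 0, 2], [1, 1, 2, 0, 0, 3, 0, 3, 0, 3, 0, 2, 0]), ([4], [4]), ([0, 0, 2, 0, 3, 0, 2, 0, 0, 2, 0, 3, 0, 2], [3, 1, 2, 1, 3, 1, 1, 3, 1, 2, 1, 3, 1, 1]), ([0, 2, 0, 2, 1, 2, 1, 3, 1, 1, 3], [2, 0, 0, 2, 0, 3, 0, 3, 1, 3, 1])]⟩]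

/-- All relators of the subgroup. -/
def xrelsM24 : List (List Nat) := xcM24 ++ xpM24.map PCert.w

/-- All relators on the extended generators. -/
def erelsM24 : List (List Nat) := ecM24 ++ epM24.map PCert.w ++ exM24.map XCert.w

end Cfsg.Agent.TransvCent.Ext
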