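import Cfsg.Agent.Lib.TransvCent.Ext.Bound
import Cfsg.Agent.Lib.TransvCent.Ext.CertM24
import Cfsg.Agent.Lib.TransvCent.Ext.TableXM24
import Cfsg.Agent.Lib.TransvCent.Ext.TableM24

/-
The order bound for the amalgam presentation of M24 from the certificates.

* `m24_card` : the bound; `m24_xTable`, `m24_ok` : the checks
-/

set_option autoImplicit false
set_option maxRecDepth 100000
set_option maxHeartbeats 4000000

namespace Cfsg.Agent.TransvCent.Ext

open Cfsg.Agent.CosetEnum

/-- The certificates. -/
noncomputable def compM24 : CompData relsM24 where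
  hs := solvedM24
  nx := 8
  ne := 27
  imgX := subXM24
  img := imgM24
  DX := m24XImg
  xc := xcM24
  xp := xpM24
  ec := ecM24
  ep := epM24
  ex := exM24

theorem m24X_letters : (presSetup 8 compM24.xrels).lettersOK (presLetters 8) = true := by decide +kernel

theorem m24X_bound0 : Nat.card ((presSetup 8 compM24.xrels).letterGroup [6, 7, 8, 9, 10, 11, 12, 13, 14, 15, 16, 17]) ≤ 64 ∧ Nat.card ((presSetup 8 compM24.xrels).letterGroup [6, 7, 8, 9, 10, 11, 12, 13, 14, 15, 16, 17]) ≠ 0 := by
  exact Setup.card_step (presSetup_gens _ _) m24X_letters m24X0 m24X0_check [6, 7, 8, 9, 10, 11, 12, 13, 14, 15, 16, 17] (by decide +kernel)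
    [] [] [] (by decide +kernel) (by decide +kernel) (by simp) (by simp) (Setup.bound_nil _)

theorem m24X_bound1 : Nat.card ((presSetup 8 compM24.xrels).letterGroup [0, 1, 2, 3, 6, 7, 8, 9, 10, 11, 12, 13, 14, 15, 16, 17]) ≤ 3072 ∧ Nat.card ((presSetup 8 compM24.xrels).letterGroup [0, 1, 2, 3, 6, 7, 8, 9, 10, 11, 12, 13, 14, 15, 16, 17]) ≠ 0 := by
  exact Setup.card_step (presSetup_gens _ _) m24X_letters m24X1 m24X1_check [0, 1, 2, 3, 6, 7, 8, 9, 10, 11, 12, 13, 14, 15, 16, 17] (by decide +kernel)
    (genW 8 [6, 8, 10, 12, 14, 16]) [] [] (by decide +kernel) (by decide +kernel) (by simp) (by simp) (Setup.bound_closure (presSetup_gens _ _) m24X_letters m24X_bound0 (by decide +kernel))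

theorem m24X_bound2 : Nat.card ((presSetup 8 compM24.xrels).letterGroup (List.range (2 * (8 + 1)))) ≤ 138240 ∧ Nat.card ((presSetup 8 compM24.xrels).letterGroup (List.range (2 * (8 + 1)))) ≠ 0 := by
  have h0 := Setup.seed_fixes (S := (presSetup 8 compM24.xrels)) (hs := (genW 8 [0, 2, 6, 8, 10, 12, 14, 16])) (emb := (List.range (2 * (8 + 1)))) (presSetup_gens _ _) m24X_letters
    m24X2_seed0_check (by decide +kernel)
  have h1 := Setup.seed_fixes_ext (S := (presSetup 8 compM24.xrels)) (hs := (genW 8 [0, 2, 6, 8, 10, 12, 14, 16])) (emb := (List.range (2 * (8 + 1)))) (presSetup_gens _ _) m24X_letters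
    m24X2_seed1_check [m24X2_seed0.tgt] (by
      intro w hw
      simp only [List.mem_cons, List.not_mem_nil, or_false] at hw
      rcases hw with rfl <;> assumption) (by decide +kernel)
  exact Setup.card_step (presSetup_gens _ _) m24X_letters m24X2 m24X2_check (List.range (2 * (8 + 1))) (by decide +kernel)
    (genW 8 [0, 2, 6, 8, 10, 12, 14, 16]) [m24X2_seed0.tgt, m24X2_seed1.tgt] [] (by decide +kernel) (by decide +kernel) (by simp) (by
    intro w hw
    simp only [List.mem_cons, List.not_mem_nil, or_false] at hw
    rcases hw with rfl | rfl <;> assumption) (Setup.bound_closure (presSetup_gens _ _) m24X_letters m24X_bound1 (by decide +kernel))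

theorem m24X_card : Nat.card (presSetup 8 compM24.xrels).G ≤ 138240 ∧ Nat.card (presSetup 8 compM24.xrels).G ≠ 0 :=
  Setup.bound_univ (presSetup_gens _ _) m24X_letters m24X_bound2 (by decide +kernel)

theorem m24_xTable8 : XTable 8 compM24.xrels m24XImg := by
  have hp : m24XImg.permOK = true := by decide +kernel
  have hl : (presSetup 8 compM24.xrels).lettersOK m24XImg = true := by decide +kernel
  have hr : (presSetup 8 compM24.xrels).relsOK m24XImg = true := by decide +kernel
  have hc : Setup.chainOK m24XImg m24XImgChain [] = true := by decide +kernel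
  have hs : Setup.chainSize m24XImgChain = 138240 := by decide +kernel
  have hinj := (@Setup.card_eq_of_bounds _ _ (presSetup 8 compM24.xrels) m24XImg (presSetup_gens 8 compM24.xrels) hl
    (Data.permFacts hp) hr m24XImgChain hc 138240 m24X_card hs).2
  have hk : m24XImg.k = 2 * (8 + 1) := by decide +kernel
  exact XTable.mk (Data.permFacts hp) hk hl hr hinj

theorem m24_xTable : XTable compM24.nx compM24.xrels compM24.DX := m24_xTable8

theorem m24_ok : compM24.ok = true := by decide +kernel

theorem m24_lt : lettersLt (2 * (27 + 1)) compM24.erels = true := by decide +kernel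

theorem m24_card : Nat.card (presSetup compM24.ne compM24.erels).G ≤ 244823040 ∧
    Nat.card (presSetup compM24.ne compM24.erels).G ≠ 0 := by
  have hl : (presSetup 27 compM24.erels).lettersOK (presLetters 27) = true := by decide +kernel
  have hK := bound_hom (ne := 27) m24X_card [4, 5, 2, 6, 7, 8, 9, 10, 11] (erels := compM24.erels)
    (by decide +kernel) m24_lt rfl (by decide +kernel)
  have h := Setup.card_step (presSetup_gens _ _) hl m24Table m24Table_check (List.range (2 * (27 + 1)))
    (by decide +kernel) (genW 27 (List.map (2 * ·) [4, 5, 2, 6, 7, 8, 9, 10, 11])) []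
    (allLoops 27 compM24.erels) (by decide +kernel) (by decide +kernel) (allLoops_one m24_lt) (by simp) hK
  exact Setup.bound_univ (presSetup_gens _ _) hl h (by decide +kernel)

end Cfsg.Agent.TransvCent.Ext
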